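import Mathlib

/-!
# S0732 job P7a (helper58): existence of an odd permutation
-/

set_option autoImplicit false
set_option linter.style.haveILetI false

namespace Cfsg.Agent.Lib.Helper58.S0732P

/-- **Job P7a** of the S0732 project: the cyclic two-point stabiliser of order `p - 1` is
generated by a `(p - 1)`-cycle, an odd permutation. -/
theorem exists_odd_perm {α : Type*} [Fintype α] [DecidableEq α] (G : Subgroup (Equiv.Perm α))
    {p : ℕ} (hp : p.Prime) (hp2 : p ≠ 2) (hα : Fintype.card α = p + 1) (a b : α) (hab : a ≠ b)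
    (P : Subgroup G) (hPcard : Nat.card P = p) (hPa : P ≤ MulAction.stabilizer G a)
    (hPn : ∀ g ∈ MulAction.stabilizer G a, ∀ u ∈ P, g * u * g⁻¹ ∈ P)
    (hPfix : ∀ u ∈ P, u ≠ 1 → ∀ c : α, u • c = c → c = a)
    (hH : Nat.card ↥(MulAction.stabilizer G a ⊓ MulAction.stabilizer G b) = p - 1)
    (h3 : ∀ g : G, ∀ c : α, c ≠ a → c ≠ b → g • a = a → g • b = b → g • c = c → g = 1) :
    ∃ g : G, Equiv.Perm.sign (g : Equiv.Perm α) = -1 := by
  classical
  haveI : Fact p.Prime := ⟨hp⟩
  have hp3 : 3 ≤ p := by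
    have := hp.two_le
    omega
  -- the subgroup `K = P` inside `G_a`
  haveI hKn : (P.subgroupOf (MulAction.stabilizer G a)).Normal := by
    refine ⟨fun n hn g => ?_⟩
    rw [Subgroup.mem_subgroupOf] at hn ⊢
    exact hPn g g.2 n hn
  have hKcard : Nat.card ↥(P.subgroupOf (MulAction.stabilizer G a)) = p := by
    rw [Nat.card_congr (Subgroup.subgroupOfEquivOfLe hPa).toEquiv, hPcard]
  haveI : IsCyclic ↥(P.subgroupOf (MulAction.stabilizer G a)) := isCyclic_of_prime_card hKcard
  haveI : Fact (Nat.card ↥(P.subgroupOf (MulAction.stabilizer G a))).Prime := ⟨by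
    rw [hKcard]; exact hp⟩
  haveI : IsCyclic (MulAut ↥(P.subgroupOf (MulAction.stabilizer G a))) :=
    isCyclic_of_surjective
      (IsCyclic.mulAutMulEquiv ↥(P.subgroupOf (MulAction.stabilizer G a))).symm
      (IsCyclic.mulAutMulEquiv ↥(P.subgroupOf (MulAction.stabilizer G a))).symm.surjective
  -- a nontrivial element of `P`
  obtain ⟨u₀, hu₀P, hu₀⟩ : ∃ u₀ ∈ P, u₀ ≠ 1 := by
    by_contra hcon
    push Not at hcon
    have hbot : P = ⊥ := by
      rw [eq_bot_iff]
      intro u hu
      rw [Subgroup.mem_bot]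
      exact hcon u hu
    rw [hbot, Subgroup.card_bot] at hPcard
    omega
  have hu₀a : u₀ • a = a := MulAction.mem_stabilizer_iff.mp (hPa hu₀P)
  -- the conjugation action of `H` on `P`
  let f : ↥(MulAction.stabilizer G a ⊓ MulAction.stabilizer G b) →*
      MulAut ↥(P.subgroupOf (MulAction.stabilizer G a)) :=
    (MulAut.conjNormal).comp (Subgroup.inclusion inf_le_left)
  have hf : Function.Injective f := by
    rw [injective_iff_map_eq_one]
    intro h hh
    have h1 : (f h) ⟨⟨u₀, hPa hu₀P⟩, Subgroup.mem_subgroupOf.mpr hu₀P⟩ =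
        ⟨⟨u₀, hPa hu₀P⟩, Subgroup.mem_subgroupOf.mpr hu₀P⟩ := by rw [hh]; rfl
    have h2 : ((h : G) * u₀ * (h : G)⁻¹ : G) = u₀ := by
      have h3' := congrArg (fun z : ↥(P.subgroupOf (MulAction.stabilizer G a)) =>
        ((z : ↥(MulAction.stabilizer G a)) : G)) h1
      simpa [f, MulAut.conjNormal_apply] using h3'
    have hha : (h : G) • a = a := MulAction.mem_stabilizer_iff.mp h.2.1
    have hhb : (h : G) • b = b := MulAction.mem_stabilizer_iff.mp h.2.2
    have hc : (h : G) • (u₀ • b) = u₀ • b := by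
      have h4 : (h : G) * u₀ = u₀ * (h : G) := by
        calc (h : G) * u₀ = (h : G) * u₀ * (h : G)⁻¹ * (h : G) := by group
          _ = u₀ * (h : G) := by rw [h2]
      rw [← mul_smul, h4, mul_smul, hhb]
    have hca : u₀ • b ≠ a := by
      intro h5
      apply hab
      have h6 : u₀ • b = u₀ • a := by rw [h5, hu₀a]
      exact (smul_left_cancel u₀ h6).symm
    have hcb : u₀ • b ≠ b := by
      intro h5
      exact hab (hPfix u₀ hu₀P hu₀ b h5).symm
    exact Subtype.ext (h3 (h : G) (u₀ • b) hca hcb hha hhb hc)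
  haveI : IsCyclic ↥(MulAction.stabilizer G a ⊓ MulAction.stabilizer G b) :=
    isCyclic_of_injective f hf
  obtain ⟨h, hgen⟩ := IsCyclic.exists_generator
    (α := ↥(MulAction.stabilizer G a ⊓ MulAction.stabilizer G b))
  have hha : (h : G) • a = a := MulAction.mem_stabilizer_iff.mp h.2.1
  have hhb : (h : G) • b = b := MulAction.mem_stabilizer_iff.mp h.2.2
  -- the generator is not the identity
  have hh1 : (h : G) ≠ 1 := by
    intro h1
    have hbot : ∀ x : ↥(MulAction.stabilizer G a ⊓ MulAction.stabilizer G b), x = 1 := by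
      intro x
      obtain ⟨k, rfl⟩ := Subgroup.mem_zpowers_iff.mp (hgen x)
      have : h = 1 := Subtype.ext h1
      rw [this, one_zpow]
    have hsub : Subsingleton ↥(MulAction.stabilizer G a ⊓ MulAction.stabilizer G b) :=
      ⟨fun x y => by rw [hbot x, hbot y]⟩
    have : Nat.card ↥(MulAction.stabilizer G a ⊓ MulAction.stabilizer G b) = 1 :=
      Nat.card_unique
    omega
  -- `H` acts regularly on the points other than `a`, `b`
  have hmove : ∀ (g : ↥(MulAction.stabilizer G a ⊓ MulAction.stabilizer G b)) (c : α), c ≠ a →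
      c ≠ b → (g : G) • c = c → g = 1 := by
    intro g c hca hcb hgc
    exact Subtype.ext (h3 (g : G) c hca hcb (MulAction.mem_stabilizer_iff.mp g.2.1)
      (MulAction.mem_stabilizer_iff.mp g.2.2) hgc)
  have hcard2 : Fintype.card {c : α // c ≠ a ∧ c ≠ b} = p - 1 := by
    rw [Fintype.card_subtype]
    have h1 : (Finset.univ.filter fun c : α => c ≠ a ∧ c ≠ b) =
        (Finset.univ.erase a).erase b := by
      ext c
      simp [and_comm]
    rw [h1, Finset.card_erase_of_mem (by simp [hab.symm]), Finset.card_erase_of_mem (by simp),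
      Finset.card_univ, hα]
    omega
  obtain ⟨c₀, hc₀⟩ : ∃ c₀ : α, c₀ ≠ a ∧ c₀ ≠ b := by
    have h1 : 0 < Fintype.card {c : α // c ≠ a ∧ c ≠ b} := by rw [hcard2]; omega
    obtain ⟨⟨c, hc⟩⟩ := Fintype.card_pos_iff.mp h1
    exact ⟨c, hc⟩
  have hsurj : ∀ y : α, y ≠ a → y ≠ b →
      ∃ g : ↥(MulAction.stabilizer G a ⊓ MulAction.stabilizer G b), (g : G) • c₀ = y := by
    let φ : ↥(MulAction.stabilizer G a ⊓ MulAction.stabilizer G b) → {c : α // c ≠ a ∧ c ≠ b} :=
      fun g => ⟨(g : G) • c₀, by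
        constructor
        · intro h5
          apply hc₀.1
          have h6 : (g : G) • c₀ = (g : G) • a := by
            rw [h5, MulAction.mem_stabilizer_iff.mp g.2.1]
          exact smul_left_cancel _ h6
        · intro h5
          apply hc₀.2
          have h6 : (g : G) • c₀ = (g : G) • b := by
            rw [h5, MulAction.mem_stabilizer_iff.mp g.2.2]
          exact smul_left_cancel _ h6⟩
    have hφinj : Function.Injective φ := by
      intro g₁ g₂ h12
      have h5 : (g₁ : G) • c₀ = (g₂ : G) • c₀ := congrArg Subtype.val h12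
      have h6 : ((g₂⁻¹ * g₁ : ↥(MulAction.stabilizer G a ⊓ MulAction.stabilizer G b)) : G) • c₀
          = c₀ := by
        rw [Subgroup.coe_mul, Subgroup.coe_inv, mul_smul, h5, inv_smul_smul]
      have h7 := hmove (g₂⁻¹ * g₁) c₀ hc₀.1 hc₀.2 h6
      exact (inv_mul_eq_one.mp h7).symm
    haveI : Fintype ↥(MulAction.stabilizer G a ⊓ MulAction.stabilizer G b) := Fintype.ofFinite _
    have hφbij : Function.Bijective φ := by
      rw [Fintype.bijective_iff_injective_and_card]
      refine ⟨hφinj, ?_⟩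
      rw [hcard2, ← Nat.card_eq_fintype_card, hH]
    intro y hya hyb
    obtain ⟨g, hg⟩ := hφbij.2 ⟨y, hya, hyb⟩
    exact ⟨g, congrArg Subtype.val hg⟩
  -- the permutation `h` is a cycle with support the complement of `{a, b}`
  have hfix : ∀ y : α, ((h : G) : Equiv.Perm α) y ≠ y → y ≠ a ∧ y ≠ b := by
    intro y hy
    constructor
    · rintro rfl
      exact hy hha
    · rintro rfl
      exact hy hhb
  have hmv : ∀ y : α, y ≠ a → y ≠ b → ((h : G) : Equiv.Perm α) y ≠ y := by
    intro y hya hyb hy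
    exact hh1 (congrArg Subtype.val (hmove h y hya hyb hy))
  have hcyc : ((h : G) : Equiv.Perm α).IsCycle := by
    refine ⟨c₀, hmv c₀ hc₀.1 hc₀.2, fun y hy => ?_⟩
    obtain ⟨hya, hyb⟩ := hfix y hy
    obtain ⟨g, hg⟩ := hsurj y hya hyb
    obtain ⟨k, rfl⟩ := Subgroup.mem_zpowers_iff.mp (hgen g)
    refine ⟨k, ?_⟩
    rw [← hg]
    simp
    rfl
  have hsupp : ((h : G) : Equiv.Perm α).support.card = p - 1 := by
    have h1 : ((h : G) : Equiv.Perm α).support = (Finset.univ.erase a).erase b := by
      ext c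
      rw [Equiv.Perm.mem_support]
      constructor
      · intro hc
        obtain ⟨hca, hcb⟩ := hfix c hc
        simp [hca, hcb]
      · intro hc
        simp only [Finset.mem_erase, Finset.mem_univ, and_true] at hc
        exact hmv c hc.2 hc.1
    rw [h1, Finset.card_erase_of_mem (by simp [hab.symm]), Finset.card_erase_of_mem (by simp),
      Finset.card_univ, hα]
    omega
  refine ⟨(h : G), ?_⟩
  rw [hcyc.sign, hsupp]
  have hev : Even (p - 1) := by
    rcases hp.eq_two_or_odd' with h2 | h2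
    · exact absurd h2 hp2
    · obtain ⟨k, hk⟩ := h2
      exact ⟨k, by omega⟩
  rw [hev.neg_one_pow]

end Cfsg.Agent.Lib.Helper58.S0732P
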