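import Mathlib
import Cfsg.Agent.S0035

/-!
# S0732 job P4 (helper58): a Frobenius group has a regular normal subgroup
-/

set_option autoImplicit false

namespace Cfsg.Agent.Lib.Helper58.S0732P

open scoped Pointwise

/-- **Job P4** of the S0732 project: a transitive group in which only the identity fixes two
points, with a nontrivial point stabiliser, has a regular normal subgroup (Frobenius). -/
theorem regular_normal_of_frobenius {G : Type*} [Group G] [Finite G] {Ω : Type*} [MulAction G Ω]
    [Fintype Ω] [MulAction.IsPretransitive G Ω]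
    (hstab : ∀ a b : Ω, a ≠ b → ∀ g : G, g • a = a → g • b = b → g = 1)
    (a₀ b₀ : Ω) (hab : a₀ ≠ b₀) (hne : MulAction.stabilizer G a₀ ≠ ⊥) :
    ∃ N : Subgroup G, N.Normal ∧ MulAction.IsPretransitive N Ω ∧
      ∀ a : Ω, MulAction.stabilizer N a = ⊥ := by
  classical
  have hfrob : Cfsg.IsFrobeniusComplement (MulAction.stabilizer G a₀) := by
    refine ⟨hne, ?_, ?_⟩
    · intro htop
      obtain ⟨g, hg⟩ := MulAction.exists_smul_eq G a₀ b₀
      have h1 : g ∈ MulAction.stabilizer G a₀ := by rw [htop]; trivial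
      rw [MulAction.mem_stabilizer_iff] at h1
      exact hab (h1.symm.trans hg)
    · intro g hg
      rw [eq_bot_iff]
      intro x hx
      obtain ⟨hx1, hx2⟩ := hx
      rw [Subgroup.mem_bot]
      have hxa : x • a₀ = a₀ := MulAction.mem_stabilizer_iff.mp hx1
      have hxg : x • (g • a₀) = g • a₀ := by
        obtain ⟨h, hh, rfl⟩ := (Subgroup.mem_smul_pointwise_iff_exists _ _ _).mp hx2
        have hha : h • a₀ = a₀ := MulAction.mem_stabilizer_iff.mp hh
        rw [MulAut.smul_def, MulAut.conj_apply, ← mul_smul, inv_mul_cancel_right, mul_smul, hha]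
      have hne' : a₀ ≠ g • a₀ := fun h => hg (MulAction.mem_stabilizer_iff.mpr h.symm)
      exact hstab a₀ (g • a₀) hne' x hxa hxg
  obtain ⟨N, hNset, hNn, hNc⟩ := Cfsg.Agent.S0035.result (MulAction.stabilizer G a₀) hfrob
  have hsemi : ∀ a : Ω, MulAction.stabilizer N a = ⊥ := by
    intro a
    rw [eq_bot_iff]
    intro n hn
    rw [Subgroup.mem_bot]
    have hna : (n : G) • a = a := MulAction.mem_stabilizer_iff.mp hn
    obtain ⟨g, hg⟩ := MulAction.exists_smul_eq G a₀ a
    have hmem : (n : G) ∈ Cfsg.frobeniusKernel (MulAction.stabilizer G a₀) := by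
      rw [← hNset]; exact n.2
    rcases hmem with h1 | h1
    · exact Subtype.ext h1
    · exfalso
      apply h1 g
      rw [Subgroup.mem_smul_pointwise_iff_exists]
      refine ⟨g⁻¹ * (n : G) * g, ?_, ?_⟩
      · rw [MulAction.mem_stabilizer_iff, mul_smul, mul_smul, hg, hna, ← hg, inv_smul_smul]
      · rw [MulAut.smul_def, MulAut.conj_apply]
        group
  refine ⟨N, hNn, ?_, hsemi⟩
  have hcardN : Nat.card N = Nat.card Ω := by
    rw [← hNc.index_eq_card, MulAction.index_stabilizer_of_transitive]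
  have horb : MulAction.orbit N a₀ = Set.univ := by
    rw [Set.eq_univ_iff_ncard, ← MulAction.index_stabilizer, hsemi a₀, Subgroup.index_bot, hcardN]
  refine ⟨fun x y => ?_⟩
  have hx : x ∈ MulAction.orbit N a₀ := by rw [horb]; trivial
  have hy : y ∈ MulAction.orbit N a₀ := by rw [horb]; trivial
  obtain ⟨n₁, hn₁⟩ := hx
  obtain ⟨n₂, hn₂⟩ := hy
  refine ⟨n₂ * n₁⁻¹, ?_⟩
  rw [← hn₁, ← hn₂, mul_smul, inv_smul_smul]

end Cfsg.Agent.Lib.Helper58.S0732P
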