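import Mathlib
import Cfsg.Prelude.Def_JComponents
import Cfsg.Agent.Lib.Helper72.JMDefs
import Cfsg.Agent.Lib.Helper72.JPDefs
import Cfsg.Agent.Lib.Helper78.JNDefs

/-! Interface for the S2950 project JU (helper58): for `T ∈ 𝒯*(M)` and a `J(T)`-component
`K ∈ 𝒦₀(T)` outside `M`, every 2-local subgroup containing `⟨K, J(T)⟩` lies in the normalizer of
the product of the four-groups `W_{K'}`, `K'` running over the `N_G(J(T))`-conjugates of `K`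
normalizing `W_K`.  Definitions and the exact statements of the pieces. -/

set_option autoImplicit false

namespace Cfsg.Agent.Lib.Helper58.JU

open Cfsg.Agent.Lib.Helper78.Jc
open Cfsg.Agent.Lib.Helper72.SC
open Cfsg.Agent.Lib.Helper72.JL
open Cfsg.Agent.Lib.Helper72.JM
open Cfsg.Agent.Lib.Helper72.JP
open Cfsg.Agent.Lib.Helper78.JN

open scoped commutatorElement

universe u

/-- the conjugate subgroup `x K x⁻¹` -/
abbrev cg {G : Type*} [Group G] (x : G) (K : Subgroup G) : Subgroup G :=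
  K.map (MulAut.conj x).toMonoidHom

/-- the structure of a `J(T)`-component `K` (the part of `KData` of Helper72.JMDefs not involving
`Z(T)`), with the four-group `W` as a parameter: `P = O₂(K)`, `k ∈ K` of order 3 -/
def KData0 {X : Type*} [Group X] (K W : Subgroup X) : Prop :=
  ∃ (P : Subgroup X) (k : X),
    P ≤ K ∧ (∀ p ∈ P, ∃ n : ℕ, p ^ 2 ^ n = 1) ∧ (∀ x ∈ K, (∃ n : ℕ, x ^ 2 ^ n = 1) → x ∈ P) ∧
    k ∈ K ∧ k ^ 3 = 1 ∧ (∀ x ∈ K, ∃ p ∈ P, ∃ i : ℕ, x = p * k ^ i) ∧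
    W ≤ P ∧ Nat.card ↥W = 4 ∧ (∀ w ∈ W, w * w = 1) ∧ (∀ w ∈ W, k * w * k⁻¹ ∈ W) ∧
    (∀ w ∈ W, k * w * k⁻¹ = w → w = 1) ∧
    (∀ u ∈ P, (∀ p ∈ P, u * p = p * u) → u * u = 1 → ⁅u, k⁆ ∈ W)

/-- JU-KD0 -/
def Kd0Stmt.{w} : Prop :=
  ∀ (G : Type w) [Group G] [Finite G] (T K : Subgroup G), Cfsg.IsJComponent T K →
    KData0 K (Cfsg.wOf K)

/-- JU-KT0 -/
def Kt0Stmt.{w} : Prop :=
  ∀ (G : Type w) [Group G] (K W L : Subgroup G), K ≤ L → KData0 K W →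
    KData0 (K.subgroupOf L) (W.subgroupOf L)

/-- JU-CMX: in the setting, a second subgroup `K'` of the same kind normalizes `W` -/
def CmxStmt.{w} : Prop :=
  ∀ (X : Type w) [Group X] [Finite X] (T : Subgroup X), Setting X T →
    ∀ (𝒮 : Set (Subgroup X)) (K K' W : Subgroup X), (∀ A ∈ 𝒮, IsMaxEA T A) →
      ⁅K, sSup 𝒮⁆ = K → Subgroup.closure {g : X | g ∈ K ∧ Odd (orderOf g)} = K →
      ⁅K', sSup 𝒮⁆ = K' → Subgroup.closure {g : X | g ∈ K' ∧ Odd (orderOf g)} = K' →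
      Cfsg.pCore 2 X ≤ Subgroup.normalizer (K : Set X) → KData0 K W →
      ∀ g ∈ K', ∀ w ∈ W, g * w * g⁻¹ ∈ W

/-- JU-CMG: two `J(T)`-components of `L ∈ ℒ(T)`: the second normalizes `W` of the first -/
def CmgStmt.{w} : Prop :=
  ∀ (G : Type w) [Group G] [Finite G], ZNHyp G → ∀ T : Subgroup G, IsPGroup 2 ↥T → T ≠ ⊥ →
    ∀ L ∈ Cfsg.jOvergroups T, ∀ K K' : Subgroup G, Cfsg.IsJComponent T K →
      Cfsg.IsJComponent T K' → K ≤ L → K' ≤ L →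
      K' ≤ Subgroup.normalizer (Cfsg.wOf K : Set G)

/-- JU-WCONJ -/
def WConjStmt.{w} : Prop :=
  ∀ (G : Type w) [Group G] (K : Subgroup G) (x : G), Cfsg.wOf (cg x K) = cg x (Cfsg.wOf K)

/-- JU-CONJ -/
def ConjStmt.{w} : Prop :=
  ∀ (G : Type w) [Group G] [Finite G] (T K : Subgroup G) (x : G), Cfsg.IsJComponent T K →
    x ∈ Subgroup.normalizer (Cfsg.thompsonSubgroupOf 2 T : Set G) →
    Cfsg.IsJComponent T (cg x K)

/-- the `N_G(J(T))`-conjugates of `K` -/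
def Orb {G : Type*} [Group G] (T K : Subgroup G) : Set (Subgroup G) :=
  {K' | ∃ x ∈ Subgroup.normalizer (Cfsg.thompsonSubgroupOf 2 T : Set G), K' = cg x K}

/-- the block of `K`: the `N_G(J(T))`-conjugates of `K` normalizing `W_K` -/
def Blk {G : Type*} [Group G] (T K : Subgroup G) : Set (Subgroup G) :=
  {K' | K' ∈ Orb T K ∧ K' ≤ Subgroup.normalizer (Cfsg.wOf K : Set G)}

/-- the subgroup generated by the `W_{K'}`, `K'` in the block of `K` -/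
def WB {G : Type*} [Group G] (T K : Subgroup G) : Subgroup G :=
  sSup {W | ∃ K' ∈ Blk T K, W = Cfsg.wOf K'}

/-- the context: what the hypotheses of S2950 give (by S2948, S2944) -/
structure Ctx {G : Type*} [Group G] (M T K : Subgroup G) : Prop where
  hzn : ZNHyp G
  hJM : Subgroup.normalizer (Cfsg.thompsonSubgroupOf 2 T : Set G) ≤ M
  hloc : ∀ H : Subgroup G, Cfsg.IsTwoLocal H → ¬ H ≤ M → Cfsg.thompsonSubgroupOf 2 T ≤ H →
    ∃ T₀ : Subgroup G, IsPGroup 2 ↥T₀ ∧ T₀ ≠ ⊥ ∧ H ∈ Cfsg.jOvergroups T₀ ∧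
      Cfsg.thompsonSubgroupOf 2 T₀ = Cfsg.thompsonSubgroupOf 2 T
  hsyl : ∀ H : Subgroup G, Cfsg.IsTwoLocal H → ¬ H ≤ M → T ≤ H → H ∈ Cfsg.jOvergroups T
  hK : Cfsg.IsJComponent T K
  hKM : ¬ K ≤ M
  hNK : Subgroup.normalizer (K : Set G) = Subgroup.normalizer (Cfsg.wOf K : Set G)

/-- JU-CTX -/
def CtxStmt.{w} : Prop :=
  ∀ (G : Type w) [Group G] [Finite G], Cfsg.IsCharacteristicTwoType G →
    (∀ N : Subgroup G, Cfsg.IsTwoLocal N → Group.IsSolvable ↥N) →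
    (∀ S : Sylow 2 G, Subgroup.centralizer (Cfsg.omegaCenterOf (S : Subgroup G) : Set G) ≤
      Subgroup.normalizer ((S : Subgroup G) : Set G)) →
    Cfsg.pCore 2 G = ⊥ → ∀ (S : Sylow 2 G) (M : Subgroup G), Cfsg.IsTwoLocal M →
    Subgroup.normalizer (Cfsg.thompsonSubgroupOf 2 (S : Subgroup G) : Set G) ≤ M →
    ∀ T : Subgroup G, T ∈ Cfsg.maxStraddlingTwoSubgroups M →
    ∀ K : Subgroup G, K ∈ Cfsg.jComponentsOutside M T → Ctx M T K

/-- JU-ORB -/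
def OrbStmt.{w} : Prop :=
  ∀ (G : Type w) [Group G] [Finite G] (M T K : Subgroup G), Ctx M T K →
    ∀ K₁ ∈ Orb T K, Cfsg.IsJComponent T K₁ ∧ ¬ K₁ ≤ M ∧
      Subgroup.normalizer (K₁ : Set G) = Subgroup.normalizer (Cfsg.wOf K₁ : Set G) ∧
      Cfsg.thompsonSubgroupOf 2 T ≤ Subgroup.normalizer (Cfsg.wOf K₁ : Set G) ∧
      K₁ ≤ Subgroup.normalizer (Cfsg.wOf K₁ : Set G) ∧
      Cfsg.IsTwoLocal (Subgroup.normalizer (Cfsg.wOf K₁ : Set G))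

/-- JU-BLK -/
def BlkStmt.{w} : Prop :=
  ∀ (G : Type w) [Group G] [Finite G] (M T K : Subgroup G), Ctx M T K →
    ∀ K₁ ∈ Orb T K, ∀ K₂ ∈ Orb T K, K₂ ≤ Subgroup.normalizer (Cfsg.wOf K₁ : Set G) →
      ∀ K₃ ∈ Orb T K, (K₃ ≤ Subgroup.normalizer (Cfsg.wOf K₁ : Set G) ↔
        K₃ ≤ Subgroup.normalizer (Cfsg.wOf K₂ : Set G))

/-- JU-WB -/
def WbStmt.{w} : Prop :=
  ∀ (G : Type w) [Group G] [Finite G] (M T K : Subgroup G), Ctx M T K →
    IsPGroup 2 ↥(WB T K) ∧ WB T K ≠ ⊥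

/-- JU-LE -/
def LeStmt.{w} : Prop :=
  ∀ (G : Type w) [Group G] [Finite G] (M T K : Subgroup G), Ctx M T K →
    ∀ H : Subgroup G, Cfsg.IsTwoLocal H → K ⊔ Cfsg.thompsonSubgroupOf 2 T ≤ H →
      H ≤ Subgroup.normalizer (WB T K : Set G)

end Cfsg.Agent.Lib.Helper58.JU
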