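import Mathlib
import Cfsg.Agent.Lib.Helper22.HPDefs
import Cfsg.Agent.Lib.Helper83.IrrBasic
import Cfsg.Agent.Lib.Helper82.PQ
import Cfsg.Agent.Lib.Helper67.BFZCENT
import Cfsg.Agent.Lib.Helper22.BFMain
import Cfsg.Agent.Lib.Helper83.Quot
import Cfsg.Agent.Lib.Helper83.Linear
import Cfsg.Agent.Lib.Helper4.CharDecomp
import Cfsg.Agent.Lib.Helper4.CharClosure
import Cfsg.Agent.Lib.Helper82.CharCore

/-!
# S4504 (helper22's HP project), top piece IRR: a faithful character of degree `(p - 1) / 2` of a
group with `p ∥ |G|` and no normal subgroup of order `p` is irreducible, and `p ≥ 5`.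
-/

set_option autoImplicit false
set_option linter.style.haveILetI false
set_option linter.unusedVariables false

namespace Cfsg.Agent.Lib.Helper58.HPT

open Cfsg Cfsg.Agent.Lib.Helper22.BFD Cfsg.Agent.Lib.Helper22.HPD
open scoped ComplexConjugate
open scoped commutatorElement
open Cfsg.Agent.Lib.Helper83

universe u

/-- TOP PIECE IRR -/
theorem hp_irr {G : Type u} [Group G] [Finite G] (p : ℕ) (hp : p.Prime) (hdiv : p ∣ Nat.card G)
    (hsq : ¬ p ^ 2 ∣ Nat.card G) (hnn : ∀ H : Subgroup G, H.Normal → Nat.card H ≠ p)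
    (χ : G → ℂ) (hχ : IsCharacter G χ) (hfaith : ∀ g : G, χ g = χ 1 → g = 1)
    (hdeg : 2 * charDegree χ + 1 = p) : IsIrrCharacter G χ ∧ 5 ≤ p := by
  classical
  haveI : Fact p.Prime := ⟨hp⟩
  haveI : Fintype G := Fintype.ofFinite G
  haveI : Finite (IrrCharacter G) := Cfsg.Agent.Lib.Helper82.finite_irrCharacter G
  haveI : Fintype (IrrCharacter G) := Fintype.ofFinite _
  obtain ⟨m, hm⟩ := Cfsg.Agent.Lib.Helper4.exists_decomp_of_isCharacter χ hχ
  have hχ1 : χ 1 = ((∑ ψ : IrrCharacter G, m ψ * charDegree ψ.1 : ℕ) : ℂ) := by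
    rw [hm]
    simp only [Finset.sum_apply, Pi.smul_apply, smul_eq_mul]
    push_cast
    refine Finset.sum_congr rfl fun ψ _ => ?_
    rw [(irr_degree ψ.2).2]
  have hdegχ : charDegree χ = ∑ ψ : IrrCharacter G, m ψ * charDegree ψ.1 := by
    show ⌊(χ 1).re⌋₊ = _
    rw [hχ1, Complex.natCast_re, Nat.floor_natCast]
  have hdegψ : ∀ ψ : IrrCharacter G, m ψ ≠ 0 → charDegree ψ.1 ≤ charDegree χ := by
    intro ψ hmψ
    rw [hdegχ]
    have h1 : m ψ * charDegree ψ.1 ≤ ∑ ψ' : IrrCharacter G, m ψ' * charDegree ψ'.1 :=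
      Finset.single_le_sum (f := fun ψ' : IrrCharacter G => m ψ' * charDegree ψ'.1)
        (fun _ _ => Nat.zero_le _) (Finset.mem_univ ψ)
    have h2 : charDegree ψ.1 ≤ m ψ * charDegree ψ.1 :=
      Nat.le_mul_of_pos_left _ (Nat.pos_of_ne_zero hmψ)
    exact h2.trans h1
  obtain ⟨z, hz⟩ := exists_prime_orderOf_dvd_card' p hdiv
  have hirr : IsIrrCharacter G χ := by
    by_cases hex : ∃ ψ₀ : IrrCharacter G, m ψ₀ ≠ 0 ∧ charDegree ψ₀.1 = charDegree χ
    · obtain ⟨ψ₀, hmψ₀, hψ₀deg⟩ := hex
      have hsplit : ∑ ψ : IrrCharacter G, m ψ * charDegree ψ.1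
          = m ψ₀ * charDegree ψ₀.1 + ∑ ψ ∈ Finset.univ.erase ψ₀, m ψ * charDegree ψ.1 :=
        (Finset.add_sum_erase _ _ (Finset.mem_univ ψ₀)).symm
      have hpos₀ := (irr_degree ψ₀.2).1
      have hle : m ψ₀ * charDegree ψ₀.1 ≤ charDegree ψ₀.1 := by
        have h1 : m ψ₀ * charDegree ψ₀.1 ≤ charDegree χ := by
          rw [hdegχ, hsplit]
          exact Nat.le_add_right _ _
        exact h1.trans (le_of_eq hψ₀deg.symm)
      have hm1 : m ψ₀ = 1 := by
        have h1 : 1 ≤ m ψ₀ := Nat.pos_of_ne_zero hmψ₀
        have h2 : m ψ₀ ≤ 1 := by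
          by_contra hcon
          have h3 : 2 ≤ m ψ₀ := by omega
          have h4 : 2 * charDegree ψ₀.1 ≤ m ψ₀ * charDegree ψ₀.1 :=
            Nat.mul_le_mul_right _ h3
          omega
        omega
      have hrest : ∑ ψ ∈ Finset.univ.erase ψ₀, m ψ * charDegree ψ.1 = 0 := by
        have h1 := hdegχ
        rw [hsplit, hm1, one_mul, ← hψ₀deg] at h1
        omega
      have hm0 : ∀ ψ : IrrCharacter G, ψ ≠ ψ₀ → m ψ = 0 := by
        intro ψ hψ
        have h1 := (Finset.sum_eq_zero_iff.mp hrest) ψ
          (Finset.mem_erase.mpr ⟨hψ, Finset.mem_univ _⟩)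
        rcases Nat.mul_eq_zero.mp h1 with h | h
        · exact h
        · exact absurd h (irr_degree ψ.2).1.ne'
      have hχeq : χ = ψ₀.1 := by
        rw [hm, Finset.sum_eq_single ψ₀ (fun ψ _ hψ => by rw [hm0 ψ hψ]; simp)
          (fun h => absurd (Finset.mem_univ _) h), hm1]
        simp
      rw [hχeq]
      exact ψ₀.2
    · exfalso
      push Not at hex
      have hlt : ∀ ψ : IrrCharacter G, m ψ ≠ 0 → 2 * charDegree ψ.1 + 1 < p := by
        intro ψ hmψ
        have h1 := hdegψ ψ hmψ
        have h2 := hex ψ hmψ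
        omega
      have key : ∀ ψ : IrrCharacter G, m ψ ≠ 0 →
          ∀ g ∈ Subgroup.normalClosure ({z} : Set G), ψ.1 (g ^ p) = ψ.1 1 := by
        intro ψ hmψ g hg
        by_cases hzN : z ∈ irrKer ψ
        · have h1 : Subgroup.normalClosure ({z} : Set G) ≤ irrKer ψ :=
            Subgroup.normalClosure_le_normal (by simpa using hzN)
          exact (mem_irrKer ψ _).mp ((irrKer ψ).pow_mem (h1 hg) p)
        · obtain ⟨ψ', hψ'⟩ := exists_inflate_eq (irrKer ψ) ψ (fun x hx => (mem_irrKer ψ x).mp hx)
          have hval : ∀ g' : G, ψ'.1 (g' : G ⧸ irrKer ψ) = ψ.1 g' := by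
            intro g'
            exact congrArg (fun φ : IrrCharacter G => φ.1 g') hψ'
          have hfaith' : ∀ q : G ⧸ irrKer ψ, ψ'.1 q = ψ'.1 1 → q = 1 := by
            intro q hq
            obtain ⟨g', rfl⟩ := QuotientGroup.mk_surjective q
            have h1 : ψ.1 g' = ψ.1 1 := by
              rw [← hval g', ← hval 1]
              exact hq
            exact (QuotientGroup.eq_one_iff g').mpr ((mem_irrKer ψ g').mpr h1)
          have hcardQ : Nat.card (G ⧸ irrKer ψ) ∣ Nat.card G :=
            Subgroup.card_quotient_dvd_card (irrKer ψ)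
          have hordz : orderOf ((z : G ⧸ irrKer ψ)) = p := by
            have h1 : orderOf ((z : G ⧸ irrKer ψ)) ∣ p := by
              apply orderOf_dvd_of_pow_eq_one
              rw [← QuotientGroup.mk_pow, ← hz, pow_orderOf_eq_one]
              rfl
            rcases (Nat.dvd_prime hp).mp h1 with h2 | h2
            · exfalso
              apply hzN
              rw [orderOf_eq_one_iff] at h2
              exact (QuotientGroup.eq_one_iff z).mp h2
            · exact h2
          have hdivQ : p ∣ Nat.card (G ⧸ irrKer ψ) := hordz ▸ orderOf_dvd_natCard _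
          have hsqQ : ¬ p ^ 2 ∣ Nat.card (G ⧸ irrKer ψ) := fun h => hsq (h.trans hcardQ)
          have hdegQ : 2 * charDegree ψ'.1 + 1 < p := by
            have h1 := charDegree_inflate (irrKer ψ) ψ'
            rw [hψ'] at h1
            have h2 := hlt ψ hmψ
            omega
          have hexL : ∃ L : Subgroup (G ⧸ irrKer ψ), L.Normal ∧ Nat.card L = p := by
            by_contra hcon
            push Not at hcon
            have h1 := Cfsg.Agent.Lib.Helper22.BFT.main p hp hdivQ hsqQ (fun L hL => hcon L hL)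
              ψ'.1 (Cfsg.Agent.Lib.Helper4.isCharacter_of_irr ψ') hfaith'
            omega
          obtain ⟨L, hLn, hLp⟩ := hexL
          have hidx : ¬ p ∣ L.index := by
            intro h
            apply hsqQ
            rw [← Subgroup.card_mul_index L, hLp, pow_two]
            exact Nat.mul_dvd_mul_left p h
          have hmem : ∀ y : G ⧸ irrKer ψ, y ^ p = 1 → y ∈ L := by
            intro y hy
            haveI := hLn
            rw [← QuotientGroup.eq_one_iff]
            have h1 : orderOf ((y : (G ⧸ irrKer ψ) ⧸ L)) ∣ p := by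
              apply orderOf_dvd_of_pow_eq_one
              rw [← QuotientGroup.mk_pow, hy]
              rfl
            have h2 : orderOf ((y : (G ⧸ irrKer ψ) ⧸ L)) ∣ L.index := by
              rw [Subgroup.index]
              exact orderOf_dvd_natCard _
            rcases (Nat.dvd_prime hp).mp h1 with h3 | h3
            · exact orderOf_eq_one_iff.mp h3
            · exact absurd (h3 ▸ h2) hidx
          have hzL : (z : G ⧸ irrKer ψ) ∈ L := by
            apply hmem
            rw [← QuotientGroup.mk_pow, ← hz, pow_orderOf_eq_one]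
            rfl
          have hHL : Subgroup.normalClosure ({z} : Set G)
              ≤ L.comap (QuotientGroup.mk' (irrKer ψ)) := by
            haveI := hLn
            apply Subgroup.normalClosure_le_normal
            intro x hx
            rw [Set.mem_singleton_iff] at hx
            rw [hx]
            exact hzL
          have hgL : (g : G ⧸ irrKer ψ) ∈ L := hHL hg
          have h3 : ((g : G ⧸ irrKer ψ)) ^ p = 1 := by
            have h4 : (⟨_, hgL⟩ : L) ^ Nat.card L = 1 := pow_card_eq_one'
            rw [hLp] at h4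
            have h5 := congrArg (Subtype.val : L → G ⧸ irrKer ψ) h4
            simpa using h5
          have hgN : g ^ p ∈ irrKer ψ := by
            rw [← QuotientGroup.eq_one_iff, QuotientGroup.mk_pow]
            exact h3
          exact (mem_irrKer ψ _).mp hgN
      have hpow : ∀ g ∈ Subgroup.normalClosure ({z} : Set G), g ^ p = 1 := by
        intro g hg
        apply hfaith
        rw [hm]
        simp only [Finset.sum_apply, Pi.smul_apply, smul_eq_mul]
        refine Finset.sum_congr rfl fun ψ _ => ?_
        by_cases hmψ : m ψ = 0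
        · simp [hmψ]
        · rw [key ψ hmψ g hg]
      obtain ⟨H, hHdef⟩ : ∃ H : Subgroup G, H = Subgroup.normalClosure ({z} : Set G) :=
        ⟨_, rfl⟩
      have hHn : H.Normal := by
        rw [hHdef]
        exact Subgroup.normalClosure_normal
      have hpg : IsPGroup p H := fun g => ⟨1, by
        apply Subtype.ext
        have h1 := hpow g.1 (hHdef ▸ g.2)
        simpa using h1⟩
      obtain ⟨n, hn⟩ := IsPGroup.iff_card.mp hpg
      have hzH : z ∈ H := by
        rw [hHdef]
        exact Subgroup.subset_normalClosure (Set.mem_singleton z)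
      have hcardHG : Nat.card H ∣ Nat.card G := Subgroup.card_subgroup_dvd_card H
      have h1 : n ≠ 0 := by
        rintro rfl
        rw [pow_zero] at hn
        have hbot : H = ⊥ := Subgroup.card_eq_one.mp hn
        rw [hbot, Subgroup.mem_bot] at hzH
        rw [hzH, orderOf_one] at hz
        exact hp.one_lt.ne hz
      have h2 : n < 2 := by
        by_contra h
        apply hsq
        exact (pow_dvd_pow p (not_lt.mp h)).trans (hn ▸ hcardHG)
      have h3 : n = 1 := by omega
      rw [h3, pow_one] at hn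
      exact hnn H hHn hn
  refine ⟨hirr, ?_⟩
  by_contra hp5
  have hp2 := hp.two_le
  have hdeg1 : charDegree χ = 1 := by omega
  have hχ11 : χ 1 = 1 := (irr_charDegree_eq_one_iff hirr).mp hdeg1
  have hcomm : ∀ a b : G, a * b = b * a := by
    intro a b
    have hc : ⁅a, b⁆ ∈ commutator G := by
      rw [commutator_def]
      exact Subgroup.commutator_mem_commutator (Subgroup.mem_top a) (Subgroup.mem_top b)
    have h1 : χ ⁅a, b⁆ = χ 1 := by rw [irr_linear_commutator hirr hχ11 hc, hχ11]
    have h2 := hfaith _ h1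
    exact commutatorElement_eq_one_iff_mul_comm.mp h2
  apply hnn (Subgroup.zpowers z) ⟨fun x hx g => by
    have e : g * x * g⁻¹ = x := by
      rw [hcomm g x]; group
    rw [e]
    exact hx⟩
  rw [Nat.card_zpowers, hz]

end Cfsg.Agent.Lib.Helper58.HPT
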