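import Mathlib
import Cfsg.Prelude.Def_Amalgam

set_option autoImplicit false

namespace Cfsg.Agent.Lib.Helper58

open Cfsg

variable {G : Type*} [Group G]

/-! ### Basic facts on `pCore` and `pCoreOf` -/

theorem isPGroup_pCore (p : ℕ) (G : Type*) [Group G] : IsPGroup p ↥(pCore p G) := by
  unfold pCore
  exact Sylow.sSup_of_normal _ (fun H h => h.2) (fun H h => h.1)

theorem pCore_normal (p : ℕ) (G : Type*) [Group G] : (pCore p G).Normal := by
  unfold pCore
  exact Subgroup.sSup_normal _ (fun H h => h.1)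

theorem le_pCore {p : ℕ} {N : Subgroup G} (hN : N.Normal) (hp : IsPGroup p ↥N) :
    N ≤ pCore p G := by
  unfold pCore
  exact le_sSup ⟨hN, hp⟩

theorem pCore_le_sylow {p : ℕ} (P : Sylow p G) : pCore p G ≤ (P : Subgroup G) :=
  haveI := pCore_normal p G
  (isPGroup_pCore p G).le_sylow_of_normal P

theorem pCoreOf_le (p : ℕ) (L : Subgroup G) : pCoreOf p L ≤ L := by
  unfold pCoreOf
  exact Subgroup.map_subtype_le _

theorem isPGroup_pCoreOf (p : ℕ) (L : Subgroup G) : IsPGroup p ↥(pCoreOf p L) := by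
  unfold pCoreOf
  exact (isPGroup_pCore p ↥L).map _

theorem mem_pCoreOf_iff {p : ℕ} {L : Subgroup G} (x : ↥L) :
    (x : G) ∈ pCoreOf p L ↔ x ∈ pCore p ↥L := by
  unfold pCoreOf
  constructor
  · rintro ⟨y, hy, hyx⟩
    have : y = x := Subtype.ext hyx
    rw [← this]; exact hy
  · intro hx
    exact ⟨x, hx, rfl⟩

theorem le_normalizer_pCoreOf (p : ℕ) (L : Subgroup G) :
    L ≤ Subgroup.normalizer (pCoreOf p L : Set G) := by
  intro g hg
  have hn := pCore_normal p ↥L
  rw [Subgroup.mem_normalizer_iff]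
  intro h
  constructor
  · intro hh
    have hhL : h ∈ L := pCoreOf_le p L hh
    have h1 : (⟨h, hhL⟩ : ↥L) ∈ pCore p ↥L := (mem_pCoreOf_iff ⟨h, hhL⟩).mp hh
    have h2 := hn.conj_mem _ h1 ⟨g, hg⟩
    exact (mem_pCoreOf_iff _).mpr h2
  · intro hh
    have hhL : g * h * g⁻¹ ∈ L := pCoreOf_le p L hh
    have h1 : (⟨g * h * g⁻¹, hhL⟩ : ↥L) ∈ pCore p ↥L := (mem_pCoreOf_iff ⟨_, hhL⟩).mp hh
    have h2 := hn.conj_mem _ h1 (⟨g, hg⟩⁻¹)
    have h3 := (mem_pCoreOf_iff _).mpr h2
    simpa [mul_assoc] using h3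

/-- A `p`-subgroup of `L` normalized by `L` lies in `O_p(L)`. -/
theorem le_pCoreOf {p : ℕ} {N L : Subgroup G} (hNL : N ≤ L)
    (hn : L ≤ Subgroup.normalizer (N : Set G)) (hp : IsPGroup p ↥N) : N ≤ pCoreOf p L := by
  have h1 : (N.subgroupOf L).Normal := (Subgroup.normal_subgroupOf_iff_le_normalizer hNL).mpr hn
  have h2 : IsPGroup p ↥(N.subgroupOf L) := hp.comap_subtype
  have h3 : N.subgroupOf L ≤ pCore p ↥L := le_pCore h1 h2
  intro x hx
  exact (mem_pCoreOf_iff ⟨x, hNL hx⟩).mpr (h3 (Subgroup.mem_subgroupOf.mpr hx))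

theorem pCoreOf_top (p : ℕ) (G : Type*) [Group G] : pCoreOf p (⊤ : Subgroup G) = pCore p G := by
  have hn := pCore_normal p G
  apply le_antisymm
  · have h1 : (pCoreOf p (⊤ : Subgroup G)).Normal := by
      rw [← Subgroup.normalizer_eq_top_iff, eq_top_iff]
      exact le_normalizer_pCoreOf p ⊤
    exact le_pCore h1 (isPGroup_pCoreOf p ⊤)
  · exact le_pCoreOf le_top Subgroup.le_normalizer_of_normal (isPGroup_pCore p G)

/-- The restriction of conjugation by a normalizing element. -/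
def conjRestrict (N : Subgroup G) (g : G) (hg : g ∈ Subgroup.normalizer (N : Set G)) : ↥N ≃* ↥N where
  toFun x := ⟨g * x * g⁻¹, (Subgroup.mem_normalizer_iff.mp hg x).mp x.2⟩
  invFun x := ⟨g⁻¹ * x * g, by
    have := (Subgroup.mem_normalizer_iff.mp hg (g⁻¹ * x * g)).mpr (by simp [mul_assoc])
    exact this⟩
  left_inv x := by apply Subtype.ext; simp [mul_assoc]
  right_inv x := by apply Subtype.ext; simp [mul_assoc]
  map_mul' x y := by apply Subtype.ext; simp [mul_assoc]

theorem pCore_le_comap_equiv {p : ℕ} {G' : Type*} [Group G'] (e : G ≃* G') :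
    pCore p G ≤ (pCore p G').comap e.toMonoidHom := by
  unfold pCore
  refine sSup_le ?_
  rintro N ⟨hN, hp⟩
  rw [← Subgroup.map_le_iff_le_comap]
  refine le_sSup ⟨?_, ?_⟩
  · exact hN.map e.toMonoidHom e.surjective
  · exact hp.map e.toMonoidHom

/-- `O_p(N) ≤ O_p(L)` when `N ≤ L` is normalized by `L`. -/
theorem pCoreOf_le_pCoreOf_of_normal {p : ℕ} {N L : Subgroup G} (hNL : N ≤ L)
    (hn : L ≤ Subgroup.normalizer (N : Set G)) : pCoreOf p N ≤ pCoreOf p L := by
  apply le_pCoreOf (le_trans (pCoreOf_le p N) hNL) _ (isPGroup_pCoreOf p N)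
  intro g hg
  have hgN := hn hg
  have key : ∀ (g : G) (hgN : g ∈ Subgroup.normalizer (N : Set G)) (h : G), h ∈ pCoreOf p N →
      g * h * g⁻¹ ∈ pCoreOf p N := by
    intro g hgN h hh
    have hhN : h ∈ N := pCoreOf_le p N hh
    have h1 : (⟨h, hhN⟩ : ↥N) ∈ pCore p ↥N := (mem_pCoreOf_iff ⟨h, hhN⟩).mp hh
    have h2 := pCore_le_comap_equiv (p := p) (conjRestrict N g hgN) h1
    rw [Subgroup.mem_comap] at h2
    exact (mem_pCoreOf_iff _).mpr h2
  rw [Subgroup.mem_normalizer_iff]
  intro h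
  constructor
  · exact key g hgN h
  · intro hh
    have := key g⁻¹ (Subgroup.inv_mem _ hgN) _ hh
    simpa [mul_assoc] using this

/-- Characteristic `p` of a subgroup, in terms of subgroups of the ambient group. -/
theorem charP_subtype_iff {p : ℕ} (L : Subgroup G) :
    Subgroup.centralizer (pCore p ↥L : Set ↥L) ≤ pCore p ↥L ↔
      L ⊓ Subgroup.centralizer (pCoreOf p L : Set G) ≤ pCoreOf p L := by
  constructor
  · intro h x hx
    have hx1 : (⟨x, hx.1⟩ : ↥L) ∈ Subgroup.centralizer (pCore p ↥L : Set ↥L) := by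
      rw [Subgroup.mem_centralizer_iff]
      intro y hy
      apply Subtype.ext
      exact (Subgroup.mem_centralizer_iff.mp hx.2) y ((mem_pCoreOf_iff y).mpr hy)
    exact (mem_pCoreOf_iff _).mpr (h hx1)
  · intro h x hx
    apply (mem_pCoreOf_iff x).mp
    apply h
    refine Subgroup.mem_inf.mpr ⟨x.2, ?_⟩
    rw [Subgroup.mem_centralizer_iff]
    intro y hy
    have hyL : y ∈ L := pCoreOf_le p L hy
    have := (Subgroup.mem_centralizer_iff.mp hx) ⟨y, hyL⟩ ((mem_pCoreOf_iff ⟨y, hyL⟩).mp hy)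
    exact congrArg Subtype.val this

theorem charP_top_iff {p : ℕ} :
    Subgroup.centralizer (pCore p G : Set G) ≤ pCore p G ↔
      (⊤ : Subgroup G) ⊓ Subgroup.centralizer (pCoreOf p (⊤ : Subgroup G) : Set G) ≤ pCoreOf p ⊤ := by
  rw [pCoreOf_top, top_inf_eq]

/-! ### Elements of order prime to `p` -/

/-- Quadratic action: if `d` has order prime to `p` and commutes with the `p`-element
`d y d⁻¹ y⁻¹`, then `d` commutes with `y`. -/
theorem commute_of_quadratic {p : ℕ} (d y : G) (hd : (orderOf d).Coprime p)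
    (hz : ∃ k : ℕ, (d * y * d⁻¹ * y⁻¹) ^ (p ^ k) = 1) (hc : Commute d (d * y * d⁻¹ * y⁻¹)) :
    d * y = y * d := by
  set z := d * y * d⁻¹ * y⁻¹ with hzdef
  have h1 : ∀ n : ℕ, d ^ n * y * (d ^ n)⁻¹ = z ^ n * y := by
    intro n
    induction n with
    | zero => simp
    | succ n ih =>
      have hcn : Commute d (z ^ n) := hc.pow_right n
      calc d ^ (n + 1) * y * (d ^ (n + 1))⁻¹ = d * (d ^ n * y * (d ^ n)⁻¹) * d⁻¹ := by
            rw [pow_succ']; group
        _ = d * (z ^ n * y) * d⁻¹ := by rw [ih]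
        _ = z ^ n * (d * y * d⁻¹ * y⁻¹) * y := by
            rw [← mul_assoc, hcn.eq]; group
        _ = z ^ (n + 1) * y := by rw [← hzdef, ← pow_succ]
  have h2 := h1 (orderOf d)
  rw [pow_orderOf_eq_one] at h2
  have h3 : z ^ orderOf d = 1 := by
    have : y = z ^ orderOf d * y := by simpa using h2
    exact (mul_eq_right.mp this.symm)
  obtain ⟨k, hk⟩ := hz
  have h4 : z ^ (Nat.gcd (orderOf d) (p ^ k)) = 1 := pow_gcd_eq_one.mpr ⟨h3, hk⟩
  have h5 : Nat.gcd (orderOf d) (p ^ k) = 1 := Nat.Coprime.pow_right k hd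
  rw [h5, pow_one] at h4
  have h6 : d * y * d⁻¹ * y⁻¹ = 1 := h4
  have h7 : d * y * d⁻¹ = y := by
    rw [mul_inv_eq_one] at h6; exact h6
  rw [mul_inv_eq_iff_eq_mul] at h7
  exact h7

/-- A subgroup of a finite group whose elements of order prime to `p` are trivial is a `p`-group. -/
theorem isPGroup_of_coprime_trivial [Finite G] {p : ℕ} [hp : Fact p.Prime] (C : Subgroup G)
    (h : ∀ c ∈ C, (orderOf c).Coprime p → c = 1) : IsPGroup p ↥C := by
  rintro ⟨g, hg⟩
  have hn : orderOf g ≠ 0 := (orderOf_pos g).ne'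
  obtain ⟨k, m, hm, hkm⟩ := Nat.exists_eq_pow_mul_and_not_dvd hn p hp.out.ne_one
  refine ⟨k, ?_⟩
  apply Subtype.ext
  have hpk : p ^ k ≠ 0 := pow_ne_zero _ hp.out.ne_zero
  have h1 : orderOf (g ^ (p ^ k)) = m := by
    rw [orderOf_pow' g hpk, hkm]
    have : Nat.gcd (p ^ k * m) (p ^ k) = p ^ k := Nat.gcd_eq_right (dvd_mul_right _ _)
    rw [this, Nat.mul_div_cancel_left _ (Nat.pos_of_ne_zero hpk)]
  have h2 : (orderOf (g ^ (p ^ k))).Coprime p := by
    rw [h1]
    exact ((Nat.Prime.coprime_iff_not_dvd hp.out).mpr hm).symm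
  exact h _ (C.pow_mem hg _) h2

theorem eq_one_of_coprime_of_pElement {p : ℕ} (c : G) (hc : (orderOf c).Coprime p)
    (hk : ∃ k : ℕ, c ^ (p ^ k) = 1) : c = 1 := by
  obtain ⟨k, hk⟩ := hk
  have h1 : orderOf c ∣ p ^ k := orderOf_dvd_of_pow_eq_one hk
  have h2 : (orderOf c).Coprime (p ^ k) := Nat.Coprime.pow_right k hc
  have h3 : orderOf c = 1 := Nat.Coprime.eq_one_of_dvd h2 h1
  exact orderOf_eq_one_iff.mp h3

theorem exists_pow_eq_one_of_mem {p : ℕ} {H : Subgroup G} (hH : IsPGroup p ↥H) {x : G} (hx : x ∈ H) :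
    ∃ k : ℕ, x ^ (p ^ k) = 1 := by
  obtain ⟨k, hk⟩ := hH ⟨x, hx⟩
  exact ⟨k, by simpa using congrArg Subtype.val hk⟩


/-! ### Normalizer lemmas -/

theorem normalizer_le_normalizer_centralizer (H : Subgroup G) :
    Subgroup.normalizer (H : Set G) ≤ Subgroup.normalizer (Subgroup.centralizer (H : Set G) : Set G) := by
  intro g hg
  rw [Subgroup.mem_normalizer_iff]
  intro c
  constructor
  · intro hc
    rw [Subgroup.mem_centralizer_iff]
    intro h hh
    have h1 : g⁻¹ * h * g ∈ H := (Subgroup.mem_normalizer_iff''.mp hg h).mp hh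
    have h2 := (Subgroup.mem_centralizer_iff.mp hc) _ h1
    calc h * (g * c * g⁻¹) = g * (g⁻¹ * h * g * c) * g⁻¹ := by group
      _ = g * (c * (g⁻¹ * h * g)) * g⁻¹ := by rw [h2]
      _ = g * c * g⁻¹ * h := by group
  · intro hc
    rw [Subgroup.mem_centralizer_iff]
    intro h hh
    have h1 : g * h * g⁻¹ ∈ H := (Subgroup.mem_normalizer_iff.mp hg h).mp hh
    have h2 := (Subgroup.mem_centralizer_iff.mp hc) _ h1
    calc h * c = g⁻¹ * (g * h * g⁻¹ * (g * c * g⁻¹)) * g := by group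
      _ = g⁻¹ * (g * c * g⁻¹ * (g * h * g⁻¹)) * g := by rw [h2]
      _ = c * h := by group

theorem le_normalizer_inf_centralizer {L R : Subgroup G} (h : L ≤ Subgroup.normalizer (R : Set G)) :
    L ≤ Subgroup.normalizer ((L ⊓ Subgroup.centralizer (R : Set G) : Subgroup G) : Set G) :=
  le_trans (le_inf Subgroup.le_normalizer (le_trans h (normalizer_le_normalizer_centralizer R)))
    Subgroup.inf_normalizer_le_normalizer_inf

open scoped commutatorElement in
theorem le_normalizer_commutator_right (H K : Subgroup G) :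
    K ≤ Subgroup.normalizer ((⁅H, K⁆ : Subgroup G) : Set G) := by
  have key : ∀ k' ∈ K, ∀ x ∈ ⁅H, K⁆, k' * x * k'⁻¹ ∈ ⁅H, K⁆ := by
    intro k' hk' x hx
    have h1 : ⁅H, K⁆ ≤ (⁅H, K⁆ : Subgroup G).comap (MulAut.conj k').toMonoidHom := by
      rw [Subgroup.commutator_le]
      intro h hh k hk
      rw [Subgroup.mem_comap]
      have e : (MulAut.conj k').toMonoidHom ⁅h, k⁆ = ⁅h, k'⁆⁻¹ * ⁅h, k' * k⁆ := by
        simp only [MulEquiv.toMonoidHom_eq_coe, MonoidHom.coe_coe, MulAut.conj_apply,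
          commutatorElement_def]
        group
      rw [e]
      exact Subgroup.mul_mem _ (Subgroup.inv_mem _ (Subgroup.commutator_mem_commutator hh hk'))
        (Subgroup.commutator_mem_commutator hh (K.mul_mem hk' hk))
    have := h1 hx
    rw [Subgroup.mem_comap] at this
    simpa using this
  intro k' hk'
  rw [Subgroup.mem_normalizer_iff]
  intro x
  constructor
  · exact key k' hk' x
  · intro hx
    have := key k'⁻¹ (K.inv_mem hk') _ hx
    simpa [mul_assoc] using this

/-! ### Groups of characteristic `p` -/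

/-- Subgroups normalized by `O_p(G)` in a group of characteristic `p` have characteristic `p`. -/
theorem charP_of_normalized_by_pCore [Finite G] {p : ℕ} [Fact p.Prime]
    (hG : Subgroup.centralizer (pCore p G : Set G) ≤ pCore p G) (L : Subgroup G)
    (hL : pCore p G ≤ Subgroup.normalizer (L : Set G)) :
    L ⊓ Subgroup.centralizer (pCoreOf p L : Set G) ≤ pCoreOf p L := by
  have hPn : (pCore p G).Normal := pCore_normal p G
  have hPp : IsPGroup p ↥(pCore p G) := isPGroup_pCore p G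
  have hPL : pCore p G ⊓ L ≤ pCoreOf p L := by
    apply le_pCoreOf inf_le_right _ (hPp.to_le inf_le_left)
    exact le_trans (le_inf Subgroup.le_normalizer_of_normal Subgroup.le_normalizer)
      Subgroup.inf_normalizer_le_normalizer_inf
  have hCn := le_normalizer_inf_centralizer (le_normalizer_pCoreOf p L)
  have hCp : IsPGroup p ↥(L ⊓ Subgroup.centralizer (pCoreOf p L : Set G)) := by
    apply isPGroup_of_coprime_trivial
    intro c hc hco
    have hcP : c ∈ Subgroup.centralizer (pCore p G : Set G) := by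
      rw [Subgroup.mem_centralizer_iff]
      intro y hy
      have hz1 : c * y * c⁻¹ * y⁻¹ ∈ pCore p G :=
        Subgroup.mul_mem _ (hPn.conj_mem y hy c) (Subgroup.inv_mem _ hy)
      have hz2 : c * y * c⁻¹ * y⁻¹ ∈ L := by
        have h1 : y * c⁻¹ * y⁻¹ ∈ L := (Subgroup.mem_normalizer_iff.mp (hL hy) c⁻¹).mp (L.inv_mem hc.1)
        have h2 := L.mul_mem hc.1 h1
        simpa [mul_assoc] using h2
      have hzR : c * y * c⁻¹ * y⁻¹ ∈ pCoreOf p L := hPL ⟨hz1, hz2⟩
      have hcomm : Commute c (c * y * c⁻¹ * y⁻¹) := ((Subgroup.mem_centralizer_iff.mp hc.2) _ hzR).symm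
      exact (commute_of_quadratic c y hco (exists_pow_eq_one_of_mem hPp hz1) hcomm).symm
    exact eq_one_of_coprime_of_pElement c hco (exists_pow_eq_one_of_mem hPp (hG hcP))
  exact le_pCoreOf inf_le_left hCn hCp

open scoped commutatorElement in
/-- In a group of characteristic `p`, a normal subgroup `Q` of a Sylow `p`-subgroup `T` with
`C_T(Q) ≤ Q` satisfies `C_G(Q) ≤ Q`. -/
theorem centralizer_le_of_sylow [Finite G] {p : ℕ} [Fact p.Prime]
    (hG : Subgroup.centralizer (pCore p G : Set G) ≤ pCore p G) (T : Sylow p G) (Q : Subgroup G)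
    (hQT : Q ≤ (T : Subgroup G)) (hQn : (T : Subgroup G) ≤ Subgroup.normalizer (Q : Set G))
    (hC : (T : Subgroup G) ⊓ Subgroup.centralizer (Q : Set G) ≤ Q) :
    Subgroup.centralizer (Q : Set G) ≤ Q := by
  have hPn : (pCore p G).Normal := pCore_normal p G
  have hPp : IsPGroup p ↥(pCore p G) := isPGroup_pCore p G
  have hPT : pCore p G ≤ (T : Subgroup G) := pCore_le_sylow T
  -- one step
  have step : ∀ c ∈ Subgroup.centralizer (Q : Set G), (orderOf c).Coprime p →
      ∀ X : Subgroup G, X ≤ pCore p G → (∀ u ∈ ⁅X, Q⁆, c * u = u * c) → ∀ y ∈ X, c * y = y * c := by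
    intro c hc hco X hX hu y hy
    have hyP : y ∈ pCore p G := hX hy
    have hz1 : c * y * c⁻¹ * y⁻¹ ∈ pCore p G :=
      Subgroup.mul_mem _ (hPn.conj_mem y hyP c) (Subgroup.inv_mem _ hyP)
    have hzC : c * y * c⁻¹ * y⁻¹ ∈ Subgroup.centralizer (Q : Set G) := by
      rw [Subgroup.mem_centralizer_iff]
      intro q hq
      have hcq : q * c = c * q := (Subgroup.mem_centralizer_iff.mp hc) q hq
      have hcq' : q * c⁻¹ = c⁻¹ * q := by
        rw [eq_inv_mul_iff_mul_eq, ← mul_assoc, ← hcq, mul_assoc, mul_inv_cancel, mul_one]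
      have hcu : c * (y⁻¹ * q * y * q⁻¹) = (y⁻¹ * q * y * q⁻¹) * c := by
        apply hu
        have := Subgroup.commutator_mem_commutator (Subgroup.inv_mem _ hy) hq
        rw [commutatorElement_def] at this
        simpa using this
      have hcu' : (y⁻¹ * q * y * q⁻¹) * c⁻¹ = c⁻¹ * (y⁻¹ * q * y * q⁻¹) := by
        rw [eq_inv_mul_iff_mul_eq, ← mul_assoc, hcu, mul_assoc, mul_inv_cancel, mul_one]
      calc q * (c * y * c⁻¹ * y⁻¹) = (q * c) * y * c⁻¹ * y⁻¹ := by group
        _ = c * (q * y) * c⁻¹ * y⁻¹ := by rw [hcq]; group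
        _ = c * y * ((y⁻¹ * q * y * q⁻¹) * (q * c⁻¹)) * y⁻¹ := by group
        _ = c * y * ((y⁻¹ * q * y * q⁻¹) * c⁻¹ * q) * y⁻¹ := by rw [hcq']; group
        _ = c * y * (c⁻¹ * (y⁻¹ * q * y * q⁻¹) * q) * y⁻¹ := by rw [hcu']
        _ = c * y * c⁻¹ * y⁻¹ * q := by group
    have hzQ : c * y * c⁻¹ * y⁻¹ ∈ Q := hC ⟨hPT hz1, hzC⟩
    have hcomm : Commute c (c * y * c⁻¹ * y⁻¹) := ((Subgroup.mem_centralizer_iff.mp hc) _ hzQ).symm
    exact commute_of_quadratic c y hco (exists_pow_eq_one_of_mem hPp hz1) hcomm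
  -- iterate
  have iter : ∀ c ∈ Subgroup.centralizer (Q : Set G), (orderOf c).Coprime p → ∀ n : ℕ,
      ∀ X : Subgroup G, X ≤ pCore p G → (fun X : Subgroup G => ⁅X, Q⁆)^[n] X = ⊥ →
      ∀ y ∈ X, c * y = y * c := by
    intro c hc hco n
    induction n with
    | zero =>
      intro X _ hbot y hy
      simp only [Function.iterate_zero, id_eq] at hbot
      rw [hbot, Subgroup.mem_bot] at hy
      rw [hy]; simp
    | succ n ih =>
      intro X hX hbot y hy
      rw [Function.iterate_succ_apply] at hbot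
      have hX' : ⁅X, Q⁆ ≤ pCore p G :=
        le_trans (Subgroup.commutator_mono hX le_rfl) (Subgroup.commutator_le_left _ _)
      exact step c hc hco X hX (ih _ hX' hbot) y hy
  have hbound : ∀ n : ℕ, (fun X : Subgroup G => ⁅X, Q⁆)^[n] (pCore p G)
      ≤ (T : Subgroup G).lowerCentralSeries n := by
    intro n
    induction n with
    | zero => simpa using hPT
    | succ n ih =>
      rw [Function.iterate_succ_apply', Subgroup.lowerCentralSeries_succ]
      exact Subgroup.commutator_mono ih hQT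
  have hnil : Group.IsNilpotent ↥(T : Subgroup G) := T.isPGroup'.isNilpotent
  obtain ⟨n, hn⟩ := (Subgroup.isNilpotent_iff_lowerCentralSeries (T : Subgroup G)).mp hnil
  have hbot : (fun X : Subgroup G => ⁅X, Q⁆)^[n] (pCore p G) = ⊥ := by
    rw [eq_bot_iff, ← hn]; exact hbound n
  have hCp : IsPGroup p ↥(Subgroup.centralizer (Q : Set G)) := by
    apply isPGroup_of_coprime_trivial
    intro c hc hco
    have hcP : c ∈ Subgroup.centralizer (pCore p G : Set G) := by
      rw [Subgroup.mem_centralizer_iff]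
      intro y hy
      exact (iter c hc hco n _ le_rfl hbot y hy).symm
    exact eq_one_of_coprime_of_pElement c hco (exists_pow_eq_one_of_mem hPp (hG hcP))
  have hTn : (T : Subgroup G) ≤ Subgroup.normalizer (Subgroup.centralizer (Q : Set G) : Set G) :=
    le_trans hQn (normalizer_le_normalizer_centralizer Q)
  have hsup := IsPGroup.to_sup_of_normal_right' T.isPGroup' hCp hTn
  have heq := T.is_maximal' hsup le_sup_left
  intro x hx
  have hxT : x ∈ (T : Subgroup G) := by
    rw [← heq]; exact (le_sup_right : _ ≤ (T : Subgroup G) ⊔ Subgroup.centralizer (Q : Set G)) hx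
  exact hC ⟨hxT, hx⟩

open scoped commutatorElement in
/-- In a group of characteristic `p`, every subgroup containing a normal subgroup `Q` of a Sylow
`p`-subgroup `T` with `C_T(Q) ≤ Q` has characteristic `p`. -/
theorem charP_of_overgroup [Finite G] {p : ℕ} [Fact p.Prime]
    (hG : Subgroup.centralizer (pCore p G : Set G) ≤ pCore p G) (T : Sylow p G) (Q : Subgroup G)
    (hQT : Q ≤ (T : Subgroup G)) (hQn : (T : Subgroup G) ≤ Subgroup.normalizer (Q : Set G))
    (hC : (T : Subgroup G) ⊓ Subgroup.centralizer (Q : Set G) ≤ Q) (L : Subgroup G) (hQL : Q ≤ L) :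
    L ⊓ Subgroup.centralizer (pCoreOf p L : Set G) ≤ pCoreOf p L := by
  have hPn : (pCore p G).Normal := pCore_normal p G
  have hPp : IsPGroup p ↥(pCore p G) := isPGroup_pCore p G
  have hPT : pCore p G ≤ (T : Subgroup G) := pCore_le_sylow T
  have hCQ := centralizer_le_of_sylow hG T Q hQT hQn hC
  have hQp : IsPGroup p ↥Q := T.isPGroup'.to_le hQT
  have hPL : pCore p G ⊓ L ≤ pCoreOf p L := by
    apply le_pCoreOf inf_le_right _ (hPp.to_le inf_le_left)
    exact le_trans (le_inf Subgroup.le_normalizer_of_normal Subgroup.le_normalizer)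
      Subgroup.inf_normalizer_le_normalizer_inf
  have hLnC := le_normalizer_inf_centralizer (le_normalizer_pCoreOf p L)
  -- N = [P, Q]
  have hNP : ⁅pCore p G, Q⁆ ≤ pCore p G := Subgroup.commutator_le_left _ _
  have hNQ : ⁅pCore p G, Q⁆ ≤ Q := by
    rw [Subgroup.commutator_le]
    intro y hy q hq
    have h1 : y * q * y⁻¹ ∈ Q := (Subgroup.mem_normalizer_iff.mp (hQn (hPT hy)) q).mp hq
    rw [commutatorElement_def]
    exact Q.mul_mem h1 (Q.inv_mem hq)
  have hNR : ⁅pCore p G, Q⁆ ≤ pCoreOf p L := fun x hx => hPL ⟨hNP hx, hQL (hNQ hx)⟩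
  -- the subgroup S
  let S : Subgroup G :=
    { carrier := {g | g ∈ Subgroup.normalizer ((⁅pCore p G, Q⁆ : Subgroup G) : Set G) ∧
        ∀ y ∈ pCore p G, g * y * g⁻¹ * y⁻¹ ∈ ⁅pCore p G, Q⁆}
      one_mem' := ⟨Subgroup.one_mem _, fun y _ => by simp⟩
      mul_mem' := by
        rintro g h ⟨hg1, hg2⟩ ⟨hh1, hh2⟩
        refine ⟨Subgroup.mul_mem _ hg1 hh1, fun y hy => ?_⟩
        have e : g * h * y * (g * h)⁻¹ * y⁻¹ = g * (h * y * h⁻¹ * y⁻¹) * g⁻¹ * (g * y * g⁻¹ * y⁻¹) := by
          group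
        rw [e]
        exact Subgroup.mul_mem _ ((Subgroup.mem_normalizer_iff.mp hg1 _).mp (hh2 y hy)) (hg2 y hy)
      inv_mem' := by
        rintro g ⟨hg1, hg2⟩
        refine ⟨Subgroup.inv_mem _ hg1, fun y hy => ?_⟩
        have e : g⁻¹ * y * g⁻¹⁻¹ * y⁻¹ = g⁻¹ * (g * y * g⁻¹ * y⁻¹)⁻¹ * g⁻¹⁻¹ := by group
        rw [e]
        exact (Subgroup.mem_normalizer_iff.mp (Subgroup.inv_mem _ hg1) _).mp
          (Subgroup.inv_mem _ (hg2 y hy)) }
  have hQS : ∀ q ∈ Q, q ∈ S := by
    intro q hq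
    refine ⟨?_, fun y hy => ?_⟩
    · rw [Subgroup.mem_normalizer_iff_map_conj_eq, Subgroup.map_commutator]
      have e1 : Subgroup.map (↑(MulAut.conj q)) (pCore p G) = pCore p G :=
        Subgroup.mem_normalizer_iff_map_conj_eq.mp (Subgroup.le_normalizer_of_normal (Subgroup.mem_top q))
      have e2 : Subgroup.map (↑(MulAut.conj q)) Q = Q :=
        Subgroup.mem_normalizer_iff_map_conj_eq.mp (Subgroup.le_normalizer hq)
      rw [e1, e2]
    · have := Subgroup.commutator_mem_commutator hq hy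
      rw [Subgroup.commutator_comm, commutatorElement_def] at this
      exact this
  have hCS : ∀ c ∈ L ⊓ Subgroup.centralizer (pCoreOf p L : Set G), ∀ q ∈ Q, c * q * c⁻¹ ∈ S := by
    intro c hc q hq
    have hcN : ∀ n ∈ ⁅pCore p G, Q⁆, c * n * c⁻¹ = n := by
      intro n hn
      have := (Subgroup.mem_centralizer_iff.mp hc.2) n (hNR hn)
      rw [mul_inv_eq_iff_eq_mul]; exact this.symm
    have hcnorm : c ∈ Subgroup.normalizer ((⁅pCore p G, Q⁆ : Subgroup G) : Set G) := by
      rw [Subgroup.mem_normalizer_iff]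
      intro n
      constructor
      · intro hn; rw [hcN n hn]; exact hn
      · intro hn
        have h1 : c⁻¹ * (c * n * c⁻¹) * c⁻¹⁻¹ = c * n * c⁻¹ := by
          have := (Subgroup.mem_centralizer_iff.mp (Subgroup.inv_mem _ hc.2)) _ (hNR hn)
          rw [mul_inv_eq_iff_eq_mul]; exact this.symm
        have h2 : c⁻¹ * (c * n * c⁻¹) * c⁻¹⁻¹ = n := by group
        rw [← h2, h1]; exact hn
    refine ⟨Subgroup.mul_mem _ (Subgroup.mul_mem _ hcnorm (hQS q hq).1) (Subgroup.inv_mem _ hcnorm), ?_⟩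
    intro y hy
    have hy' : c⁻¹ * y * c ∈ pCore p G := by
      have := hPn.conj_mem y hy c⁻¹
      simpa using this
    have h1 := (hQS q hq).2 _ hy'
    have e : c * q * c⁻¹ * y * (c * q * c⁻¹)⁻¹ * y⁻¹
        = c * (q * (c⁻¹ * y * c) * q⁻¹ * (c⁻¹ * y * c)⁻¹) * c⁻¹ := by group
    rw [e, hcN _ h1]
    exact h1
  have hBS : ⁅Q, L ⊓ Subgroup.centralizer (pCoreOf p L : Set G)⁆ ≤ S := by
    rw [Subgroup.commutator_le]
    intro q hq c hc
    have e : ⁅q, c⁆ = q * (c * q⁻¹ * c⁻¹) := by rw [commutatorElement_def]; group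
    rw [e]
    exact S.mul_mem (hQS q hq) (hCS c hc q⁻¹ (Q.inv_mem hq))
  have hBC : ⁅Q, L ⊓ Subgroup.centralizer (pCoreOf p L : Set G)⁆
      ≤ L ⊓ Subgroup.centralizer (pCoreOf p L : Set G) := by
    rw [Subgroup.commutator_le]
    intro q hq c hc
    rw [commutatorElement_def]
    exact Subgroup.mul_mem _ ((Subgroup.mem_normalizer_iff.mp (hLnC (hQL hq)) c).mp hc)
      (Subgroup.inv_mem _ hc)
  have hBp : IsPGroup p ↥(⁅Q, L ⊓ Subgroup.centralizer (pCoreOf p L : Set G)⁆) := by
    apply isPGroup_of_coprime_trivial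
    intro b hb hco
    have hbP : b ∈ Subgroup.centralizer (pCore p G : Set G) := by
      rw [Subgroup.mem_centralizer_iff]
      intro y hy
      have hz := (hBS hb).2 y hy
      have hcomm : Commute b (b * y * b⁻¹ * y⁻¹) :=
        ((Subgroup.mem_centralizer_iff.mp (hBC hb).2) _ (hNR hz)).symm
      exact (commute_of_quadratic b y hco (exists_pow_eq_one_of_mem hPp (hNP hz)) hcomm).symm
    exact eq_one_of_coprime_of_pElement b hco (exists_pow_eq_one_of_mem hPp (hG hbP))
  have hBR : ⁅Q, L ⊓ Subgroup.centralizer (pCoreOf p L : Set G)⁆ ≤ pCoreOf p L :=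
    le_trans (le_pCoreOf hBC (le_normalizer_commutator_right _ _) hBp)
      (pCoreOf_le_pCoreOf_of_normal inf_le_left hLnC)
  have hCp : IsPGroup p ↥(L ⊓ Subgroup.centralizer (pCoreOf p L : Set G)) := by
    apply isPGroup_of_coprime_trivial
    intro d hd hco
    have hdQ : d ∈ Subgroup.centralizer (Q : Set G) := by
      rw [Subgroup.mem_centralizer_iff]
      intro q hq
      have hz : d * q * d⁻¹ * q⁻¹ ∈ ⁅Q, L ⊓ Subgroup.centralizer (pCoreOf p L : Set G)⁆ := by
        have := Subgroup.commutator_mem_commutator hd hq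
        rw [Subgroup.commutator_comm, commutatorElement_def] at this
        exact this
      have hcomm : Commute d (d * q * d⁻¹ * q⁻¹) :=
        ((Subgroup.mem_centralizer_iff.mp hd.2) _ (hBR hz)).symm
      exact (commute_of_quadratic d q hco (exists_pow_eq_one_of_mem hBp hz) hcomm).symm
    exact eq_one_of_coprime_of_pElement d hco (exists_pow_eq_one_of_mem hQp (hCQ hdQ))
  exact le_pCoreOf inf_le_left hLnC hCp

end Cfsg.Agent.Lib.Helper58
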