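import Cfsg.Agent.Lib.Helper58.CentrallyLarge

set_option autoImplicit false
open Pointwise

namespace Cfsg.Agent.Lib.Helper58

variable {G : Type*} [Group G]

theorem abelian_sup (B E : Subgroup G) (hB : B ≤ Subgroup.centralizer (B : Set G))
    (hE : E ≤ Subgroup.centralizer (E : Set G)) (hBE : E ≤ Subgroup.centralizer (B : Set G)) :
    B ⊔ E ≤ Subgroup.centralizer ((B ⊔ E : Subgroup G) : Set G) := by
  rw [centralizer_sup_eq]
  exact sup_le (le_inf hB (Subgroup.le_centralizer_iff.mp hBE)) (le_inf hBE hE)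

theorem maxAbelian_le_centralizer (A : Subgroup G) (hA : A ∈ Cfsg.maxAbelianSubgroups G) :
    A ≤ Subgroup.centralizer (A : Set G) :=
  Subgroup.le_centralizer_iff_isMulCommutative.mpr hA.1

theorem maxAbelian_self_centralizing [Finite G] (A : Subgroup G) (hA : A ∈ Cfsg.maxAbelianSubgroups G) :
    Subgroup.centralizer (A : Set G) = A := by
  have hAc := maxAbelian_le_centralizer A hA
  apply le_antisymm _ hAc
  intro x hx
  have hE : Subgroup.zpowers x ≤ Subgroup.centralizer ((Subgroup.zpowers x : Subgroup G) : Set G) :=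
    Subgroup.le_centralizer_iff_isMulCommutative.mpr inferInstance
  have hBE : Subgroup.zpowers x ≤ Subgroup.centralizer (A : Set G) := by
    rw [Subgroup.zpowers_le]; exact hx
  have hab := abelian_sup A (Subgroup.zpowers x) hAc hE hBE
  have hcard := hA.2 (A ⊔ Subgroup.zpowers x) (Subgroup.le_centralizer_iff_isMulCommutative.mp hab)
  have : A = A ⊔ Subgroup.zpowers x := Subgroup.eq_of_le_of_card_ge le_sup_left hcard
  rw [this]
  exact (le_sup_right : Subgroup.zpowers x ≤ A ⊔ Subgroup.zpowers x) (Subgroup.mem_zpowers x)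

theorem maxAbelian_of_card (A B : Subgroup G) (hA : A ∈ Cfsg.maxAbelianSubgroups G)
    (hB : B ≤ Subgroup.centralizer (B : Set G)) (h : Nat.card A ≤ Nat.card B) :
    B ∈ Cfsg.maxAbelianSubgroups G :=
  ⟨Subgroup.le_centralizer_iff_isMulCommutative.mp hB, fun C hC => le_trans (hA.2 C hC) h⟩

theorem exists_maxAbelian [Finite G] : ∃ A : Subgroup G, A ∈ Cfsg.maxAbelianSubgroups G := by
  classical
  have : Nonempty {R : Subgroup G // IsMulCommutative R} := ⟨⟨⊥, inferInstance⟩⟩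
  obtain ⟨⟨R, hR⟩, hmax⟩ := Finite.exists_max
    (fun R : {R : Subgroup G // IsMulCommutative R} => Nat.card (R : Subgroup G))
  exact ⟨R, hR, fun B hB => hmax ⟨B, hB⟩⟩

/-- Glauberman: a centrally large subgroup and an abelian subgroup of largest order. -/
theorem centrallyLarge_maxAbelian [Finite G] (Q A : Subgroup G) (hQ : Cfsg.IsCentrallyLarge Q)
    (hA : A ∈ Cfsg.maxAbelianSubgroups G) :
    ((Q ⊔ A : Subgroup G) : Set G) = (Q : Set G) * (A : Set G) ∧ Cfsg.IsCentrallyLarge (Q ⊔ A) ∧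
      (Q ⊓ Subgroup.centralizer (Q : Set G)) ⊔ (Q ⊓ A) ∈ Cfsg.maxAbelianSubgroups G ∧
      (((Q ⊓ Subgroup.centralizer (Q : Set G)) ⊔ (Q ⊓ A) : Subgroup G) : Set G)
        = ((Q ⊓ Subgroup.centralizer (Q : Set G) : Subgroup G) : Set G) * ((Q ⊓ A : Subgroup G) : Set G) := by
  obtain ⟨hQ1, hQ2⟩ := centrallyLarge_imp Q hQ
  have hCA := maxAbelian_self_centralizing A hA
  have hAc := maxAbelian_le_centralizer A hA
  set Z := Q ⊓ Subgroup.centralizer (Q : Set G) with hZ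
  set D := Q ⊓ A with hD
  have hZQ : Z ≤ Q := inf_le_left
  have hZCQ : Z ≤ Subgroup.centralizer (Q : Set G) := inf_le_right
  have hQCZ : Q ≤ Subgroup.centralizer (Z : Set G) := Subgroup.le_centralizer_iff.mp hZCQ
  have hZab : Z ≤ Subgroup.centralizer (Z : Set G) := le_trans hZQ hQCZ
  have hDab : D ≤ Subgroup.centralizer (D : Set G) :=
    le_trans inf_le_right (le_trans hAc (Subgroup.centralizer_le (by exact_mod_cast (inf_le_right : D ≤ A))))
  have hDZ : D ≤ Subgroup.centralizer (Z : Set G) := le_trans inf_le_left hQCZ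
  have hBab := abelian_sup Z D hZab hDab hDZ
  have hBA : Nat.card ↥(Z ⊔ D) ≤ Nat.card A :=
    hA.2 _ (Subgroup.le_centralizer_iff_isMulCommutative.mp hBab)
  have hZD := card_mul_card_le Z D
  have hZDA : Z ⊓ D = Z ⊓ A := by
    rw [hD, ← inf_assoc, inf_of_le_left hZQ]
  have hCsup : Subgroup.centralizer ((Q ⊔ A : Subgroup G) : Set G) = Z ⊓ A := by
    rw [centralizer_sup_eq, hCA, hQ2]
  have hQA := card_mul_card_le Q A
  have hsM := cdm_le_max (Q ⊔ A)
  rw [isCentralizerLarge_iff] at hQ1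
  have hqz : Nat.card Q * Nat.card Z = Cfsg.maxCentralizerProduct G := by
    rw [← hQ1]; unfold cdm; rw [hQ2]
  have hcdm : cdm (Q ⊔ A) = Nat.card ↥(Q ⊔ A) * Nat.card ↥(Z ⊓ A) := by
    unfold cdm; rw [hCsup]
  rw [hcdm] at hsM
  rw [hZDA] at hZD
  rw [← hD] at hQA
  set M := Cfsg.maxCentralizerProduct G
  have hq : 0 < Nat.card Q := Nat.card_pos
  have hd : 0 < Nat.card D := Nat.card_pos
  have hi : 0 < Nat.card ↥(Z ⊓ A) := Nat.card_pos
  -- the chain of inequalities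
  have c1 : Nat.card Q * (Nat.card Z * Nat.card D) ≤ Nat.card Q * (Nat.card ↥(Z ⊔ D) * Nat.card ↥(Z ⊓ A)) :=
    Nat.mul_le_mul_left _ hZD
  have c2 : Nat.card Q * (Nat.card ↥(Z ⊔ D) * Nat.card ↥(Z ⊓ A)) ≤ Nat.card Q * (Nat.card A * Nat.card ↥(Z ⊓ A)) :=
    Nat.mul_le_mul_left _ (Nat.mul_le_mul_right _ hBA)
  have c3 : Nat.card Q * (Nat.card A * Nat.card ↥(Z ⊓ A)) ≤ Nat.card ↥(Q ⊔ A) * Nat.card D * Nat.card ↥(Z ⊓ A) := by
    rw [← mul_assoc]; exact Nat.mul_le_mul_right _ hQA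
  have c4 : Nat.card ↥(Q ⊔ A) * Nat.card D * Nat.card ↥(Z ⊓ A) ≤ M * Nat.card D := by
    calc Nat.card ↥(Q ⊔ A) * Nat.card D * Nat.card ↥(Z ⊓ A)
        = (Nat.card ↥(Q ⊔ A) * Nat.card ↥(Z ⊓ A)) * Nat.card D := by ring
      _ ≤ M * Nat.card D := Nat.mul_le_mul_right _ hsM
  have c5 : M * Nat.card D = Nat.card Q * (Nat.card Z * Nat.card D) := by
    rw [← hqz]; ring
  have e1 : Nat.card Q * (Nat.card Z * Nat.card D) = Nat.card Q * (Nat.card ↥(Z ⊔ D) * Nat.card ↥(Z ⊓ A)) := by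
    omega
  have e2 : Nat.card Q * (Nat.card ↥(Z ⊔ D) * Nat.card ↥(Z ⊓ A)) = Nat.card Q * (Nat.card A * Nat.card ↥(Z ⊓ A)) := by
    omega
  have e3 : Nat.card Q * (Nat.card A * Nat.card ↥(Z ⊓ A)) = Nat.card ↥(Q ⊔ A) * Nat.card D * Nat.card ↥(Z ⊓ A) := by
    omega
  have e4 : Nat.card ↥(Q ⊔ A) * Nat.card D * Nat.card ↥(Z ⊓ A) = M * Nat.card D := by
    omega
  have f1 : Nat.card Z * Nat.card D = Nat.card ↥(Z ⊔ D) * Nat.card ↥(Z ⊓ A) :=
    Nat.eq_of_mul_eq_mul_left hq e1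
  have f2 : Nat.card ↥(Z ⊔ D) = Nat.card A :=
    Nat.eq_of_mul_eq_mul_right hi (Nat.eq_of_mul_eq_mul_left hq e2)
  have f3 : Nat.card Q * Nat.card A = Nat.card ↥(Q ⊔ A) * Nat.card D := by
    rw [← mul_assoc] at e3
    exact Nat.eq_of_mul_eq_mul_right hi e3
  have f4 : Nat.card ↥(Q ⊔ A) * Nat.card ↥(Z ⊓ A) = M := by
    have : (Nat.card ↥(Q ⊔ A) * Nat.card ↥(Z ⊓ A)) * Nat.card D = M * Nat.card D := by
      rw [← e4]; ring
    exact Nat.eq_of_mul_eq_mul_right hd this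
  have hlarge : Cfsg.IsCentralizerLarge (Q ⊔ A) := by
    rw [isCentralizerLarge_iff, hcdm]; exact f4
  refine ⟨sup_eq_mul_of_card_eq Q A f3.symm, ?_, ?_, ?_⟩
  · rw [centrallyLarge_iff_of_centralizerLarge _ hlarge, hCsup]
    exact le_trans inf_le_right le_sup_right
  · exact maxAbelian_of_card A _ hA hBab f2.ge
  · apply sup_eq_mul_of_card_eq
    rw [hZDA]; exact f1.symm

end Cfsg.Agent.Lib.Helper58
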