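import Cfsg.Agent.Lib.Helper45.FPDefs

/-!
S2276 piece ARRG: the fibres `G : ZMod J → Finset α` from the tiling hypothesis.
-/

set_option autoImplicit false

namespace Cfsg.Agent.Lib.Helper58.FP

open Equiv Cfsg.Agent.Lib.Helper45.FP

/-- the orbit of `x` under `w` -/
noncomputable def arrgOrb {α : Type*} [DecidableEq α] (w : Perm α) (x : α) : Finset α :=
  (Finset.range (Function.minimalPeriod w x)).image (fun k => (w ^ k) x)

theorem arrgOrb_card {α : Type*} [DecidableEq α] (w : Perm α) (x : α) :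
    (arrgOrb w x).card = Function.minimalPeriod w x := by
  unfold arrgOrb
  rw [Finset.card_image_of_injOn, Finset.card_range]
  intro a ha b hb hab
  simp only [Finset.coe_range] at ha hb
  exact Function.iterate_injOn_Iio_minimalPeriod ha hb hab

theorem arrgOrb_self {α : Type*} [DecidableEq α] (w : Perm α) (x : α)
    (h : 0 < Function.minimalPeriod w x) : x ∈ arrgOrb w x :=
  Finset.mem_image.mpr ⟨0, Finset.mem_range.mpr h, by simp⟩

theorem arrgOrb_apply {α : Type*} [DecidableEq α] (w : Perm α) (x : α) :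
    ∀ y ∈ arrgOrb w x, w y ∈ arrgOrb w x := by
  intro y hy
  obtain ⟨k, hk, rfl⟩ := Finset.mem_image.mp hy
  rw [Finset.mem_range] at hk
  by_cases hk' : k + 1 < Function.minimalPeriod w x
  · exact Finset.mem_image.mpr ⟨k + 1, Finset.mem_range.mpr hk', by rw [pow_succ']; rfl⟩
  · have hk1 : k + 1 = Function.minimalPeriod w x := by omega
    refine Finset.mem_image.mpr ⟨0, Finset.mem_range.mpr (by omega), ?_⟩
    have h1 : (w ^ (k + 1)) x = x := by
      rw [hk1, ← Equiv.Perm.iterate_eq_pow]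
      exact Function.iterate_minimalPeriod
    rw [pow_succ'] at h1
    simpa using h1.symm

theorem arrg_back {α : Type*} [DecidableEq α] (w : Perm α) (S : Finset α)
    (hS : ∀ x ∈ S, w x ∈ S) (x : α) (hx : w x ∈ S) : x ∈ S := by
  have himg : S.image w = S := Finset.eq_of_subset_of_card_le (by
    intro y hy
    obtain ⟨z, hz, rfl⟩ := Finset.mem_image.mp hy
    exact hS z hz) (by rw [Finset.card_image_of_injective _ w.injective])
  rw [← himg] at hx
  obtain ⟨z, hz, hzx⟩ := Finset.mem_image.mp hx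
  rwa [← w.injective hzx]

theorem arrg_compl {α : Type*} [Fintype α] [DecidableEq α] (w : Perm α) (S : Finset α)
    (hS : ∀ x ∈ S, w x ∈ S) : ∀ x ∈ Finset.univ \ S, w x ∈ Finset.univ \ S := by
  intro x hx
  rw [Finset.mem_sdiff] at hx ⊢
  exact ⟨Finset.mem_univ _, fun h => hx.2 (arrg_back w S hS x h)⟩

theorem arrg_disj {α : Type*} [DecidableEq α] (w : Perm α) (S : Finset α)
    (hS : ∀ x ∈ S, w x ∈ S) (x : α) (hx : x ∉ S) : Disjoint S (arrgOrb w x) := by
  rw [Finset.disjoint_right]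
  intro y hy hyS
  obtain ⟨k, hk, rfl⟩ := Finset.mem_image.mp hy
  apply hx
  clear hk hy
  induction k with
  | zero => simpa using hyS
  | succ k ih =>
    apply ih
    rw [pow_succ'] at hyS
    exact arrg_back w S hS _ hyS

theorem arrg_fix {α : Type*} (p : ℕ) (hp : p.Prime) (w : Perm α) (b : ℕ) (x : α)
    (hw : ∃ i : ℕ, Function.minimalPeriod w x = p ^ i)
    (hdiv : Function.minimalPeriod w x ∣ p * p ^ b)
    (hne : Function.minimalPeriod w x ≠ p * p ^ b) : (w ^ (p ^ b)) x = x := by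
  obtain ⟨i, hi⟩ := hw
  rw [hi] at hdiv hne
  rw [← pow_succ'] at hdiv hne
  have h5 := (Nat.pow_dvd_pow_iff_le_right hp.one_lt).mp hdiv
  have hib : i ≤ b := by
    rcases Nat.lt_or_ge i (b + 1) with h | h
    · omega
    · exfalso
      apply hne
      congr 1
      omega
  have h3 : Function.minimalPeriod w x ∣ p ^ b := by
    rw [hi]
    exact pow_dvd_pow p hib
  have h4 := (Function.isPeriodicPt_minimalPeriod w x).trans_dvd h3
  rw [← Equiv.Perm.iterate_eq_pow]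
  exact h4

theorem arrg_cons_all {α : Type*} {n : ℕ} (A : Finset α) (F : Fin n → Finset α)
    (P : Finset α → Prop) (hA : P A) (hF : ∀ i, P (F i)) :
    ∀ i, P ((Fin.cons A F : Fin (n + 1) → Finset α) i) := by
  intro i
  refine Fin.cases ?_ (fun i' => ?_) i
  · simpa using hA
  · simpa using hF i'

theorem arrg_cons_disj {α : Type*} {n : ℕ} (A : Finset α) (F : Fin n → Finset α)
    (hAF : ∀ i, Disjoint A (F i)) (hF : ∀ i j, i ≠ j → Disjoint (F i) (F j)) :
    ∀ i j, i ≠ j → Disjoint ((Fin.cons A F : Fin (n + 1) → Finset α) i)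
      ((Fin.cons A F : Fin (n + 1) → Finset α) j) := by
  intro i j
  refine Fin.cases ?_ (fun i' => ?_) i <;> refine Fin.cases ?_ (fun j' => ?_) j
  · intro h
    exact absurd rfl h
  · intro _
    simp only [Fin.cons_zero, Fin.cons_succ]
    exact hAF j'
  · intro _
    simp only [Fin.cons_zero, Fin.cons_succ]
    exact (hAF i').symm
  · intro h
    simp only [Fin.cons_succ]
    exact hF i' j' (fun e => h (by rw [e]))

/-- ARRG: the fibres -/
theorem ARRG {α : Type*} [Fintype α] [DecidableEq α] (p : ℕ) [Fact p.Prime] (w : Perm α)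
    (hw : ∀ x, ∃ i : ℕ, Function.minimalPeriod w x = p ^ i)
    (J μ : ℕ) [NeZero J] (hcard : J * (p * μ) ≤ Fintype.card α) (hμpow : ∃ b : ℕ, μ = p ^ b)
    (x₁ : α) (hx₁ : Function.minimalPeriod w x₁ = p * μ)
    (hmax : ∀ x, Function.minimalPeriod w x ∣ p * μ)
    (hpart : ∀ (k : ℕ) (X : Finset α), (∀ x ∈ X, w x ∈ X) → k * (p * μ) ≤ X.card →
      ∃ F : Fin k → Finset α, (∀ i, F i ⊆ X) ∧ (∀ i, ∀ x ∈ F i, w x ∈ F i) ∧
        (∀ i, (F i).card = p * μ) ∧ (∀ i j, i ≠ j → Disjoint (F i) (F j))) :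
    ∃ G : ZMod J → Finset α, (∀ k, ∀ x ∈ G k, w x ∈ G k) ∧ (∀ k, (G k).card = p * μ) ∧
      (∀ k k', k ≠ k' → Disjoint (G k) (G k')) ∧ x₁ ∈ G 0 ∧
      ((∃ x₂ ∈ G 1, Function.minimalPeriod w x₂ = p * μ ∧ (1 : ZMod J) ≠ 0) ∨
        (∀ k, k ≠ 0 → ∀ x ∈ G k, (w ^ μ) x = x)) := by
  obtain ⟨b, rfl⟩ := hμpow
  have hp : p.Prime := Fact.out
  have hpos : 0 < p * p ^ b := Nat.mul_pos hp.pos (pow_pos hp.pos b)
  have hJ : 0 < J := Nat.pos_of_ne_zero (NeZero.ne J)
  obtain ⟨O₁, hO₁⟩ : ∃ O₁ : Finset α, O₁ = arrgOrb w x₁ := ⟨_, rfl⟩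
  have hO₁c : O₁.card = p * p ^ b := by rw [hO₁, arrgOrb_card, hx₁]
  have hO₁i : ∀ x ∈ O₁, w x ∈ O₁ := by
    rw [hO₁]
    exact arrgOrb_apply w x₁
  have hx₁O : x₁ ∈ O₁ := by
    rw [hO₁]
    exact arrgOrb_self w x₁ (by rw [hx₁]; exact hpos)
  by_cases hcase : 1 < J ∧ ∃ x₂, x₂ ∉ O₁ ∧ Function.minimalPeriod w x₂ = p * p ^ b
  · obtain ⟨hJ1, x₂, hx₂O, hx₂⟩ := hcase
    obtain ⟨J', rfl⟩ : ∃ J', J = J' + 2 := ⟨J - 2, by omega⟩
    obtain ⟨O₂, hO₂⟩ : ∃ O₂ : Finset α, O₂ = arrgOrb w x₂ := ⟨_, rfl⟩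
    have hO₂c : O₂.card = p * p ^ b := by rw [hO₂, arrgOrb_card, hx₂]
    have hO₂i : ∀ x ∈ O₂, w x ∈ O₂ := by
      rw [hO₂]
      exact arrgOrb_apply w x₂
    have hx₂O₂ : x₂ ∈ O₂ := by
      rw [hO₂]
      exact arrgOrb_self w x₂ (by rw [hx₂]; exact hpos)
    have hd12 : Disjoint O₁ O₂ := by
      rw [hO₂]
      exact arrg_disj w O₁ hO₁i x₂ hx₂O
    have hUi : ∀ x ∈ O₁ ∪ O₂, w x ∈ O₁ ∪ O₂ := by
      intro x hx
      rcases Finset.mem_union.mp hx with h | h
      · exact Finset.mem_union_left _ (hO₁i x h)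
      · exact Finset.mem_union_right _ (hO₂i x h)
    have hXc : J' * (p * p ^ b) ≤ (Finset.univ \ (O₁ ∪ O₂)).card := by
      rw [Finset.card_sdiff_of_subset (Finset.subset_univ _), Finset.card_univ,
        Finset.card_union_of_disjoint hd12, hO₁c, hO₂c]
      have : (J' + 2) * (p * p ^ b) = J' * (p * p ^ b) + (p * p ^ b + p * p ^ b) := by ring
      omega
    obtain ⟨F', hF'X, hF'i, hF'c, hF'd⟩ := hpart J' _ (arrg_compl w _ hUi) hXc
    have hF'1 : ∀ i, Disjoint O₁ (F' i) := by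
      intro i
      rw [Finset.disjoint_right]
      intro x hx hx1
      have h1 := hF'X i hx
      rw [Finset.mem_sdiff] at h1
      exact h1.2 (Finset.mem_union_left _ hx1)
    have hF'2 : ∀ i, Disjoint O₂ (F' i) := by
      intro i
      rw [Finset.disjoint_right]
      intro x hx hx1
      have h1 := hF'X i hx
      rw [Finset.mem_sdiff] at h1
      exact h1.2 (Finset.mem_union_right _ hx1)
    obtain ⟨H, hH⟩ : ∃ H : Fin (J' + 2) → Finset α, H = Fin.cons O₁ (Fin.cons O₂ F') :=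
      ⟨_, rfl⟩
    have hHi : ∀ i, ∀ x ∈ H i, w x ∈ H i := by
      rw [hH]
      exact arrg_cons_all O₁ _ (fun S => ∀ x ∈ S, w x ∈ S) hO₁i
        (arrg_cons_all O₂ F' (fun S => ∀ x ∈ S, w x ∈ S) hO₂i hF'i)
    have hHc : ∀ i, (H i).card = p * p ^ b := by
      rw [hH]
      exact arrg_cons_all O₁ _ (fun S => S.card = p * p ^ b) hO₁c
        (arrg_cons_all O₂ F' (fun S => S.card = p * p ^ b) hO₂c hF'c)
    have hHd : ∀ i j, i ≠ j → Disjoint (H i) (H j) := by
      rw [hH]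
      exact arrg_cons_disj O₁ _ (arrg_cons_all O₂ F' (fun S => Disjoint O₁ S) hd12 hF'1)
        (arrg_cons_disj O₂ F' hF'2 hF'd)
    refine ⟨fun k => H ⟨k.val, ZMod.val_lt k⟩, fun k => hHi _, fun k => hHc _, ?_, ?_,
      Or.inl ⟨x₂, ?_, hx₂, ?_⟩⟩
    · intro k k' hkk'
      apply hHd
      intro e
      apply hkk'
      exact ZMod.val_injective _ (Fin.mk.inj_iff.mp e)
    · have e0 : (⟨(0 : ZMod (J' + 2)).val, ZMod.val_lt 0⟩ : Fin (J' + 2)) = 0 :=
        Fin.ext (by simp)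
      show x₁ ∈ H ⟨(0 : ZMod (J' + 2)).val, ZMod.val_lt 0⟩
      rw [e0, hH, Fin.cons_zero]
      exact hx₁O
    · have e1 : (⟨(1 : ZMod (J' + 2)).val, ZMod.val_lt 1⟩ : Fin (J' + 2)) = Fin.succ 0 :=
        Fin.ext (by
          show (1 : ZMod (J' + 2)).val = _
          rw [ZMod.val_one_eq_one_mod]
          simp)
      show x₂ ∈ H ⟨(1 : ZMod (J' + 2)).val, ZMod.val_lt 1⟩
      rw [e1, hH, Fin.cons_succ, Fin.cons_zero]
      exact hx₂O₂
    · intro h10
      have h1 := congrArg ZMod.val h10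
      rw [ZMod.val_one_eq_one_mod, ZMod.val_zero, Nat.mod_eq_of_lt (by omega)] at h1
      omega
  · obtain ⟨J', rfl⟩ : ∃ J', J = J' + 1 := ⟨J - 1, by omega⟩
    have hXc : J' * (p * p ^ b) ≤ (Finset.univ \ O₁).card := by
      rw [Finset.card_sdiff_of_subset (Finset.subset_univ _), Finset.card_univ, hO₁c]
      have : (J' + 1) * (p * p ^ b) = J' * (p * p ^ b) + p * p ^ b := by ring
      omega
    obtain ⟨F', hF'X, hF'i, hF'c, hF'd⟩ := hpart J' _ (arrg_compl w _ hO₁i) hXc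
    have hF'1 : ∀ i, Disjoint O₁ (F' i) := by
      intro i
      rw [Finset.disjoint_right]
      intro x hx hx1
      have h1 := hF'X i hx
      rw [Finset.mem_sdiff] at h1
      exact h1.2 hx1
    obtain ⟨H, hH⟩ : ∃ H : Fin (J' + 1) → Finset α, H = Fin.cons O₁ F' := ⟨_, rfl⟩
    have hHi : ∀ i, ∀ x ∈ H i, w x ∈ H i := by
      rw [hH]
      exact arrg_cons_all O₁ _ (fun S => ∀ x ∈ S, w x ∈ S) hO₁i hF'i
    have hHc : ∀ i, (H i).card = p * p ^ b := by
      rw [hH]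
      exact arrg_cons_all O₁ _ (fun S => S.card = p * p ^ b) hO₁c hF'c
    have hHd : ∀ i j, i ≠ j → Disjoint (H i) (H j) := by
      rw [hH]
      exact arrg_cons_disj O₁ _ hF'1 hF'd
    refine ⟨fun k => H ⟨k.val, ZMod.val_lt k⟩, fun k => hHi _, fun k => hHc _, ?_, ?_,
      Or.inr ?_⟩
    · intro k k' hkk'
      apply hHd
      intro e
      apply hkk'
      exact ZMod.val_injective _ (Fin.mk.inj_iff.mp e)
    · have e0 : (⟨(0 : ZMod (J' + 1)).val, ZMod.val_lt 0⟩ : Fin (J' + 1)) = 0 :=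
        Fin.ext (by simp)
      show x₁ ∈ H ⟨(0 : ZMod (J' + 1)).val, ZMod.val_lt 0⟩
      rw [e0, hH, Fin.cons_zero]
      exact hx₁O
    · intro k hk x hx
      have hkv : k.val ≠ 0 := fun h => hk ((ZMod.val_eq_zero k).mp h)
      have hne : (⟨k.val, ZMod.val_lt k⟩ : Fin (J' + 1)) ≠ 0 := by
        intro e
        apply hkv
        have := congrArg Fin.val e
        simpa using this
      obtain ⟨j, hj⟩ := Fin.eq_succ_of_ne_zero hne
      have hx' : x ∈ H ⟨k.val, ZMod.val_lt k⟩ := hx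
      rw [hj, hH, Fin.cons_succ] at hx'
      have hxO : x ∉ O₁ := (Finset.mem_sdiff.mp (hF'X j hx')).2
      have hJ1 : 1 < J' + 1 := by
        have := ZMod.val_lt k
        omega
      have hne' : Function.minimalPeriod w x ≠ p * p ^ b := fun h => hcase ⟨hJ1, x, hxO, h⟩
      exact arrg_fix p hp w b x (hw x) (hmax x) hne'

end Cfsg.Agent.Lib.Helper58.FP
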