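import Cfsg.Agent.Lib.Helper45.FPDefs

/-!
S2276 piece FIB: coordinates on an invariant fibre of size `p * μ`.
-/

set_option autoImplicit false

namespace Cfsg.Agent.Lib.Helper58.FP

open Equiv Cfsg.Agent.Lib.Helper45.FP

/-- FIB -/
theorem FIB {α : Type*} [Fintype α] [DecidableEq α] (p : ℕ) [Fact p.Prime] (w : Perm α)
    (μ : ℕ) (hμpow : ∃ b : ℕ, μ = p ^ b)
    (hw : ∀ x, ∃ i : ℕ, Function.minimalPeriod w x = p ^ i)
    (hcyc : ∀ x₀ : α, Function.minimalPeriod w x₀ = p * μ →
      ∃ ι : ZMod (p * μ) ↪ α, ι 0 = x₀ ∧ ∀ z, w (ι z) = ι (z + 1))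
    (F : Finset α) (hF : ∀ x ∈ F, w x ∈ F) (hcard : F.card = p * μ)
    (hdiv : ∀ x ∈ F, Function.minimalPeriod w x ∣ p * μ) :
    ∃ γ : ZMod (p * μ) ↪ α, (∀ y, γ y ∈ F) ∧
      ((∀ y, w (γ y) = γ (y + 1)) ∨ (∀ x ∈ F, (w ^ μ) x = x)) := by
  obtain ⟨b, rfl⟩ := hμpow
  have hp : p.Prime := Fact.out
  have hpos : 0 < p * p ^ b := Nat.mul_pos hp.pos (pow_pos hp.pos b)
  haveI : NeZero (p * p ^ b) := ⟨hpos.ne'⟩
  by_cases hex : ∃ x ∈ F, Function.minimalPeriod w x = p * p ^ b
  · obtain ⟨x, hxF, hx⟩ := hex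
    obtain ⟨ι, hι0, hι⟩ := hcyc x hx
    refine ⟨ι, ?_, Or.inl hι⟩
    have key : ∀ n : ℕ, ι (n : ZMod (p * p ^ b)) ∈ F := by
      intro n
      induction n with
      | zero =>
        rw [Nat.cast_zero, hι0]
        exact hxF
      | succ n ih =>
        rw [Nat.cast_succ, ← hι]
        exact hF _ ih
    intro y
    have h1 := key y.val
    rwa [ZMod.natCast_zmod_val] at h1
  · push_neg at hex
    have hfix : ∀ x ∈ F, (w ^ (p ^ b)) x = x := by
      intro x hx
      obtain ⟨i, hi⟩ := hw x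
      have h1 := hdiv x hx
      have h2 := hex x hx
      rw [hi] at h1 h2
      rw [← pow_succ'] at h1 h2
      have h5 := (Nat.pow_dvd_pow_iff_le_right hp.one_lt).mp h1
      have hib : i ≤ b := by
        rcases Nat.lt_or_ge i (b + 1) with h | h
        · omega
        · exfalso
          apply h2
          congr 1
          omega
      have h3 : Function.minimalPeriod w x ∣ p ^ b := by
        rw [hi]
        exact pow_dvd_pow p hib
      have h4 := (Function.isPeriodicPt_minimalPeriod w x).trans_dvd h3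
      rw [← Equiv.Perm.iterate_eq_pow]
      exact h4
    have hc : Fintype.card (ZMod (p * p ^ b)) = Fintype.card F := by
      rw [ZMod.card, Fintype.card_coe, hcard]
    refine ⟨(Fintype.equivOfCardEq hc).toEmbedding.trans (Function.Embedding.subtype _),
      fun y => ((Fintype.equivOfCardEq hc) y).2, Or.inr hfix⟩

end Cfsg.Agent.Lib.Helper58.FP
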