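import Mathlib
import Cfsg.Prelude.Def_GeometricClasses
import Cfsg.Prelude.Def_LieClassical
import Cfsg.Agent.Lib.Helper71.Asch5
import Cfsg.Agent.Lib.Helper82.ASB8UNITS
import Cfsg.Agent.Lib.Helper44.BADDefs

/-! Project BAD (helper44; sub-project of helper49's SUG = S5663), piece AIRR (helper58):
the tensor products of the elements of a spanning set act absolutely irreducibly. -/

set_option autoImplicit false
set_option linter.unusedSectionVars false

namespace Cfsg.Agent.Lib.Helper44.BAD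

open Matrix Cfsg.Geo Cfsg.Agent.Lib.Helper71.Asch
open scoped Kronecker

variable {n : ℕ} {F : Type*} [Field F] [Fintype F] {q : ℕ}

/-- a spanning set of matrices acts absolutely irreducibly -/
theorem AIRR_absIrr_of_span {d : ℕ} (T : Set (Matrix (Fin d) (Fin d) F))
    (hspan : Submodule.span F T = ⊤) : ActsAbsolutelyIrreducibly T := by
  classical
  constructor
  · intro W hW
    have hall : ∀ M : Matrix (Fin d) (Fin d) F, ∀ w ∈ W, M *ᵥ w ∈ W := by
      intro M
      have hM : M ∈ Submodule.span F T := by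
        rw [hspan]
        trivial
      induction hM using Submodule.span_induction with
      | mem s hs =>
        intro w hw
        have h1 := hW s hs (Submodule.mem_map_of_mem hw)
        rwa [Matrix.toLin'_apply] at h1
      | zero =>
        intro w hw
        rw [Matrix.zero_mulVec]
        exact W.zero_mem
      | add x y _ _ hx hy =>
        intro w hw
        rw [Matrix.add_mulVec]
        exact W.add_mem (hx w hw) (hy w hw)
      | smul c x _ hx =>
        intro w hw
        rw [Matrix.smul_mulVec]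
        exact W.smul_mem c (hx w hw)
    by_cases hbot : W = ⊥
    · left
      exact hbot
    · right
      obtain ⟨w, hw, hw0⟩ := (Submodule.ne_bot_iff W).mp hbot
      have hex : ∃ i, w i ≠ 0 := by
        by_contra hcon
        push Not at hcon
        exact hw0 (funext hcon)
      obtain ⟨i, hi⟩ := hex
      rw [eq_top_iff]
      intro v _
      have hv : Matrix.vecMulVec v (Pi.single i (w i)⁻¹) *ᵥ w = v := by
        ext a
        simp only [Matrix.mulVec, dotProduct, Matrix.vecMulVec_apply]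
        rw [Finset.sum_eq_single i]
        · rw [Pi.single_eq_same, mul_assoc, inv_mul_cancel₀ hi, mul_one]
        · intro b _ hb
          rw [Pi.single_eq_of_ne hb, mul_zero, zero_mul]
        · intro h
          exact absurd (Finset.mem_univ i) h
      rw [← hv]
      exact hall _ w hw
  · intro M hM
    have hall : ∀ X : Matrix (Fin d) (Fin d) F, M * X = X * M := by
      intro X
      have hX : X ∈ Submodule.span F T := by
        rw [hspan]
        trivial
      induction hX using Submodule.span_induction with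
      | mem s hs => exact hM s hs
      | zero => rw [mul_zero, zero_mul]
      | add x y _ _ hx hy => rw [mul_add, add_mul, hx, hy]
      | smul c x _ hx => rw [Matrix.mul_smul, Matrix.smul_mul, hx]
    have h1 : M ∈ Set.range (Matrix.scalar (Fin d)) := by
      rw [Matrix.mem_range_scalar_iff_commute_single']
      intro i j
      exact (hall _).symm
    obtain ⟨c, hc⟩ := h1
    refine ⟨c, ?_⟩
    rw [← hc, Matrix.smul_one_eq_diagonal]
    rfl

/-- `Y ↦ P Y P⁻¹` (with reindexing) as a linear map -/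
noncomputable def AIRR_phi (e : Fin n ≃ Fin 3 × Fin 3) (P : GL (Fin n) F) :
    Matrix (Fin 3 × Fin 3) (Fin 3 × Fin 3) F →ₗ[F] Matrix (Fin n) (Fin n) F :=
  (LinearMap.mulLeft F P.1) ∘ₗ (LinearMap.mulRight F (P⁻¹ : GL (Fin n) F).1) ∘ₗ
    (Matrix.reindexLinearEquiv F F e.symm e.symm).toLinearMap

theorem AIRR_phi_apply (e : Fin n ≃ Fin 3 × Fin 3) (P : GL (Fin n) F)
    (Y : Matrix (Fin 3 × Fin 3) (Fin 3 × Fin 3) F) :
    AIRR_phi e P Y = P.1 * Matrix.reindex e.symm e.symm Y * (P⁻¹ : GL (Fin n) F).1 := by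
  show P.1 * (Matrix.reindex e.symm e.symm Y * (P⁻¹ : GL (Fin n) F).1) = _
  rw [mul_assoc]

theorem AIRR_tmat_eq (e : Fin n ≃ Fin 3 × Fin 3) (P : GL (Fin n) F)
    (a b : Matrix (Fin 3) (Fin 3) F) : tmat e P a b = AIRR_phi e P (a ⊗ₖ b) := by
  rw [AIRR_phi_apply]
  rfl

theorem AIRR_tmat_add_left (e : Fin n ≃ Fin 3 × Fin 3) (P : GL (Fin n) F)
    (a a' b : Matrix (Fin 3) (Fin 3) F) :
    tmat e P (a + a') b = tmat e P a b + tmat e P a' b := by
  rw [AIRR_tmat_eq, AIRR_tmat_eq, AIRR_tmat_eq, Matrix.add_kronecker, map_add]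

theorem AIRR_tmat_add_right (e : Fin n ≃ Fin 3 × Fin 3) (P : GL (Fin n) F)
    (a b b' : Matrix (Fin 3) (Fin 3) F) :
    tmat e P a (b + b') = tmat e P a b + tmat e P a b' := by
  rw [AIRR_tmat_eq, AIRR_tmat_eq, AIRR_tmat_eq, Matrix.kronecker_add, map_add]

theorem AIRR_tmat_smul_left (e : Fin n ≃ Fin 3 × Fin 3) (P : GL (Fin n) F) (c : F)
    (a b : Matrix (Fin 3) (Fin 3) F) :
    tmat e P (c • a) b = c • tmat e P a b := by
  rw [AIRR_tmat_eq, AIRR_tmat_eq, Matrix.smul_kronecker, map_smul]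

theorem AIRR_tmat_smul_right (e : Fin n ≃ Fin 3 × Fin 3) (P : GL (Fin n) F) (c : F)
    (a b : Matrix (Fin 3) (Fin 3) F) :
    tmat e P a (c • b) = c • tmat e P a b := by
  rw [AIRR_tmat_eq, AIRR_tmat_eq, Matrix.kronecker_smul, map_smul]

theorem AIRR_tmat_zero_left (e : Fin n ≃ Fin 3 × Fin 3) (P : GL (Fin n) F)
    (b : Matrix (Fin 3) (Fin 3) F) : tmat e P 0 b = 0 := by
  rw [AIRR_tmat_eq, Matrix.zero_kronecker, map_zero]

theorem AIRR_tmat_zero_right (e : Fin n ≃ Fin 3 × Fin 3) (P : GL (Fin n) F)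
    (a : Matrix (Fin 3) (Fin 3) F) : tmat e P a 0 = 0 := by
  rw [AIRR_tmat_eq, Matrix.kronecker_zero, map_zero]

theorem AIRR_tmat_mem (e : Fin n ≃ Fin 3 × Fin 3) (P : GL (Fin n) F)
    (S : Set (Matrix (Fin 3) (Fin 3) F)) (hS : Submodule.span F S = ⊤)
    (T : Set (Matrix (Fin n) (Fin n) F)) (hT : ∀ a ∈ S, ∀ b ∈ S, tmat e P a b ∈ T)
    (a b : Matrix (Fin 3) (Fin 3) F) : tmat e P a b ∈ Submodule.span F T := by
  have h1 : ∀ b ∈ S, ∀ a : Matrix (Fin 3) (Fin 3) F, tmat e P a b ∈ Submodule.span F T := by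
    intro b hb a
    have ha : a ∈ Submodule.span F S := by
      rw [hS]
      trivial
    induction ha using Submodule.span_induction with
    | mem s hs => exact Submodule.subset_span (hT s hs b hb)
    | zero => rw [AIRR_tmat_zero_left]; exact Submodule.zero_mem _
    | add x y _ _ hx hy => rw [AIRR_tmat_add_left]; exact Submodule.add_mem _ hx hy
    | smul c x _ hx => rw [AIRR_tmat_smul_left]; exact Submodule.smul_mem _ c hx
  have hb : b ∈ Submodule.span F S := by
    rw [hS]
    trivial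
  induction hb using Submodule.span_induction with
  | mem s hs => exact h1 s hs a
  | zero => rw [AIRR_tmat_zero_right]; exact Submodule.zero_mem _
  | add x y _ _ hx hy => rw [AIRR_tmat_add_right]; exact Submodule.add_mem _ hx hy
  | smul c x _ hx => rw [AIRR_tmat_smul_right]; exact Submodule.smul_mem _ c hx

theorem AIRR_single (p r : Fin 3 × Fin 3) (c : F) :
    (Matrix.single p r c : Matrix (Fin 3 × Fin 3) (Fin 3 × Fin 3) F) =
      (Matrix.single p.1 r.1 c : Matrix (Fin 3) (Fin 3) F) ⊗ₖ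
        (Matrix.single p.2 r.2 (1 : F) : Matrix (Fin 3) (Fin 3) F) := by
  obtain ⟨p1, p2⟩ := p
  obtain ⟨r1, r2⟩ := r
  ext ⟨a, b⟩ ⟨c', d⟩
  simp only [Matrix.kroneckerMap_apply, Matrix.single_apply, Prod.mk.injEq]
  by_cases h1 : p1 = a <;> by_cases h2 : p2 = b <;> by_cases h3 : r1 = c' <;>
    by_cases h4 : r2 = d <;> simp [h1, h2, h3, h4]

theorem AIRR_span (e : Fin n ≃ Fin 3 × Fin 3) (P : GL (Fin n) F)
    (S : Set (Matrix (Fin 3) (Fin 3) F)) (hS : Submodule.span F S = ⊤)
    (T : Set (Matrix (Fin n) (Fin n) F)) (hT : ∀ a ∈ S, ∀ b ∈ S, tmat e P a b ∈ T) :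
    Submodule.span F T = ⊤ := by
  classical
  have hall := AIRR_tmat_mem e P S hS T hT
  have hφ := AIRR_phi_apply e P
  have hY : ∀ Y, AIRR_phi e P Y ∈ Submodule.span F T := by
    intro Y
    rw [Matrix.matrix_eq_sum_single Y, map_sum]
    refine Submodule.sum_mem _ fun p _ => ?_
    rw [map_sum]
    refine Submodule.sum_mem _ fun r _ => ?_
    rw [AIRR_single, ← AIRR_tmat_eq]
    exact hall _ _
  rw [eq_top_iff]
  intro X _
  have hX : X = AIRR_phi e P (Matrix.reindex e e ((P⁻¹ : GL (Fin n) F).1 * X * P.1)) := by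
    rw [hφ]
    have h1 : Matrix.reindex e.symm e.symm (Matrix.reindex e e ((P⁻¹ : GL (Fin n) F).1 * X * P.1))
        = (P⁻¹ : GL (Fin n) F).1 * X * P.1 := by
      ext i j
      simp [Matrix.reindex_apply, Matrix.submatrix_apply]
    rw [h1]
    have h2 : P.1 * (P⁻¹ : GL (Fin n) F).1 = 1 := Units.mul_inv P
    calc X = (P.1 * (P⁻¹ : GL (Fin n) F).1) * X * (P.1 * (P⁻¹ : GL (Fin n) F).1) := by
          rw [h2, one_mul, mul_one]
      _ = P.1 * ((P⁻¹ : GL (Fin n) F).1 * X * P.1) * (P⁻¹ : GL (Fin n) F).1 := by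
          simp only [mul_assoc]
  rw [hX]
  exact hY _

/-- AIRR: the tensor products of the elements of a spanning set act absolutely irreducibly. -/
theorem AIRR (e : Fin n ≃ Fin 3 × Fin 3) (P : GL (Fin n) F)
    (S : Set (Matrix (Fin 3) (Fin 3) F)) (hS : Submodule.span F S = ⊤)
    (T : Set (Matrix (Fin n) (Fin n) F)) (hT : ∀ a ∈ S, ∀ b ∈ S, tmat e P a b ∈ T) :
    ActsAbsolutelyIrreducibly T :=
  AIRR_absIrr_of_span T (AIRR_span e P S hS T hT)

end Cfsg.Agent.Lib.Helper44.BAD
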