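import Mathlib

set_option autoImplicit false

namespace Cfsg.Agent.Lib.Helper58.BG

/-- In a finite cyclic group, an element killed by `l` lies in the subgroup generated by an
element of order `l`. -/
theorem mem_zpowers_of_pow_eq_one {C : Type*} [Group C] [Finite C] [IsCyclic C] (x y : C)
    {l : ℕ} (hl : 0 < l) (hx : orderOf x = l) (hy : y ^ l = 1) : y ∈ Subgroup.zpowers x := by
  classical
  have : Fintype C := Fintype.ofFinite C
  have hle := IsCyclic.card_pow_eq_one_le (α := C) hl
  have hsub : (Finset.range l).image (fun i => x ^ i)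
      ⊆ Finset.univ.filter (fun a : C => a ^ l = 1) := by
    intro z hz
    obtain ⟨i, -, rfl⟩ := Finset.mem_image.mp hz
    rw [Finset.mem_filter]
    refine ⟨Finset.mem_univ _, ?_⟩
    rw [← pow_mul, mul_comm, pow_mul, ← hx, pow_orderOf_eq_one, one_pow]
  have hcard : ((Finset.range l).image (fun i => x ^ i)).card = l := by
    rw [Finset.card_image_of_injOn, Finset.card_range]
    intro i hi j hj hij
    have hi' : i ∈ Set.Iio (orderOf x) := by simpa [hx] using hi
    have hj' : j ∈ Set.Iio (orderOf x) := by simpa [hx] using hj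
    exact pow_injOn_Iio_orderOf hi' hj' hij
  have heq := Finset.eq_of_subset_of_card_le hsub (by rw [hcard]; exact hle)
  have hym : y ∈ Finset.univ.filter (fun a : C => a ^ l = 1) := by simp [hy]
  rw [← heq] at hym
  obtain ⟨i, -, rfl⟩ := Finset.mem_image.mp hym
  exact (Subgroup.zpowers x).pow_mem (Subgroup.mem_zpowers x) i

theorem isCyclic_of_comm_of_prime {H : Type*} [Group H] [Finite H]
    (hc : ∀ a b : H, a * b = b * a)
    (hp : ∀ a b : H, (orderOf a).Prime → orderOf b = orderOf a → b ∈ Subgroup.zpowers a) :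
    IsCyclic H := by
  classical
  have : Fintype H := Fintype.ofFinite H
  have hprime : ∀ l : ℕ, l.Prime → (Finset.univ.filter (fun a : H => a ^ l = 1)).card ≤ l := by
    intro l hl
    have : Fact l.Prime := ⟨hl⟩
    by_cases hex : ∃ a : H, a ≠ 1 ∧ a ^ l = 1
    · obtain ⟨a, ha1, hal⟩ := hex
      have hoa : orderOf a = l := orderOf_eq_prime hal ha1
      have hsub : Finset.univ.filter (fun b : H => b ^ l = 1)
          ⊆ (Finset.range l).image (fun i => a ^ i) := by
        intro b hb
        rw [Finset.mem_filter] at hb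
        by_cases hb1 : b = 1
        · rw [Finset.mem_image]
          exact ⟨0, Finset.mem_range.mpr hl.pos, by rw [pow_zero, hb1]⟩
        · have hob : orderOf b = l := orderOf_eq_prime hb.2 hb1
          have hmem := hp a b (hoa ▸ hl) (hob.trans hoa.symm)
          rw [← mem_powers_iff_mem_zpowers, Submonoid.mem_powers_iff] at hmem
          obtain ⟨i, rfl⟩ := hmem
          rw [Finset.mem_image]
          refine ⟨i % l, Finset.mem_range.mpr (Nat.mod_lt _ hl.pos), ?_⟩
          rw [← hoa, pow_mod_orderOf]
      calc (Finset.univ.filter (fun b : H => b ^ l = 1)).card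
          ≤ ((Finset.range l).image (fun i => a ^ i)).card := Finset.card_le_card hsub
        _ ≤ (Finset.range l).card := Finset.card_image_le
        _ = l := Finset.card_range l
    · push Not at hex
      have hsub : Finset.univ.filter (fun b : H => b ^ l = 1) ⊆ {1} := by
        intro b hb
        rw [Finset.mem_filter] at hb
        rw [Finset.mem_singleton]
        by_contra h
        exact hex b h hb.2
      calc (Finset.univ.filter (fun b : H => b ^ l = 1)).card
          ≤ ({1} : Finset H).card := Finset.card_le_card hsub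
        _ = 1 := Finset.card_singleton 1
        _ ≤ l := hl.pos
  apply isCyclic_of_card_pow_eq_one_le
  intro n
  induction n using Nat.strong_induction_on with
  | _ n ih =>
  intro hn
  rcases Nat.lt_or_ge n 2 with h2 | h2
  · have hn1 : n = 1 := by omega
    subst hn1
    have hsub : Finset.univ.filter (fun b : H => b ^ 1 = 1) ⊆ {1} := by
      intro b hb
      rw [Finset.mem_filter, pow_one] at hb
      rw [Finset.mem_singleton]
      exact hb.2
    calc (Finset.univ.filter (fun b : H => b ^ 1 = 1)).card
        ≤ ({1} : Finset H).card := Finset.card_le_card hsub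
      _ = 1 := Finset.card_singleton 1
  · obtain ⟨m, hm⟩ := Nat.minFac_dvd n
    have hl : n.minFac.Prime := Nat.minFac_prime (by omega)
    have hmpos : 0 < m := by
      rcases Nat.eq_zero_or_pos m with h | h
      · rw [h, mul_zero] at hm; omega
      · exact h
    have hmlt : m < n := by
      have := hl.two_le
      calc m < n.minFac * m := by nlinarith
        _ = n := hm.symm
    have ihm := ih m hmlt hmpos
    have hmaps : ∀ a ∈ Finset.univ.filter (fun a : H => a ^ n = 1),
        a ^ n.minFac ∈ Finset.univ.filter (fun a : H => a ^ m = 1) := by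
      intro a ha
      rw [Finset.mem_filter] at ha ⊢
      refine ⟨Finset.mem_univ _, ?_⟩
      rw [← pow_mul, ← hm]; exact ha.2
    have hfib : ∀ c ∈ Finset.univ.filter (fun a : H => a ^ m = 1),
        ((Finset.univ.filter (fun a : H => a ^ n = 1)).filter
          (fun a => a ^ n.minFac = c)).card ≤ n.minFac := by
      intro c _
      by_cases hne : ((Finset.univ.filter (fun a : H => a ^ n = 1)).filter
          (fun a => a ^ n.minFac = c)).Nonempty
      · obtain ⟨x0, hx0⟩ := hne
        rw [Finset.mem_filter] at hx0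
        calc ((Finset.univ.filter (fun a : H => a ^ n = 1)).filter
              (fun a => a ^ n.minFac = c)).card
            ≤ (Finset.univ.filter (fun a : H => a ^ n.minFac = 1)).card := by
              apply Finset.card_le_card_of_injOn (fun x => x * x0⁻¹)
              · intro x hx
                rw [Finset.mem_coe, Finset.mem_filter] at hx
                rw [Finset.mem_coe, Finset.mem_filter]
                refine ⟨Finset.mem_univ _, ?_⟩
                rw [(show Commute x x0⁻¹ from hc x x0⁻¹).mul_pow, hx.2, inv_pow, hx0.2,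
                  mul_inv_cancel]
              · intro x _ y _ hxy
                exact mul_right_cancel hxy
          _ ≤ n.minFac := hprime _ hl
      · rw [Finset.not_nonempty_iff_eq_empty] at hne
        rw [hne]; simp
    calc (Finset.univ.filter (fun a : H => a ^ n = 1)).card
        ≤ n.minFac * (Finset.univ.filter (fun a : H => a ^ m = 1)).card :=
          Finset.card_le_mul_card_image_of_maps_to hmaps _ hfib
      _ ≤ n.minFac * m := Nat.mul_le_mul_left _ ihm
      _ = n := hm.symm

theorem eq_of_card_eq_of_le_cyclic {Q : Type*} [Group Q] [Finite Q] (C A B : Subgroup Q)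
    (hC : IsCyclic ↥C) (hA : A ≤ C) (hB : B ≤ C) (h : Nat.card ↥A = Nat.card ↥B) : A = B := by
  have key : ∀ A B : Subgroup Q, A ≤ C → B ≤ C → Nat.card ↥A = Nat.card ↥B → B ≤ A := by
    intro A B hA hB h y hy
    have hcA : Nat.card ↥(A.subgroupOf C) = Nat.card ↥A :=
      Nat.card_congr (Subgroup.subgroupOfEquivOfLe hA).toEquiv
    obtain ⟨g, hg⟩ := IsCyclic.exists_generator (α := ↥(A.subgroupOf C))
    have hog : orderOf g = Nat.card ↥(A.subgroupOf C) := orderOf_eq_card_of_forall_mem_zpowers hg
    have hog' : orderOf (g : ↥C) = Nat.card ↥A := by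
      rw [Subgroup.orderOf_coe, hog, hcA]
    have hy' : (⟨y, hB hy⟩ : ↥C) ^ Nat.card ↥A = 1 := by
      rw [h]
      have h1 : (⟨y, hy⟩ : ↥B) ^ Nat.card ↥B = 1 := pow_card_eq_one'
      have h2 : y ^ Nat.card ↥B = 1 := by
        have := congrArg (Subtype.val) h1
        rw [Subgroup.coe_pow, Subgroup.coe_one] at this
        exact this
      apply Subtype.ext
      simpa using h2
    have hmem := mem_zpowers_of_pow_eq_one (g : ↥C) ⟨y, hB hy⟩ Nat.card_pos hog' hy'
    have hle : Subgroup.zpowers (g : ↥C) ≤ A.subgroupOf C :=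
      (Subgroup.zpowers_le).mpr g.2
    exact hle hmem
  exact le_antisymm (key B A hB hA h.symm) (key A B hA hB h)

theorem cyclic_of_central_ker {Q : Type*} [Group Q] (Γ S : Subgroup Q) [Finite ↥Γ] (hS : S ≤ Γ)
    {C : Type*} [Group C] [Finite C] [IsCyclic C] (χ : ↥S →* C)
    (hker : ∀ s : ↥S, χ s = 1 → ∀ γ ∈ Γ, γ * (s : Q) = (s : Q) * γ)
    (hconj : ∀ a ∈ Γ, ∀ b ∈ Γ, (orderOf a).Prime → orderOf b = orderOf a →
      ∃ g ∈ Γ, ∃ i : ℤ, b = g * a ^ i * g⁻¹) : IsCyclic ↥S := by
  have hSfin : Finite ↥S :=
    Finite.of_injective (Subgroup.inclusion hS) (Subgroup.inclusion_injective hS)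
  have hkc : χ.ker ≤ Subgroup.center ↥S := by
    intro s hs
    rw [Subgroup.mem_center_iff]
    intro t
    have := hker s (MonoidHom.mem_ker.mp hs) (t : Q) (hS t.2)
    exact Subtype.ext this
  have hcomm : ∀ a b : ↥S, a * b = b * a := fun a b =>
    (χ.isMulCommutative_of_isCyclic_of_ker_le_center hkc).is_comm.comm a b
  apply isCyclic_of_comm_of_prime hcomm
  intro a b hla hob
  have hlF : Fact (orderOf a).Prime := ⟨hla⟩
  have hal : a ^ orderOf a = 1 := pow_orderOf_eq_one a
  have hbl : b ^ orderOf a = 1 := by rw [← hob]; exact pow_orderOf_eq_one b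
  have hcentral : ∀ c : ↥S, χ c = 1 → ∀ d : ↥S, orderOf c = orderOf a → orderOf d = orderOf a →
      d ∈ Subgroup.zpowers c := by
    intro c hc d hoc hod
    have hcQ : orderOf (c : Q) = orderOf a := by rw [Subgroup.orderOf_coe]; exact hoc
    have hdQ : orderOf (d : Q) = orderOf a := by rw [Subgroup.orderOf_coe]; exact hod
    obtain ⟨g, hg, i, hi⟩ := hconj (c : Q) (hS c.2) (d : Q) (hS d.2) (hcQ ▸ hla)
      (hdQ.trans hcQ.symm)
    have hcomm' : g * (c : Q) ^ i = (c : Q) ^ i * g := by
      have h1 : Commute g (c : Q) := hker c hc g hg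
      exact (h1.zpow_right i).eq
    rw [Subgroup.mem_zpowers_iff]
    refine ⟨i, Subtype.ext ?_⟩
    rw [hi, hcomm', mul_inv_cancel_right]
    simp
  by_cases hχa : χ a = 1
  · exact hcentral a hχa b rfl hob
  · have hχal : (χ a) ^ orderOf a = 1 := by rw [← map_pow, hal, map_one]
    have hχbl : (χ b) ^ orderOf a = 1 := by rw [← map_pow, hbl, map_one]
    have hoχa : orderOf (χ a) = orderOf a := orderOf_eq_prime hχal hχa
    have hmem : χ b ∈ Subgroup.zpowers (χ a) :=
      mem_zpowers_of_pow_eq_one (χ a) (χ b) hla.pos hoχa hχbl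
    obtain ⟨i, hi⟩ := Subgroup.mem_zpowers_iff.mp hmem
    have hχc : χ (b * a ^ (-i)) = 1 := by
      rw [map_mul, map_zpow, ← hi, ← zpow_add, add_neg_cancel, zpow_zero]
    have hcl : (b * a ^ (-i)) ^ orderOf a = 1 := by
      rw [(show Commute b (a ^ (-i)) from hcomm _ _).mul_pow, hbl, one_mul, ← zpow_natCast,
        ← zpow_mul, mul_comm, zpow_mul, zpow_natCast, hal, one_zpow]
    by_cases hc1 : b * a ^ (-i) = 1
    · have hb : b = a ^ i := by
        rw [zpow_neg, mul_inv_eq_one] at hc1
        exact hc1
      rw [hb]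
      exact Subgroup.zpow_mem_zpowers a i
    · have hoc : orderOf (b * a ^ (-i)) = orderOf a := orderOf_eq_prime hcl hc1
      have hac : a ∈ Subgroup.zpowers (b * a ^ (-i)) := hcentral _ hχc a hoc rfl
      have hle : Subgroup.zpowers a ≤ Subgroup.zpowers (b * a ^ (-i)) :=
        (Subgroup.zpowers_le).mpr hac
      have heq : Subgroup.zpowers a = Subgroup.zpowers (b * a ^ (-i)) :=
        Subgroup.eq_of_le_of_card_ge hle (by rw [Nat.card_zpowers, Nat.card_zpowers, hoc])
      have hcm : b * a ^ (-i) ∈ Subgroup.zpowers a := heq ▸ Subgroup.mem_zpowers _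
      have hb : b = (b * a ^ (-i)) * a ^ i := by group
      rw [hb]
      exact mul_mem hcm (Subgroup.zpow_mem_zpowers a i)

end Cfsg.Agent.Lib.Helper58.BG
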