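import Cfsg.Agent.Lib.Helper58.ChermakDelgado

set_option autoImplicit false
open Pointwise

namespace Cfsg.Agent.Lib.Helper58

variable {G : Type*} [Group G]

theorem center_map_subtype (R : Subgroup G) :
    (Subgroup.center ↥R).map R.subtype = R ⊓ Subgroup.centralizer (R : Set G) := by
  ext x
  rw [Subgroup.mem_map, Subgroup.mem_inf]
  constructor
  · rintro ⟨⟨y, hy⟩, hyc, rfl⟩
    refine ⟨hy, ?_⟩
    rw [Subgroup.mem_centralizer_iff]
    intro h hh
    have := (Subgroup.mem_center_iff.mp hyc) ⟨h, hh⟩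
    exact congrArg Subtype.val this
  · rintro ⟨hx, hxc⟩
    refine ⟨⟨x, hx⟩, ?_, rfl⟩
    rw [Subgroup.mem_center_iff]
    rintro ⟨h, hh⟩
    apply Subtype.ext
    exact (Subgroup.mem_centralizer_iff.mp hxc) h hh

theorem card_center_eq (R : Subgroup G) :
    Nat.card ↥(Subgroup.center ↥R) = Nat.card ↥(R ⊓ Subgroup.centralizer (R : Set G)) := by
  rw [← center_map_subtype]
  exact (Subgroup.card_map_of_injective R.subtype_injective).symm

/-- The "central" measure `|R| * |Z(R)|`. -/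
noncomputable def clm (H : Subgroup G) : ℕ :=
  Nat.card H * Nat.card ↥(H ⊓ Subgroup.centralizer (H : Set G))

theorem isCentrallyLarge_iff (H : Subgroup G) :
    Cfsg.IsCentrallyLarge H ↔ clm H = Cfsg.maxCentralProduct G := by
  unfold Cfsg.IsCentrallyLarge clm
  rw [card_center_eq]

theorem clm_le_cdm [Finite G] (H : Subgroup G) : clm H ≤ cdm H := by
  unfold clm cdm
  exact Nat.mul_le_mul_left _ (Subgroup.card_le_of_le inf_le_right)

theorem clm_eq_cdm_of_le (H : Subgroup G) (h : Subgroup.centralizer (H : Set G) ≤ H) :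
    clm H = cdm H := by
  unfold clm cdm
  rw [inf_of_le_right h]

theorem clm_set_bddAbove [Finite G] :
    BddAbove {k : ℕ | ∃ R : Subgroup G, Nat.card ↥R * Nat.card ↥(Subgroup.center ↥R) = k} := by
  refine ⟨Nat.card G * Nat.card G, ?_⟩
  rintro k ⟨R, rfl⟩
  rw [card_center_eq]
  exact Nat.mul_le_mul (Subgroup.card_le_card_group R) (Subgroup.card_le_card_group _)

theorem clm_le_max [Finite G] (H : Subgroup G) : clm H ≤ Cfsg.maxCentralProduct G := by
  apply le_csSup clm_set_bddAbove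
  exact ⟨H, by rw [card_center_eq]; rfl⟩

theorem exists_isCentrallyLarge [Finite G] : ∃ H : Subgroup G, Cfsg.IsCentrallyLarge H := by
  have hne : {k : ℕ | ∃ R : Subgroup G, Nat.card ↥R * Nat.card ↥(Subgroup.center ↥R) = k}.Nonempty :=
    ⟨_, ⟨⊥, rfl⟩⟩
  obtain ⟨R, hR⟩ := Nat.sSup_mem hne clm_set_bddAbove
  exact ⟨R, hR⟩

/-- The two maxima coincide. -/
theorem maxCentralProduct_eq [Finite G] :
    Cfsg.maxCentralProduct G = Cfsg.maxCentralizerProduct G := by
  apply le_antisymm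
  · obtain ⟨H, hH⟩ := exists_isCentrallyLarge (G := G)
    rw [isCentrallyLarge_iff] at hH
    rw [← hH]
    exact le_trans (clm_le_cdm H) (cdm_le_max H)
  · obtain ⟨Q, hQ⟩ := exists_isCentralizerLarge (G := G)
    obtain ⟨hC, hQC⟩ := cd_centralizer Q hQ
    obtain ⟨-, hsup, -, -, -⟩ := cd_main Q _ hQ hC
    have hle : Subgroup.centralizer ((Q ⊔ Subgroup.centralizer (Q : Set G) : Subgroup G) : Set G)
        ≤ Q ⊔ Subgroup.centralizer (Q : Set G) := by
      rw [centralizer_sup_eq, ← hQC]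
      exact le_trans inf_le_right le_sup_left
    have := clm_eq_cdm_of_le _ hle
    rw [isCentralizerLarge_iff] at hsup
    rw [← hsup, ← this]
    exact clm_le_max _

theorem centrallyLarge_imp [Finite G] (Q : Subgroup G) (hQ : Cfsg.IsCentrallyLarge Q) :
    Cfsg.IsCentralizerLarge Q ∧ Subgroup.centralizer (Q : Set G) = Q ⊓ Subgroup.centralizer (Q : Set G) := by
  rw [isCentrallyLarge_iff, maxCentralProduct_eq] at hQ
  have h1 : cdm Q = Cfsg.maxCentralizerProduct G :=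
    le_antisymm (cdm_le_max Q) (hQ ▸ clm_le_cdm Q)
  refine ⟨h1, ?_⟩
  symm
  apply Subgroup.eq_of_le_of_card_ge inf_le_right
  have h2 : clm Q = cdm Q := by rw [hQ, h1]
  unfold clm cdm at h2
  exact (Nat.eq_of_mul_eq_mul_left Nat.card_pos h2).ge

theorem centrallyLarge_iff_of_centralizerLarge [Finite G] (Q : Subgroup G)
    (hQ : Cfsg.IsCentralizerLarge Q) :
    Cfsg.IsCentrallyLarge Q ↔ Subgroup.centralizer (Q : Set G) ≤ Q := by
  constructor
  · intro h
    rw [(centrallyLarge_imp Q h).2]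
    exact inf_le_left
  · intro h
    rw [isCentrallyLarge_iff, maxCentralProduct_eq, clm_eq_cdm_of_le Q h]
    exact hQ

theorem centrallyLarge_sup [Finite G] (Q R : Subgroup G) (hQ : Cfsg.IsCentrallyLarge Q)
    (hR : Cfsg.IsCentrallyLarge R) :
    ((Q ⊔ R : Subgroup G) : Set G) = (Q : Set G) * (R : Set G) ∧ Cfsg.IsCentrallyLarge (Q ⊔ R) := by
  obtain ⟨hQ1, hQ2⟩ := centrallyLarge_imp Q hQ
  obtain ⟨hR1, hR2⟩ := centrallyLarge_imp R hR
  obtain ⟨h1, h2, -, -, -⟩ := cd_main Q R hQ1 hR1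
  refine ⟨h1, ?_⟩
  rw [centrallyLarge_iff_of_centralizerLarge _ h2, centralizer_sup_eq]
  refine le_trans inf_le_left (le_trans ?_ le_sup_left)
  rw [hQ2]; exact inf_le_left

/-- The join of a nonempty family of centrally large subgroups is centrally large. -/
theorem centrallyLarge_sSup [Finite G] (𝒮 : Set (Subgroup G)) (hne : 𝒮.Nonempty)
    (h𝒮 : ∀ R ∈ 𝒮, Cfsg.IsCentrallyLarge R) : Cfsg.IsCentrallyLarge (sSup 𝒮) := by
  classical
  obtain ⟨R₀, hR₀⟩ := hne
  have : Nonempty {R : Subgroup G // Cfsg.IsCentrallyLarge R ∧ R ≤ sSup 𝒮} :=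
    ⟨⟨R₀, h𝒮 R₀ hR₀, le_sSup hR₀⟩⟩
  obtain ⟨⟨R, hRcl, hRle⟩, hmax⟩ := Finite.exists_max
    (fun R : {R : Subgroup G // Cfsg.IsCentrallyLarge R ∧ R ≤ sSup 𝒮} => Nat.card (R : Subgroup G))
  have hall : ∀ X ∈ 𝒮, X ≤ R := by
    intro X hX
    have hcl := (centrallyLarge_sup R X hRcl (h𝒮 X hX)).2
    have hle : R ⊔ X ≤ sSup 𝒮 := sup_le hRle (le_sSup hX)
    have hcard := hmax ⟨R ⊔ X, hcl, hle⟩
    simp only at hcard
    have : R = R ⊔ X := Subgroup.eq_of_le_of_card_ge le_sup_left hcard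
    rw [this]; exact le_sup_right
  have : sSup 𝒮 = R := le_antisymm (sSup_le hall) hRle
  rw [this]; exact hRcl

theorem exists_isMinimalCentrallyLarge_le [Finite G] (Q : Subgroup G) (hQ : Cfsg.IsCentrallyLarge Q) :
    ∃ R : Subgroup G, Cfsg.IsMinimalCentrallyLarge R ∧ R ≤ Q := by
  classical
  have : Nonempty {R : Subgroup G // Cfsg.IsCentrallyLarge R ∧ R ≤ Q} := ⟨⟨Q, hQ, le_rfl⟩⟩
  obtain ⟨⟨R, hRcl, hRle⟩, hmin⟩ := Finite.exists_min
    (fun R : {R : Subgroup G // Cfsg.IsCentrallyLarge R ∧ R ≤ Q} => Nat.card (R : Subgroup G))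
  refine ⟨R, ⟨hRcl, ?_⟩, hRle⟩
  intro R' hR'le hR'cl
  have := hmin ⟨R', hR'cl, le_trans hR'le hRle⟩
  simp only at this
  exact Subgroup.eq_of_le_of_card_ge hR'le this

theorem centrallyLargeJoin_isCentrallyLarge [Finite G] :
    Cfsg.IsCentrallyLarge (Cfsg.centrallyLargeJoin G) := by
  unfold Cfsg.centrallyLargeJoin
  apply centrallyLarge_sSup
  · exact exists_isCentrallyLarge
  · intro R hR; exact hR

theorem minimalCentrallyLargeJoin_isCentrallyLarge [Finite G] :
    Cfsg.IsCentrallyLarge (Cfsg.minimalCentrallyLargeJoin G) := by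
  unfold Cfsg.minimalCentrallyLargeJoin
  apply centrallyLarge_sSup
  · obtain ⟨Q, hQ⟩ := exists_isCentrallyLarge (G := G)
    obtain ⟨R, hR, -⟩ := exists_isMinimalCentrallyLarge_le Q hQ
    exact ⟨R, hR⟩
  · intro R hR; exact hR.1

end Cfsg.Agent.Lib.Helper58
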