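import Cfsg.Agent.Lib.Helper92.FT12Defs
import Cfsg.Agent.S1427

/-!
# B&G Theorem 12.12 (S1421), piece GL (helper58 for helper92)

In the abelian Sylow case either every line of `A` is good or some `E`-invariant line is good.
-/

set_option autoImplicit false

open Cfsg Cfsg.Agent.Lib.Helper92.FT Cfsg.Agent.Lib.Helper32

namespace Cfsg.Agent.Lib.Helper58.FT12

universe u

section Aux

variable {G : Type u} [Group G]

/-- if `M` is the unique coatom over `C(X)` then `N(X) ≤ M` -/
theorem normalizer_le_of_uniq (hG : IsMinSimpleOddOrder G) {M : Subgroup G} (hM : IsCoatom M)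
    (hM1 : M ≠ ⊥) {X : Subgroup G} (hXM : Subgroup.centralizer (X : Set G) ≤ M)
    (huniq : ∀ L : Subgroup G, IsCoatom L → Subgroup.centralizer (X : Set G) ≤ L → L = M) :
    Subgroup.normalizer (X : Set G) ≤ M := by
  intro n hn
  have h1 : Subgroup.centralizer (X : Set G) ≤ cj n⁻¹ M := by
    intro c hc
    rw [mem_cj]
    apply hXM
    rw [Subgroup.mem_centralizer_iff] at hc ⊢
    intro x hx
    have hx' : n⁻¹ * x * n ∈ X := by
      have := (Subgroup.mem_normalizer_iff.mp (Subgroup.inv_mem _ hn) x).mp hx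
      simpa using this
    have h2 := hc _ hx'
    simp only [inv_inv]
    calc x * (n * c * n⁻¹) = n * (n⁻¹ * x * n * c) * n⁻¹ := by group
      _ = n * (c * (n⁻¹ * x * n)) * n⁻¹ := by rw [h2]
      _ = n * c * n⁻¹ * x := by group
  have h2 := huniq _ (isCoatom_cj n⁻¹ hM) h1
  have h3 : n⁻¹ ∈ Subgroup.normalizer (M : Set G) := cj_eq_self_iff.mp h2
  have h4 : Subgroup.normalizer (M : Set G) = M :=
    normalizer_eq_of_coatom hG hM hM1 le_rfl Subgroup.le_normalizer
  rw [h4] at h3
  simpa using M.inv_mem h3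

end Aux

theorem gl_of (hb : NBarStmt.{u}) (ho : LinOddStmt.{u}) (hk : KeyStmt.{u}) : GLStmt.{u} := by
  intro G _ _ hG M E hyp p _ A hT2 hS hσ
  have h16 : Cfsg.Agent.Lib.Helper3.BG12.H16 G :=
    fun M hM p _ A hA => Cfsg.Agent.S1416.result hG M hM p A hA
  have h17 : Cfsg.Agent.Lib.Helper3.BG12.H17 G :=
    fun M hM p _ hp A hA => Cfsg.Agent.S1417.result hG M hM p hp A hA
  have h18 := Cfsg.Agent.Lib.Helper3.BG12.h18_of hG h16 h17
  have hEM : E ≤ M := hyp.hE.1
  obtain ⟨-, -, -, -, -, A₁, hA₁A, hA₁c, hA₁g⟩ :=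
    h17 M hyp.hM p hT2.hp A ⟨hT2.hAE.trans hEM, hT2.hA, hT2.hA2⟩
  obtain ⟨⟨hEA, -⟩, ⟨-, -, hNA⟩, hbad⟩ :=
    h18 M hyp.hM E hyp.hE p hT2.hp A ⟨hT2.hAE, hT2.hA, hT2.hA2⟩
  have hM1 : M ≠ ⊥ := by
    intro h
    apply hσ
    exact le_bot_iff.mp (h ▸ hyp.hE.2.1)
  right
  by_cases hmix : ∃ e ∈ E, ∃ X L : Subgroup G, X ≤ A ∧ Nat.card X = p ∧ L ≤ A ∧ Nat.card L = p ∧
      e ∈ Subgroup.normalizer (X : Set G) ∧ e ∉ Subgroup.normalizer (L : Set G)
  · obtain ⟨e, he, X, L, hXA, hXc, hLA, hLc, heX, heL⟩ := hmix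
    have hNX : Subgroup.normalizer (A : Set G) ≤ Subgroup.normalizer (X : Set G) := by
      intro n hn
      have hodd : Odd (orderOf n) := Odd.of_dvd_nat hG.1 (orderOf_dvd_natCard n)
      exact ho G p A hT2.hA hT2.hA2 e (hEA he) n hn hodd
        (hb G hG M E hyp.hM hyp.hE p A hT2 hS n hn e (hEA he)) X L hXA hXc hLA hLc heX heL
    refine ⟨X, hXA, hXc, hEA.trans hNX, ?_⟩
    by_contra hbadX
    obtain ⟨hCX, huniq⟩ := hbad X hXA hXc hbadX
    exact hNA (hNX.trans (normalizer_le_of_uniq hG hyp.hM hM1 hCX huniq))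
  · have hall : ∀ (n : ℕ) (e : G), e ∈ E → orderOf e = n → ∀ X : Subgroup G, X ≤ A →
        Nat.card X = p → e ∈ Subgroup.normalizer (X : Set G) := by
      intro n
      induction n using Nat.strong_induction_on with
      | _ n ih =>
        intro e he hn X hXA hXc
        by_cases hpp : ∃ q k : ℕ, q.Prime ∧ orderOf e = q ^ k
        · obtain ⟨q, k, hq, hqk⟩ := hpp
          obtain ⟨Y, hYA, hYc, hY⟩ := hk G hG M E hyp p A hT2 hS hσ e he q hq ⟨k, hqk⟩
          by_contra hcon
          exact hmix ⟨e, he, Y, X, hYA, hYc, hXA, hXc, hY, hcon⟩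
        · have hn0 : 0 < n := hn ▸ orderOf_pos e
          have hn1 : n ≠ 1 := by
            intro h1
            exact hpp ⟨2, 0, Nat.prime_two, by rw [hn, h1, pow_zero]⟩
          have hqp : (n.minFac).Prime := Nat.minFac_prime hn1
          have hqn : n.minFac ∣ n := Nat.minFac_dvd n
          obtain ⟨a, ha⟩ : ∃ a : ℕ, a = n.minFac ^ n.factorization n.minFac := ⟨_, rfl⟩
          obtain ⟨b, hb'⟩ : ∃ b : ℕ, b = n / n.minFac ^ n.factorization n.minFac := ⟨_, rfl⟩
          have hab : a * b = n := by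
            rw [ha, hb']; exact Nat.ordProj_mul_ordCompl_eq_self n n.minFac
          have hcop : Nat.Coprime a b := by
            rw [ha, hb']; exact (Nat.coprime_ordCompl hqp hn0.ne').pow_left _
          have ha1 : 1 < a := by
            have : 0 < n.factorization n.minFac := hqp.factorization_pos_of_dvd hn0.ne' hqn
            rw [ha]
            exact Nat.one_lt_pow this.ne' hqp.one_lt
          have hb1 : b ≠ 1 := by
            intro hb1
            apply hpp
            refine ⟨n.minFac, n.factorization n.minFac, hqp, ?_⟩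
            rw [hn, ← ha, ← hab, hb1, mul_one]
          have hb0 : 0 < b := Nat.pos_of_ne_zero (by rintro h0; rw [h0, mul_zero] at hab; omega)
          have hoa : orderOf (e ^ a) = b := by
            rw [orderOf_pow_of_dvd (by omega) (by rw [hn]; exact Dvd.intro _ hab), hn]
            exact Nat.div_eq_of_eq_mul_right (by omega) hab.symm
          have hob : orderOf (e ^ b) = a := by
            rw [orderOf_pow_of_dvd (by omega) (by rw [hn]; exact Dvd.intro_left _ hab), hn]
            exact Nat.div_eq_of_eq_mul_left hb0 hab.symm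
          have hba : b < n := by nlinarith
          have han : a < n := by
            have : 1 < b := by omega
            nlinarith
          have h1 := ih b hba (e ^ a) (E.pow_mem he a) hoa X hXA hXc
          have h2 := ih a han (e ^ b) (E.pow_mem he b) hob X hXA hXc
          have hg := Nat.gcd_eq_gcd_ab a b
          rw [hcop.gcd_eq_one] at hg
          have h3 : e = (e ^ a) ^ (Nat.gcdA a b) * (e ^ b) ^ (Nat.gcdB a b) := by
            rw [← zpow_natCast e a, ← zpow_natCast e b, ← zpow_mul, ← zpow_mul, ← zpow_add, ← hg]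
            simp
          rw [h3]
          exact Subgroup.mul_mem _ (Subgroup.zpow_mem _ h1 _) (Subgroup.zpow_mem _ h2 _)
    exact ⟨A₁, hA₁A, hA₁c, fun e he => hall _ e he rfl A₁ hA₁A hA₁c, hA₁g⟩

end Cfsg.Agent.Lib.Helper58.FT12
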