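import Cfsg.Agent.Lib.Helper58.FT12GL

/-!
# B&G Theorem 12.12 (S1421), piece GOODLINE (helper58 for helper92)

As GL, with the good invariant line lying under an element of maximal order of the Sylow
`p`-subgroup `P` of `E`.
-/

set_option autoImplicit false

open Cfsg Cfsg.Agent.Lib.Helper92.FT Cfsg.Agent.Lib.Helper32

namespace Cfsg.Agent.Lib.Helper58.FT12

universe u

section Aux

variable {G : Type u} [Group G]

/-- the subgroup of `k`-th powers of an abelian subgroup -/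
def powSub (P : Subgroup G) (hc : ∀ a ∈ P, ∀ b ∈ P, a * b = b * a) (k : ℕ) : Subgroup G where
  carrier := {y | ∃ x ∈ P, x ^ k = y}
  mul_mem' := by
    rintro _ _ ⟨x, hx, rfl⟩ ⟨x', hx', rfl⟩
    exact ⟨x * x', P.mul_mem hx hx', (show Commute x x' from hc x hx x' hx').mul_pow k⟩
  one_mem' := ⟨1, P.one_mem, one_pow k⟩
  inv_mem' := by
    rintro _ ⟨x, hx, rfl⟩
    exact ⟨x⁻¹, P.inv_mem hx, inv_pow x k⟩

theorem mem_powSub {P : Subgroup G} {hc : ∀ a ∈ P, ∀ b ∈ P, a * b = b * a} {k : ℕ} {y : G} :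
    y ∈ powSub P hc k ↔ ∃ x ∈ P, x ^ k = y := Iff.rfl

theorem normalizer_le_normalizer_powSub (P : Subgroup G)
    (hc : ∀ a ∈ P, ∀ b ∈ P, a * b = b * a) (k : ℕ) :
    Subgroup.normalizer (P : Set G) ≤ Subgroup.normalizer (powSub P hc k : Set G) := by
  intro g hg
  rw [Subgroup.mem_normalizer_iff]
  intro h
  constructor
  · rintro ⟨x, hx, rfl⟩
    exact ⟨g * x * g⁻¹, (Subgroup.mem_normalizer_iff.mp hg x).mp hx, conj_pow⟩
  · rintro ⟨x, hx, hxe⟩
    have h1 : g⁻¹ * x * g⁻¹⁻¹ ∈ P :=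
      (Subgroup.mem_normalizer_iff.mp (Subgroup.inv_mem _ hg) x).mp hx
    refine ⟨g⁻¹ * x * g⁻¹⁻¹, h1, ?_⟩
    rw [conj_pow, hxe]
    group

end Aux

theorem goodLine_of (hs : NSylStmt.{u}) (hg : GLStmt.{u}) : GoodLineStmt.{u} := by
  intro G _ _ hG M E hyp p _ A hT2 hS hσ P hP
  have hpp : p.Prime := Fact.out
  have h16 : Cfsg.Agent.Lib.Helper3.BG12.H16 G :=
    fun M hM p _ A hA => Cfsg.Agent.S1416.result hG M hM p A hA
  have h17 : Cfsg.Agent.Lib.Helper3.BG12.H17 G :=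
    fun M hM p _ hp A hA => Cfsg.Agent.S1417.result hG M hM p hp A hA
  have h18 := Cfsg.Agent.Lib.Helper3.BG12.h18_of hG h16 h17
  have hEM : E ≤ M := hyp.hE.1
  have hAM : A ≤ M := hT2.hAE.trans hEM
  have hEP : E ≤ Subgroup.normalizer (P : Set G) :=
    hs G hG M E hyp.hM hyp.hE p hT2.hp hS P hP
  obtain ⟨hPE, hPp, hPidx⟩ := hP
  obtain ⟨-, hSyl, -, -, -, -⟩ := h17 M hyp.hM p hT2.hp A ⟨hAM, hT2.hA, hT2.hA2⟩
  obtain ⟨⟨hEA, -⟩, ⟨-, -, hNA⟩, hbad⟩ :=
    h18 M hyp.hM E hyp.hE p hT2.hp A ⟨hT2.hAE, hT2.hA, hT2.hA2⟩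
  have hM1 : M ≠ ⊥ := by
    intro h
    apply hσ
    exact le_bot_iff.mp (h ▸ hyp.hE.2.1)
  -- `P` is a Sylow `p`-subgroup of `E` and of `M`
  obtain ⟨k, hk⟩ := IsPGroup.iff_card.mp hPp
  have h1 : Nat.card P * P.relIndex E = Nat.card E := by
    have h := Subgroup.card_mul_index (P.subgroupOf E)
    rw [Nat.card_congr (Subgroup.subgroupOfEquivOfLe hPE).toEquiv] at h
    exact h
  have hr0 : P.relIndex E ≠ 0 := by
    intro h0
    rw [h0, mul_zero] at h1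
    exact Nat.card_pos.ne' h1.symm
  have hfE : (Nat.card E).factorization p = k := by
    rw [← h1, hk, Nat.factorization_mul (pow_ne_zero _ hpp.ne_zero) hr0, Finsupp.add_apply,
      hpp.factorization_pow, Finsupp.single_eq_same, Nat.factorization_eq_zero_of_not_dvd hPidx,
      add_zero]
  have hPsylE : P ∈ sylSet p E := ⟨hPE, by rw [hfE, hk]⟩
  have hσp : ¬ p ∣ Nat.card (sigmaCore M) := fun h =>
    hT2.hp.2.1 (Cfsg.Agent.Lib.Helper3.BG12S.mem_sigma_of_dvd_sigmaCore hpp h)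
  have hcM : Nat.card M = Nat.card E * Nat.card (sigmaCore M) :=
    Cfsg.Agent.Lib.Helper19.BG12.p17a_card_of_complIn hyp.hE
  have hfM : (Nat.card M).factorization p = k := by
    rw [hcM, Nat.factorization_mul Nat.card_pos.ne' Nat.card_pos.ne', Finsupp.add_apply, hfE,
      Nat.factorization_eq_zero_of_not_dvd hσp, add_zero]
  have hPsylM : P ∈ sylSet p M := ⟨hPE.trans hEM, by rw [hfM, hk]⟩
  obtain ⟨Q, hQ⟩ := exists_sylow_of_mem_sylSet hPsylM
  obtain ⟨hQc, hQA⟩ := hSyl Q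
  rw [hQ] at hQA
  have hcomm : ∀ a ∈ P, ∀ b ∈ P, a * b = b * a := by
    intro a ha b hb
    rw [← hQ] at ha hb
    obtain ⟨a', ha', rfl⟩ := ha
    obtain ⟨b', hb', rfl⟩ := hb
    have h2 := hQc.is_comm.comm ⟨a', ha'⟩ ⟨b', hb'⟩
    have h3 := congrArg (fun z : ↥(Q : Subgroup M) => ((z : M) : G)) h2
    simpa using h3
  have hAP : A ≤ P :=
    normal_pgroup_le_sylSet hPsylE hT2.hAE (IsPGroup.of_card hT2.hA2) hEA
  obtain ⟨hiff, hNP⟩ := hQA hAP
  -- orders of the elements of `P`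
  have hord : ∀ x ∈ P, ∃ i : ℕ, orderOf x = p ^ i := by
    intro x hx
    obtain ⟨j, hj⟩ := hPp ⟨x, hx⟩
    have h2 : x ^ p ^ j = 1 := by
      have := congrArg Subtype.val hj
      simpa using this
    obtain ⟨i, -, hi⟩ := (Nat.dvd_prime_pow hpp).mp (orderOf_dvd_of_pow_eq_one h2)
    exact ⟨i, hi⟩
  -- an element of maximal order
  obtain ⟨c₀, hc₀P, hmax⟩ : ∃ c ∈ P, ∀ x ∈ P, orderOf x ≤ orderOf c := by
    have hfin : (P : Set G).Finite := Set.toFinite _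
    obtain ⟨c, hc, hcm⟩ := Finset.exists_max_image hfin.toFinset orderOf
      ⟨1, hfin.mem_toFinset.mpr P.one_mem⟩
    exact ⟨c, hfin.mem_toFinset.mp hc, fun x hx => hcm x (hfin.mem_toFinset.mpr hx)⟩
  obtain ⟨a, ha⟩ := hord c₀ hc₀P
  have hdiv : ∀ x ∈ P, orderOf x ∣ orderOf c₀ := by
    intro x hx
    obtain ⟨i, hi⟩ := hord x hx
    have h2 := hmax x hx
    rw [hi, ha] at h2 ⊢
    exact pow_dvd_pow p ((Nat.pow_le_pow_iff_right hpp.one_lt).mp h2)
  -- `a ≥ 1`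
  have hA1 : A ≠ ⊥ := by
    intro h
    have h2 := hT2.hA2
    rw [h, Subgroup.card_bot] at h2
    have : 1 < p ^ 2 := Nat.one_lt_pow (by norm_num) hpp.one_lt
    omega
  obtain ⟨y₀, hy₀A, hy₀1⟩ : ∃ y ∈ A, y ≠ 1 := by
    by_contra hcon
    push Not at hcon
    exact hA1 ((Subgroup.eq_bot_iff_forall A).mpr hcon)
  have ha0 : a ≠ 0 := by
    intro h0
    rw [h0, pow_zero] at ha
    have h2 := hdiv y₀ (hAP hy₀A)
    rw [ha, Nat.dvd_one, orderOf_eq_one_iff] at h2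
    exact hy₀1 h2
  obtain ⟨a', rfl⟩ := Nat.exists_eq_succ_of_ne_zero ha0
  have hkdef : orderOf c₀ / p = p ^ a' := by
    rw [ha, pow_succ, Nat.mul_div_cancel _ hpp.pos]
  have hkp : p ^ a' * p = orderOf c₀ := by rw [ha, pow_succ]
  -- the subgroup `U` of `p^a'`-th powers
  have hUA : powSub P hcomm (p ^ a') ≤ A := by
    rintro y ⟨x, hx, rfl⟩
    have hyP : x ^ p ^ a' ∈ P := P.pow_mem hx _
    refine (hiff _ hyP).mp ?_
    rw [← pow_mul, hkp]
    exact orderOf_dvd_iff_pow_eq_one.mp (hdiv x hx)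
  have hc₀U : c₀ ^ p ^ a' ∈ powSub P hcomm (p ^ a') := ⟨c₀, hc₀P, rfl⟩
  have hc₀1 : c₀ ^ p ^ a' ≠ 1 := by
    apply pow_ne_one_of_lt_orderOf (pow_ne_zero _ hpp.ne_zero)
    rw [← hkp]
    have : 0 < p ^ a' := pow_pos hpp.pos _
    have := hpp.one_lt
    nlinarith
  have hNU := normalizer_le_normalizer_powSub P hcomm (p ^ a')
  have hUd : Nat.card (powSub P hcomm (p ^ a')) ∣ p ^ 2 := by
    rw [← hT2.hA2]; exact Subgroup.card_dvd_of_le hUA
  obtain ⟨i, hi2, hi⟩ := (Nat.dvd_prime_pow hpp).mp hUd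
  have hi0 : i ≠ 0 := by
    intro h0
    rw [h0, pow_zero] at hi
    have h2 : powSub P hcomm (p ^ a') = ⊥ := Subgroup.card_eq_one.mp hi
    rw [h2, Subgroup.mem_bot] at hc₀U
    exact hc₀1 hc₀U
  rcases (by omega : i = 1 ∨ i = 2) with rfl | rfl
  · rw [pow_one] at hi
    refine Or.inr ⟨powSub P hcomm (p ^ a'), hUA, hi, hEP.trans hNU, ?_, c₀, hc₀P, hdiv, ?_⟩
    · by_contra hbadU
      obtain ⟨hCX, huniq⟩ := hbad _ hUA hi hbadU
      exact hNP (hNU.trans (normalizer_le_of_uniq hG hyp.hM hM1 hCX huniq))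
    · rw [hkdef]; exact hc₀U
  · have hUeq : powSub P hcomm (p ^ a') = A :=
      Subgroup.eq_of_le_of_card_ge hUA (by rw [hi, hT2.hA2])
    rcases hg G hG M E hyp p A hT2 hS hσ with hl | ⟨X, hXA, hXc, hEX, hXg⟩
    · exact Or.inl hl
    · have hX1 : X ≠ ⊥ := by
        intro h
        rw [h, Subgroup.card_bot] at hXc
        exact hpp.one_lt.ne hXc
      obtain ⟨y, hyX, hy1⟩ : ∃ y ∈ X, y ≠ 1 := by
        by_contra hcon
        push Not at hcon
        exact hX1 ((Subgroup.eq_bot_iff_forall X).mpr hcon)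
      have hyU : y ∈ powSub P hcomm (p ^ a') := by rw [hUeq]; exact hXA hyX
      obtain ⟨c, hcP, hcy⟩ := hyU
      have hcn : orderOf c = orderOf c₀ := by
        obtain ⟨j, hj⟩ := hord c hcP
        have h2 := hdiv c hcP
        rw [hj, ha] at h2 ⊢
        have h3 : j ≤ a' + 1 := (Nat.pow_dvd_pow_iff_le_right hpp.one_lt).mp h2
        by_contra hne
        have h4 : j ≤ a' := by
          rcases Nat.lt_or_ge a' j with h5 | h5
          · exfalso; apply hne; congr 1; omega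
          · exact h5
        apply hy1
        rw [← hcy]
        apply orderOf_dvd_iff_pow_eq_one.mp
        rw [hj]
        exact pow_dvd_pow p h4
      refine Or.inr ⟨X, hXA, hXc, hEX, hXg, c, hcP, fun x hx => by rw [hcn]; exact hdiv x hx, ?_⟩
      rw [hcn, hkdef, hcy]
      exact hyX

end Cfsg.Agent.Lib.Helper58.FT12
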