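import Mathlib
import Cfsg.Prelude.Def_SylowChains

/-!
# Control of Sylow intersections: basic API (helper58)

Element-level API for `Cfsg.subgroupConjRight`, an index characterization of
`Cfsg.sylowMembers`, and a reformulation of `Cfsg.ControlsSylowIntersections` and
`Cfsg.IsSylowChainConnected` through `Relation.ReflTransGen`.
-/

namespace Cfsg.Agent.Lib.Helper58

variable {G : Type*} [Group G]

theorem mem_subgroupConjRight {g y : G} {X : Subgroup G} :
    y ∈ subgroupConjRight g X ↔ g * y * g⁻¹ ∈ X := by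
  unfold subgroupConjRight
  rw [Subgroup.mem_map_equiv]
  simp

theorem subgroupConjRight_one (X : Subgroup G) : subgroupConjRight 1 X = X := by
  ext y; simp [mem_subgroupConjRight]

theorem subgroupConjRight_mul (g h : G) (X : Subgroup G) :
    subgroupConjRight (g * h) X = subgroupConjRight h (subgroupConjRight g X) := by
  ext y
  simp only [mem_subgroupConjRight]
  have : g * h * y * (g * h)⁻¹ = g * (h * y * h⁻¹) * g⁻¹ := by group
  rw [this]

theorem subgroupConjRight_mono {g : G} {X Y : Subgroup G} (h : X ≤ Y) :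
    subgroupConjRight g X ≤ subgroupConjRight g Y := Subgroup.map_mono h

theorem subgroupConjRight_inf (g : G) (X Y : Subgroup G) :
    subgroupConjRight g (X ⊓ Y) = subgroupConjRight g X ⊓ subgroupConjRight g Y := by
  ext y; simp [mem_subgroupConjRight]

theorem subgroupConjRight_eq_self_of_mem {g : G} {X : Subgroup G} (hg : g ∈ X) :
    subgroupConjRight g X = X := by
  ext y
  rw [mem_subgroupConjRight]
  constructor
  · intro h
    have : y = g⁻¹ * (g * y * g⁻¹) * g := by group
    rw [this]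
    exact X.mul_mem (X.mul_mem (X.inv_mem hg) h) hg
  · intro h
    exact X.mul_mem (X.mul_mem hg h) (X.inv_mem hg)

theorem subgroupConjRight_inv_cancel (g : G) (X : Subgroup G) :
    subgroupConjRight g⁻¹ (subgroupConjRight g X) = X := by
  rw [← subgroupConjRight_mul, mul_inv_cancel, subgroupConjRight_one]

theorem subgroupConjRight_cancel_inv (g : G) (X : Subgroup G) :
    subgroupConjRight g (subgroupConjRight g⁻¹ X) = X := by
  rw [← subgroupConjRight_mul, inv_mul_cancel, subgroupConjRight_one]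

theorem relIndex_subgroupConjRight (g : G) (A B : Subgroup G) :
    (subgroupConjRight g A).relIndex (subgroupConjRight g B) = A.relIndex B :=
  Subgroup.relIndex_map_map_of_injective A B (MulEquiv.injective _)

theorem isPGroup_subgroupConjRight {p : ℕ} (g : G) {A : Subgroup G} (hA : IsPGroup p ↥A) :
    IsPGroup p ↥(subgroupConjRight g A) := hA.map _

theorem conj_mem_subgroupConjRight {g x : G} {X : Subgroup G} (hx : x ∈ X) :
    g⁻¹ * x * g ∈ subgroupConjRight g X := by
  rw [mem_subgroupConjRight]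
  have : g * (g⁻¹ * x * g) * g⁻¹ = x := by group
  rw [this]; exact hx

/-- `X ∈ 𝓕(S)` iff `X ∈ 𝓕` and the index of `S ∩ X` in `X` is prime to `p`
(for a `p`-subgroup `S`). -/
theorem mem_sylowMembers_iff [Finite G] {p : ℕ} [Fact p.Prime] {𝓕 : Set (Subgroup G)}
    {S X : Subgroup G} (hS : IsPGroup p ↥S) :
    X ∈ sylowMembers p 𝓕 S ↔ X ∈ 𝓕 ∧ ¬ p ∣ (S ⊓ X).relIndex X := by
  constructor
  · rintro ⟨hX, P, hP⟩
    refine ⟨hX, ?_⟩
    have h1 : (S ⊓ X).subgroupOf X = (P : Subgroup ↥X) := by
      rw [← hP]; exact Subgroup.comap_map_eq_self_of_injective X.subtype_injective _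
    unfold Subgroup.relIndex
    rw [h1]
    exact P.not_dvd_index
  · rintro ⟨hX, hnd⟩
    have hp : IsPGroup p ↥((S ⊓ X).subgroupOf X) := (hS.to_le inf_le_left).comap_subtype
    have hnd' : ¬ p ∣ ((S ⊓ X).subgroupOf X).index := hnd
    refine ⟨hX, hp.toSylow hnd', ?_⟩
    rw [IsPGroup.toSylow_coe]
    exact Subgroup.map_subgroupOf_eq_of_le inf_le_right

theorem subgroupConjRight_mem_sylowMembers [Finite G] {p : ℕ} [Fact p.Prime]
    {𝓕 : Set (Subgroup G)} (h𝓕 : IsNormalSet 𝓕) {S X : Subgroup G} (hS : IsPGroup p ↥S) (g : G)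
    (hX : X ∈ sylowMembers p 𝓕 S) :
    subgroupConjRight g X ∈ sylowMembers p 𝓕 (subgroupConjRight g S) := by
  rw [mem_sylowMembers_iff (isPGroup_subgroupConjRight g hS)]
  rw [mem_sylowMembers_iff hS] at hX
  refine ⟨h𝓕 X hX.1 g, ?_⟩
  rw [← subgroupConjRight_inf, relIndex_subgroupConjRight]
  exact hX.2

/-- A chain indexed by `Fin (n+1)` whose consecutive members are related gives
`Relation.ReflTransGen`. -/
theorem reflTransGen_of_fin_chain {α : Type*} {r : α → α → Prop} {n : ℕ} (c : Fin (n + 1) → α)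
    (h : ∀ i : Fin n, r (c i.castSucc) (c i.succ)) :
    ∀ i : Fin (n + 1), Relation.ReflTransGen r (c 0) (c i) := by
  intro i
  induction i using Fin.induction with
  | zero => exact Relation.ReflTransGen.refl
  | succ i ih => exact Relation.ReflTransGen.tail ih (h i)

/-- Conversely, `Relation.ReflTransGen` gives a chain indexed by `Fin (n+1)`. -/
theorem exists_fin_chain_of_reflTransGen {α : Type*} {r : α → α → Prop} {a b : α}
    (h : Relation.ReflTransGen r a b) :
    ∃ (n : ℕ) (c : Fin (n + 1) → α), c 0 = a ∧ c (Fin.last n) = b ∧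
      ∀ i : Fin n, r (c i.castSucc) (c i.succ) := by
  induction h with
  | refl => exact ⟨0, fun _ => a, rfl, rfl, fun i => i.elim0⟩
  | @tail b b' _ hbb' ih =>
    obtain ⟨n, c, h0, hl, hc⟩ := ih
    refine ⟨n + 1, Fin.snoc c b', ?_, ?_, ?_⟩
    · have : (0 : Fin (n + 2)) = (0 : Fin (n + 1)).castSucc := rfl
      rw [this, Fin.snoc_castSucc]; exact h0
    · exact Fin.snoc_last _ _
    · intro i
      refine Fin.lastCases ?_ (fun j => ?_) i
      · rw [Fin.succ_last, Fin.snoc_last, Fin.snoc_castSucc, hl]; exact hbb'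
      · have : (j.castSucc).succ = (j.succ).castSucc := rfl
        rw [this, Fin.snoc_castSucc, Fin.snoc_castSucc]; exact hc j

/-- One link of a chain in the definition of `ControlsSylowIntersections`. -/
def SLink (p : ℕ) (𝓕 : Set (Subgroup G)) (D : Subgroup G) (A B : Sylow p G) : Prop :=
  ∃ (X : Subgroup G) (x : G), X ∈ sylowMembers p 𝓕 (A : Subgroup G) ∧
    X ∈ sylowMembers p 𝓕 (B : Subgroup G) ∧ x ∈ X ∧
    subgroupConjRight x (B : Subgroup G) = (A : Subgroup G) ∧ D ≤ (B : Subgroup G) ⊓ X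

theorem controls_iff {p : ℕ} {𝓕 : Set (Subgroup G)} :
    ControlsSylowIntersections p 𝓕 ↔ ∀ S T : Sylow p G, S ≠ T →
      (S : Subgroup G) ⊓ (T : Subgroup G) ≠ ⊥ →
      Relation.ReflTransGen (SLink p 𝓕 ((S : Subgroup G) ⊓ (T : Subgroup G))) S T := by
  constructor
  · intro h S T hST hne
    obtain ⟨n, c, X, x, h0, hl, hc⟩ := h S T hST hne
    have := reflTransGen_of_fin_chain (r := SLink p 𝓕 ((S : Subgroup G) ⊓ (T : Subgroup G))) c
      (fun i => ⟨X i, x i, hc i⟩) (Fin.last n)
    rwa [h0, hl] at this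
  · intro h S T hST hne
    obtain ⟨n, c, h0, hl, hc⟩ := exists_fin_chain_of_reflTransGen (h S T hST hne)
    choose X x hX using hc
    exact ⟨n, c, X, x, h0, hl, hX⟩

theorem chainConnected_reflTransGen {p : ℕ} (h : IsSylowChainConnected p G) (S T : Sylow p G) :
    Relation.ReflTransGen
      (fun A B : Sylow p G => A ≠ B ∧ (A : Subgroup G) ⊓ (B : Subgroup G) ≠ ⊥) S T := by
  obtain ⟨n, c, h0, hl, -, hc⟩ := h S T
  have := reflTransGen_of_fin_chain
    (r := fun A B : Sylow p G => A ≠ B ∧ (A : Subgroup G) ⊓ (B : Subgroup G) ≠ ⊥) c hc (Fin.last n)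
  rwa [h0, hl] at this

open scoped Pointwise in
theorem mem_smul_sylow_iff {p : ℕ} {g y : G} {S : Sylow p G} :
    y ∈ ((g • S : Sylow p G) : Subgroup G) ↔ g⁻¹ * y * g ∈ (S : Subgroup G) := by
  rw [Sylow.coe_subgroup_smul, Subgroup.mem_pointwise_smul_iff_inv_smul_mem]
  simp [MulAut.smul_def]

theorem coe_smul_sylow_eq_subgroupConjRight {p : ℕ} (g : G) (S : Sylow p G) :
    ((g • S : Sylow p G) : Subgroup G) = subgroupConjRight g⁻¹ (S : Subgroup G) := by
  ext y
  rw [mem_smul_sylow_iff, mem_subgroupConjRight, inv_inv]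

theorem conj_mem_smul_sylow {p : ℕ} {g y : G} {S : Sylow p G} (hy : y ∈ (S : Subgroup G)) :
    g * y * g⁻¹ ∈ ((g • S : Sylow p G) : Subgroup G) := by
  rw [mem_smul_sylow_iff]
  have : g⁻¹ * (g * y * g⁻¹) * g = y := by group
  rw [this]; exact hy

/-- Induction along `Relation.ReflTransGen` for a predicate preserved by the relation. -/
theorem reflTransGen_induction {α : Type*} {r : α → α → Prop} {P : α → Prop}
    (hr : ∀ a b, P a → r a b → P b) {a b : α} (h : Relation.ReflTransGen r a b) (ha : P a) :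
    P b := by
  induction h with
  | refl => exact ha
  | tail _ hbc ih => exact hr _ _ ih hbc

end Cfsg.Agent.Lib.Helper58
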