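import Mathlib
import Cfsg.Prelude.Def_SylowChains
import Cfsg.Agent.Lib.Helper58.SylowControl

/-!
# Regularity of a subgroup for a normalizer functor: explicit form (helper58)

`functorRegular_iff` unfolds `Cfsg.IsFunctorRegular p f M` into chains of explicit links
(`MLink`) between Sylow subgroups of `↥M`; `FLink` is the version between Sylow subgroups of
the ambient group, usable when `M` contains a Sylow subgroup of `G`.
-/

namespace Cfsg.Agent.Lib.Helper58

variable {G : Type*} [Group G]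

/-- `Relation.ReflTransGen.lift` with the composition unfolded. -/
theorem reflTransGen_lift {α β : Type*} {r : α → α → Prop} {q : β → β → Prop} (f : α → β)
    (h : ∀ a b, r a b → q (f a) (f b)) {a b : α} (hab : Relation.ReflTransGen r a b) :
    Relation.ReflTransGen q (f a) (f b) :=
  Relation.ReflTransGen.lift f h a b hab

/-- `Relation.ReflTransGen.mono` in applied form. -/
theorem reflTransGen_mono {α : Type*} {r q : α → α → Prop}
    (h : ∀ a b, r a b → q a b) {a b : α} (hab : Relation.ReflTransGen r a b) :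
    Relation.ReflTransGen q a b :=
  Relation.ReflTransGen.mono h a b hab

/-- If `X` contains a Sylow `p`-subgroup and `A ∩ X` has index prime to `p` in `X` for the
Sylow `p`-subgroup `A`, then `A ≤ X`. -/
theorem sylow_le_of_not_dvd_relIndex {Γ : Type*} [Group Γ] [Finite Γ] {p : ℕ} [Fact p.Prime]
    {A P : Sylow p Γ} {X : Subgroup Γ} (hPX : (P : Subgroup Γ) ≤ X)
    (hX : ¬ p ∣ ((A : Subgroup Γ) ⊓ X).relIndex X) : (A : Subgroup Γ) ≤ X := by
  have hp : IsPGroup p ↥(((A : Subgroup Γ) ⊓ X).subgroupOf X) :=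
    (A.2.to_le inf_le_left).comap_subtype
  have hX' : ¬ p ∣ (((A : Subgroup Γ) ⊓ X).subgroupOf X).index := hX
  have h1 : Nat.card ↥(((A : Subgroup Γ) ⊓ X).subgroupOf X) =
      Nat.card ↥((P : Subgroup Γ).subgroupOf X) :=
    ((hp.toSylow hX').card_eq_multiplicity).trans ((P.subtype hPX).card_eq_multiplicity).symm
  rw [Nat.card_congr (Subgroup.subgroupOfEquivOfLe
      (inf_le_right : (A : Subgroup Γ) ⊓ X ≤ X)).toEquiv,
    Nat.card_congr (Subgroup.subgroupOfEquivOfLe hPX).toEquiv] at h1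
  have h2 : Nat.card ↥(P : Subgroup Γ) = Nat.card ↥(A : Subgroup Γ) :=
    (P.card_eq_multiplicity).trans (A.card_eq_multiplicity).symm
  have h3 : (A : Subgroup Γ) ⊓ X = A :=
    Subgroup.eq_of_le_of_card_ge inf_le_left (by rw [h1, h2])
  exact inf_eq_left.mp h3

theorem subgroupConjRight_ne_bot {g : G} {D : Subgroup G} (h : D ≠ ⊥) :
    subgroupConjRight g D ≠ ⊥ := by
  intro h'
  exact h ((Subgroup.map_eq_bot_iff_of_injective D (MulEquiv.injective _)).mp h')

theorem normalizer_subgroupConjRight (g : G) (F : Subgroup G) :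
    Subgroup.normalizer ((subgroupConjRight g F : Subgroup G) : Set G) =
      subgroupConjRight g (Subgroup.normalizer (F : Set G)) :=
  (Subgroup.map_equiv_normalizer_eq F (MulAut.conj g⁻¹)).symm

theorem coe_inv_smul_sylow {p : ℕ} (g : G) (S : Sylow p G) :
    ((g⁻¹ • S : Sylow p G) : Subgroup G) = subgroupConjRight g (S : Subgroup G) := by
  rw [coe_smul_sylow_eq_subgroupConjRight, inv_inv]

theorem subgroupConjRight_map_subtype {M : Subgroup G} (x : ↥M) (B : Subgroup ↥M) :
    subgroupConjRight (x : G) (B.map M.subtype) = (subgroupConjRight x B).map M.subtype := by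
  ext y
  simp only [mem_subgroupConjRight, Subgroup.mem_map, Subgroup.coe_subtype]
  constructor
  · rintro ⟨b, hb, hby⟩
    refine ⟨x⁻¹ * b * x, ?_, ?_⟩
    · have : x * (x⁻¹ * b * x) * x⁻¹ = b := by group
      rw [this]; exact hb
    · push_cast
      rw [hby]; group
  · rintro ⟨a, ha, rfl⟩
    exact ⟨x * a * x⁻¹, ha, by push_cast; rfl⟩

/-- One link of a chain for the regularity of `M`, in explicit form. -/
def MLink (p : ℕ) (f : Subgroup G → Set (Subgroup G)) (M : Subgroup G) (D : Subgroup ↥M)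
    (A B : Sylow p ↥M) : Prop :=
  ∃ (P : Sylow p ↥M) (F : Subgroup G) (x : ↥M), F ∈ f ((P : Subgroup ↥M).map M.subtype) ∧
    (x : G) ∈ Subgroup.normalizer (F : Set G) ∧
    (A : Subgroup ↥M).map M.subtype ≤ Subgroup.normalizer (F : Set G) ∧
    (B : Subgroup ↥M).map M.subtype ≤ Subgroup.normalizer (F : Set G) ∧
    subgroupConjRight x (B : Subgroup ↥M) = (A : Subgroup ↥M) ∧ D ≤ (B : Subgroup ↥M)

theorem mlink_mono {p : ℕ} {f : Subgroup G → Set (Subgroup G)} {M : Subgroup G}
    {D D' : Subgroup ↥M} {A B : Sylow p ↥M} (hD : D' ≤ D) (h : MLink p f M D A B) :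
    MLink p f M D' A B := by
  obtain ⟨P, F, x, h1, h2, h3, h4, h5, h6⟩ := h
  exact ⟨P, F, x, h1, h2, h3, h4, h5, hD.trans h6⟩

theorem slink_to_mlink [Finite G] {p : ℕ} [Fact p.Prime] {f : Subgroup G → Set (Subgroup G)}
    (hf : IsNormalizerFunctor p f) {M : Subgroup G} {D : Subgroup ↥M} {A B : Sylow p ↥M}
    (h : SLink p ((fun X : Subgroup G => X.subgroupOf M) '' functorFamily p f M) D A B) :
    MLink p f M D A B := by
  obtain ⟨X', x, hXA, hXB, hxX, hBA, hD⟩ := h
  rw [mem_sylowMembers_iff A.2] at hXA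
  rw [mem_sylowMembers_iff B.2] at hXB
  obtain ⟨⟨X, ⟨P, F, hF, rfl⟩, rfl⟩, hA2⟩ := hXA
  have hPF := (hf ((P : Subgroup ↥M).map M.subtype) (P.2.map _)).1 F hF
  have hPX : (P : Subgroup ↥M) ≤ (M ⊓ Subgroup.normalizer (F : Set G)).subgroupOf M := by
    intro y hy
    rw [Subgroup.mem_subgroupOf]
    refine ⟨y.2, hPF.2 (Subgroup.le_normalizer ?_)⟩
    exact Subgroup.mem_map.mpr ⟨y, hy, rfl⟩
  have hAX := sylow_le_of_not_dvd_relIndex hPX hA2
  have hBX := sylow_le_of_not_dvd_relIndex hPX hXB.2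
  refine ⟨P, F, x, hF, ?_, ?_, ?_, hBA, hD.trans inf_le_left⟩
  · exact (Subgroup.mem_subgroupOf.mp hxX).2
  · rintro _ ⟨y, hy, rfl⟩
    exact (Subgroup.mem_subgroupOf.mp (hAX hy)).2
  · rintro _ ⟨y, hy, rfl⟩
    exact (Subgroup.mem_subgroupOf.mp (hBX hy)).2

theorem mlink_to_slink [Finite G] {p : ℕ} [Fact p.Prime] {f : Subgroup G → Set (Subgroup G)}
    {M : Subgroup G} {D : Subgroup ↥M} {A B : Sylow p ↥M} (h : MLink p f M D A B) :
    SLink p ((fun X : Subgroup G => X.subgroupOf M) '' functorFamily p f M) D A B := by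
  obtain ⟨P, F, x, hF, hx, hA, hB, hBA, hD⟩ := h
  have hmem : (M ⊓ Subgroup.normalizer (F : Set G)).subgroupOf M ∈
      (fun X : Subgroup G => X.subgroupOf M) '' functorFamily p f M :=
    ⟨M ⊓ Subgroup.normalizer (F : Set G), ⟨P, F, hF, rfl⟩, rfl⟩
  have key : ∀ C : Sylow p ↥M,
      (C : Subgroup ↥M).map M.subtype ≤ Subgroup.normalizer (F : Set G) →
      (C : Subgroup ↥M) ≤ (M ⊓ Subgroup.normalizer (F : Set G)).subgroupOf M := by
    intro C hC y hy
    rw [Subgroup.mem_subgroupOf]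
    exact ⟨y.2, hC (Subgroup.mem_map.mpr ⟨y, hy, rfl⟩)⟩
  have key2 : ∀ C : Sylow p ↥M,
      (C : Subgroup ↥M).map M.subtype ≤ Subgroup.normalizer (F : Set G) →
      (M ⊓ Subgroup.normalizer (F : Set G)).subgroupOf M ∈ sylowMembers p
        ((fun X : Subgroup G => X.subgroupOf M) '' functorFamily p f M) (C : Subgroup ↥M) := by
    intro C hC
    rw [mem_sylowMembers_iff C.2]
    refine ⟨hmem, ?_⟩
    rw [inf_eq_left.mpr (key C hC)]
    intro hdvd
    exact C.not_dvd_index (hdvd.trans (Subgroup.relIndex_dvd_index_of_le (key C hC)))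
  refine ⟨_, x, key2 A hA, key2 B hB, ?_, hBA, le_inf hD (hD.trans (key B hB))⟩
  rw [Subgroup.mem_subgroupOf]
  exact ⟨x.2, hx⟩

/-- Explicit form of regularity. -/
theorem functorRegular_iff [Finite G] {p : ℕ} [Fact p.Prime] {f : Subgroup G → Set (Subgroup G)}
    (hf : IsNormalizerFunctor p f) (M : Subgroup G) :
    IsFunctorRegular p f M ↔ ∀ A B : Sylow p ↥M, A ≠ B →
      (A : Subgroup ↥M) ⊓ (B : Subgroup ↥M) ≠ ⊥ →
      Relation.ReflTransGen (MLink p f M ((A : Subgroup ↥M) ⊓ (B : Subgroup ↥M))) A B := by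
  unfold IsFunctorRegular
  rw [controls_iff]
  constructor
  · intro h A B hAB hne
    exact Relation.ReflTransGen.mono (fun a b hab => slink_to_mlink hf hab) _ _ (h A B hAB hne)
  · intro h A B hAB hne
    exact Relation.ReflTransGen.mono (fun a b hab => mlink_to_slink hab) _ _ (h A B hAB hne)

theorem functorRegular_of_mlink [Finite G] {p : ℕ} [Fact p.Prime]
    {f : Subgroup G → Set (Subgroup G)} (M : Subgroup G)
    (h : ∀ A B : Sylow p ↥M, A ≠ B → (A : Subgroup ↥M) ⊓ (B : Subgroup ↥M) ≠ ⊥ →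
      Relation.ReflTransGen (MLink p f M ((A : Subgroup ↥M) ⊓ (B : Subgroup ↥M))) A B) :
    IsFunctorRegular p f M := by
  unfold IsFunctorRegular
  rw [controls_iff]
  intro A B hAB hne
  exact Relation.ReflTransGen.mono (fun a b hab => mlink_to_slink hab) _ _ (h A B hAB hne)

/-- A Sylow subgroup of `M` as a Sylow subgroup of `G`, when the index of `M` is prime to `p`. -/
def sylowUp [Finite G] {p : ℕ} [Fact p.Prime] {M : Subgroup G} (hM : ¬ p ∣ M.index)
    (Q : Sylow p ↥M) : Sylow p G :=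
  (Q.2.map M.subtype).toSylow (by
    rw [Subgroup.index_map_subtype]
    intro h
    rcases (Nat.Prime.dvd_mul Fact.out).mp h with h | h
    · exact Q.not_dvd_index h
    · exact hM h)

theorem coe_sylowUp [Finite G] {p : ℕ} [Fact p.Prime] {M : Subgroup G} (hM : ¬ p ∣ M.index)
    (Q : Sylow p ↥M) : (sylowUp hM Q : Subgroup G) = (Q : Subgroup ↥M).map M.subtype := rfl

theorem sylowUp_subtype [Finite G] {p : ℕ} [Fact p.Prime] {M : Subgroup G} (hM : ¬ p ∣ M.index)
    (A : Sylow p G) (hA : (A : Subgroup G) ≤ M) : sylowUp hM (A.subtype hA) = A := by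
  apply Sylow.ext
  rw [coe_sylowUp, Sylow.coe_subtype]
  exact Subgroup.map_subgroupOf_eq_of_le hA

theorem subtype_sylowUp [Finite G] {p : ℕ} [Fact p.Prime] {M : Subgroup G} (hM : ¬ p ∣ M.index)
    (Q : Sylow p ↥M) (h : (sylowUp hM Q : Subgroup G) ≤ M) : (sylowUp hM Q).subtype h = Q := by
  apply Sylow.ext
  rw [Sylow.coe_subtype, coe_sylowUp]
  exact Subgroup.comap_map_eq_self_of_injective M.subtype_injective _

/-- One link between Sylow subgroups of `G` contained in `M`, through the normalizer of a member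
of `f P` for a Sylow subgroup `P` of `G` contained in `M`. -/
def FLink (p : ℕ) (f : Subgroup G → Set (Subgroup G)) (M D : Subgroup G) (A B : Sylow p G) :
    Prop :=
  (A : Subgroup G) ≤ M ∧ (B : Subgroup G) ≤ M ∧
  ∃ (P : Sylow p G) (F : Subgroup G) (x : G), (P : Subgroup G) ≤ M ∧ F ∈ f (P : Subgroup G) ∧
    x ∈ M ∧ x ∈ Subgroup.normalizer (F : Set G) ∧
    (A : Subgroup G) ≤ Subgroup.normalizer (F : Set G) ∧
    (B : Subgroup G) ≤ Subgroup.normalizer (F : Set G) ∧
    subgroupConjRight x (B : Subgroup G) = (A : Subgroup G) ∧ D ≤ (B : Subgroup G)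

theorem flink_mono {p : ℕ} {f : Subgroup G → Set (Subgroup G)} {M M' D D' : Subgroup G}
    {A B : Sylow p G} (hM : M ≤ M') (hD : D' ≤ D) (h : FLink p f M D A B) :
    FLink p f M' D' A B := by
  obtain ⟨hA, hB, P, F, x, h1, h2, h3, h4, h5, h6, h7, h8⟩ := h
  exact ⟨hA.trans hM, hB.trans hM, P, F, x, h1.trans hM, h2, hM h3, h4, h5, h6, h7, hD.trans h8⟩

theorem mlink_to_flink [Finite G] {p : ℕ} [Fact p.Prime] {f : Subgroup G → Set (Subgroup G)}
    {M : Subgroup G} (hM : ¬ p ∣ M.index) {D : Subgroup ↥M} {A B : Sylow p ↥M}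
    (h : MLink p f M D A B) :
    FLink p f M (D.map M.subtype) (sylowUp hM A) (sylowUp hM B) := by
  obtain ⟨P, F, x, hF, hx, hA, hB, hBA, hD⟩ := h
  refine ⟨Subgroup.map_subtype_le _, Subgroup.map_subtype_le _, sylowUp hM P, F, x,
    Subgroup.map_subtype_le _, hF, x.2, hx, hA, hB, ?_, Subgroup.map_mono hD⟩
  rw [coe_sylowUp, coe_sylowUp, subgroupConjRight_map_subtype, hBA]

theorem flink_top_to_mlink [Finite G] {p : ℕ} [Fact p.Prime] {f : Subgroup G → Set (Subgroup G)}
    {D : Subgroup G} {A B : Sylow p G} (h : FLink p f ⊤ D A B) :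
    MLink p f ⊤ (D.subgroupOf ⊤) (A.subtype le_top) (B.subtype le_top) := by
  obtain ⟨-, -, P, F, x, -, hF, -, hx, hA, hB, hBA, hD⟩ := h
  refine ⟨P.subtype le_top, F, ⟨x, trivial⟩, ?_, hx, ?_, ?_, ?_, ?_⟩
  · rw [Sylow.coe_subtype, Subgroup.map_subgroupOf_eq_of_le le_top]; exact hF
  · rw [Sylow.coe_subtype, Subgroup.map_subgroupOf_eq_of_le le_top]; exact hA
  · rw [Sylow.coe_subtype, Subgroup.map_subgroupOf_eq_of_le le_top]; exact hB
  · ext y
    rw [mem_subgroupConjRight, Sylow.coe_subtype, Sylow.coe_subtype, Subgroup.mem_subgroupOf,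
      Subgroup.mem_subgroupOf, ← hBA, mem_subgroupConjRight]
    rfl
  · intro y hy
    rw [Sylow.coe_subtype, Subgroup.mem_subgroupOf]
    exact hD (Subgroup.mem_subgroupOf.mp hy)

/-- Regularity of `M` gives chains of `FLink`s between Sylow subgroups of `G` inside `M`
(when the index of `M` is prime to `p`). -/
theorem regular_flink [Finite G] {p : ℕ} [Fact p.Prime] {f : Subgroup G → Set (Subgroup G)}
    (hf : IsNormalizerFunctor p f) {M : Subgroup G} (hM : ¬ p ∣ M.index)
    (hreg : IsFunctorRegular p f M) (A B : Sylow p G) (hA : (A : Subgroup G) ≤ M)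
    (hB : (B : Subgroup G) ≤ M) (hAB : A ≠ B) (hne : (A : Subgroup G) ⊓ (B : Subgroup G) ≠ ⊥) :
    Relation.ReflTransGen (FLink p f M ((A : Subgroup G) ⊓ (B : Subgroup G))) A B := by
  have hAB' : A.subtype hA ≠ B.subtype hB := fun h => hAB (Sylow.subtype_injective h)
  have hle : ((A : Subgroup G) ⊓ (B : Subgroup G)) ≤
      (((A.subtype hA : Sylow p ↥M) : Subgroup ↥M) ⊓
        ((B.subtype hB : Sylow p ↥M) : Subgroup ↥M)).map M.subtype := by
    intro y hy
    have hyA := (Subgroup.mem_inf.mp hy).1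
    have hyB := (Subgroup.mem_inf.mp hy).2
    refine Subgroup.mem_map.mpr ⟨⟨y, hA hyA⟩, Subgroup.mem_inf.mpr ⟨?_, ?_⟩, rfl⟩
    · show (⟨y, hA hyA⟩ : ↥M) ∈ (A : Subgroup G).subgroupOf M
      exact Subgroup.mem_subgroupOf.mpr hyA
    · show (⟨y, hA hyA⟩ : ↥M) ∈ (B : Subgroup G).subgroupOf M
      exact Subgroup.mem_subgroupOf.mpr hyB
  have hne' : ((A.subtype hA : Sylow p ↥M) : Subgroup ↥M) ⊓
      ((B.subtype hB : Sylow p ↥M) : Subgroup ↥M) ≠ ⊥ := by
    intro h
    rw [h, Subgroup.map_bot] at hle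
    exact hne (le_bot_iff.mp hle)
  have h1 := (functorRegular_iff hf M).mp hreg (A.subtype hA) (B.subtype hB) hAB' hne'
  have h2 := reflTransGen_lift (sylowUp hM)
    (fun a b hab => mlink_to_flink hM hab) h1
  rw [sylowUp_subtype, sylowUp_subtype] at h2
  exact Relation.ReflTransGen.mono (fun a b hab => flink_mono le_rfl hle hab) _ _ h2

/-- Chains of `FLink`s in `G` give the regularity of `⊤`. -/
theorem top_regular_of_flink [Finite G] {p : ℕ} [Fact p.Prime]
    {f : Subgroup G → Set (Subgroup G)}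
    (h : ∀ A B : Sylow p G, A ≠ B → (A : Subgroup G) ⊓ (B : Subgroup G) ≠ ⊥ →
      Relation.ReflTransGen (FLink p f ⊤ ((A : Subgroup G) ⊓ (B : Subgroup G))) A B) :
    IsFunctorRegular p f ⊤ := by
  apply functorRegular_of_mlink
  intro A' B' hAB hne
  have hM : ¬ p ∣ (⊤ : Subgroup G).index := by
    rw [Subgroup.index_top]
    exact (Fact.out : p.Prime).one_lt.ne' ∘ Nat.dvd_one.mp
  have hAB' : sylowUp hM A' ≠ sylowUp hM B' := by
    intro h'
    apply hAB
    have := congrArg (fun Q : Sylow p G => Q.subtype le_top) h'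
    simpa [subtype_sylowUp] using this
  have hne' : (sylowUp hM A' : Subgroup G) ⊓ (sylowUp hM B' : Subgroup G) ≠ ⊥ := by
    intro h'
    apply hne
    rw [eq_bot_iff]
    intro y hy
    have : (y : G) ∈ (sylowUp hM A' : Subgroup G) ⊓ (sylowUp hM B' : Subgroup G) :=
      ⟨Subgroup.mem_map.mpr ⟨y, hy.1, rfl⟩, Subgroup.mem_map.mpr ⟨y, hy.2, rfl⟩⟩
    rw [h', Subgroup.mem_bot] at this
    rw [Subgroup.mem_bot]
    exact Subtype.ext this
  have h1 := h (sylowUp hM A') (sylowUp hM B') hAB' hne'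
  have h2 := reflTransGen_lift (fun Q : Sylow p G => Q.subtype le_top)
    (fun a b hab => flink_top_to_mlink hab) h1
  simp only [subtype_sylowUp] at h2
  refine Relation.ReflTransGen.mono (fun a b hab => mlink_mono ?_ hab) _ _ h2
  intro y hy
  rw [Subgroup.mem_subgroupOf]
  exact ⟨Subgroup.mem_map.mpr ⟨y, hy.1, rfl⟩, Subgroup.mem_map.mpr ⟨y, hy.2, rfl⟩⟩

/-- Conjugation of a link (for `M = ⊤`). -/
theorem flink_conj [Finite G] {p : ℕ} [Fact p.Prime] {f : Subgroup G → Set (Subgroup G)}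
    (hf : IsNormalizerFunctor p f) (g : G) {D : Subgroup G} {A B : Sylow p G}
    (h : FLink p f ⊤ D A B) :
    FLink p f ⊤ (subgroupConjRight g D) (g⁻¹ • A) (g⁻¹ • B) := by
  obtain ⟨-, -, P, F, x, -, hF, -, hx, hA, hB, hBA, hD⟩ := h
  refine ⟨le_top, le_top, g⁻¹ • P, subgroupConjRight g F, g⁻¹ * x * g, le_top, ?_, trivial, ?_,
    ?_, ?_, ?_, ?_⟩
  · rw [coe_inv_smul_sylow]
    have := (hf (P : Subgroup G) P.2).2 g⁻¹
    show subgroupConjRight g F ∈ f ((P : Subgroup G).map (MulAut.conj g⁻¹).toMonoidHom)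
    rw [this]
    exact ⟨F, hF, rfl⟩
  · rw [normalizer_subgroupConjRight]
    exact conj_mem_subgroupConjRight hx
  · rw [normalizer_subgroupConjRight, coe_inv_smul_sylow]
    exact subgroupConjRight_mono hA
  · rw [normalizer_subgroupConjRight, coe_inv_smul_sylow]
    exact subgroupConjRight_mono hB
  · rw [coe_inv_smul_sylow, coe_inv_smul_sylow, ← subgroupConjRight_mul, ← hBA,
      ← subgroupConjRight_mul]
    congr 1
    group
  · rw [coe_inv_smul_sylow]
    exact subgroupConjRight_mono hD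

end Cfsg.Agent.Lib.Helper58
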