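import Cfsg.Agent.Lib.Helper58.CharP
import Cfsg.Prelude.Def_IsolatedElements
import Cfsg.Prelude.Def_Transfer
import Cfsg.Prelude.Def_TwoFusion

set_option autoImplicit false

namespace Cfsg.Agent.Lib.Helper58

open Cfsg
open scoped Pointwise

variable {G : Type*} [Group G]

theorem isPGroup_zpowers {p : ℕ} (y : G) (hy : ∃ k : ℕ, y ^ (p ^ k) = 1) :
    IsPGroup p ↥(Subgroup.zpowers y) := by
  obtain ⟨k, hk⟩ := hy
  rintro ⟨g, hg⟩
  obtain ⟨i, rfl⟩ := Subgroup.mem_zpowers_iff.mp hg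
  refine ⟨k, ?_⟩
  apply Subtype.ext
  show (y ^ i) ^ (p ^ k) = 1
  rw [← zpow_natCast, ← zpow_mul, mul_comm, zpow_mul, zpow_natCast, hk, one_zpow]

theorem pow_eq_one_of_orderOf {p : ℕ} {x : G} (hx : ∃ k : ℕ, orderOf x = p ^ k) :
    ∃ k : ℕ, x ^ (p ^ k) = 1 := by
  obtain ⟨k, hk⟩ := hx
  exact ⟨k, by rw [← hk]; exact pow_orderOf_eq_one x⟩

/-- Every `p`-element is conjugate into a given Sylow `p`-subgroup. -/
theorem exists_conj_mem_sylow [Finite G] {p : ℕ} [Fact p.Prime] (S : Sylow p G) (y : G)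
    (hy : ∃ k : ℕ, y ^ (p ^ k) = 1) : ∃ g : G, g * y * g⁻¹ ∈ (S : Subgroup G) := by
  obtain ⟨Q, hQ⟩ := (isPGroup_zpowers y hy).exists_le_sylow
  obtain ⟨g, hg⟩ := MulAction.exists_smul_eq G Q S
  refine ⟨g, ?_⟩
  have hyQ : y ∈ (Q : Subgroup G) := hQ (Subgroup.mem_zpowers y)
  have h1 : MulAut.conj g • y ∈ MulAut.conj g • (Q : Subgroup G) :=
    Subgroup.smul_mem_pointwise_smul_iff.mpr hyQ
  rw [← Sylow.coe_subgroup_smul, hg] at h1
  simpa [MulAut.smul_def] using h1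

/-- An isolated element of a `p`-subgroup is central in it. -/
theorem isolated_commute_of_mem_pGroup [Finite G] {p : ℕ} [Fact p.Prime] {x : G}
    (hiso : IsIsolated x) (R : Subgroup G) (hR : IsPGroup p ↥R) (hx : x ∈ R) :
    ∀ r ∈ R, Commute x r := by
  have hnil : Group.IsNilpotent ↥R := hR.isNilpotent
  have hnc := Group.normalizerCondition_of_isNilpotent (G := ↥R)
  set C : Subgroup ↥R := Subgroup.centralizer ({(⟨x, hx⟩ : ↥R)} : Set ↥R) with hC
  have hCtop : C = ⊤ := by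
    by_contra hne
    have hlt : C < Subgroup.normalizer (C : Set ↥R) := hnc C (lt_top_iff_ne_top.mpr hne)
    obtain ⟨g, hgN, hgC⟩ := SetLike.exists_of_lt hlt
    apply hgC
    have hxC : (⟨x, hx⟩ : ↥R) ∈ C := by
      rw [hC, Subgroup.mem_centralizer_iff]
      intro h hh
      rw [Set.mem_singleton_iff] at hh
      rw [hh]
    have h1 : g * ⟨x, hx⟩ * g⁻¹ ∈ C := (Subgroup.mem_normalizer_iff.mp hgN _).mp hxC
    rw [hC, Subgroup.mem_centralizer_iff] at h1
    have h2 := h1 ⟨x, hx⟩ rfl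
    have h3 : x * ((g : G) * x * (g : G)⁻¹) = (g : G) * x * (g : G)⁻¹ * x := congrArg Subtype.val h2
    have h4 : (g : G) * x * (g : G)⁻¹ = x := hiso (g : G) h3
    rw [hC, Subgroup.mem_centralizer_iff]
    intro h hh
    rw [Set.mem_singleton_iff] at hh
    rw [hh]
    apply Subtype.ext
    show x * (g : G) = (g : G) * x
    rw [mul_inv_eq_iff_eq_mul] at h4
    exact h4.symm
  intro r hr
  have : (⟨r, hr⟩ : ↥R) ∈ C := by rw [hCtop]; trivial
  rw [hC, Subgroup.mem_centralizer_iff] at this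
  have h2 := this ⟨x, hx⟩ rfl
  exact congrArg Subtype.val h2

theorem mem_centralizer_singleton_iff {x g : G} :
    g ∈ Subgroup.centralizer ({x} : Set G) ↔ g * x * g⁻¹ = x := by
  rw [Subgroup.mem_centralizer_iff]
  constructor
  · intro h
    rw [mul_inv_eq_iff_eq_mul]
    exact (h x rfl).symm
  · intro h y hy
    rw [Set.mem_singleton_iff] at hy
    rw [hy]
    rw [mul_inv_eq_iff_eq_mul] at h
    exact h.symm

/-- The normalizer of a `p`-subgroup containing an isolated element centralizes it. -/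
theorem isolated_normalizer_le [Finite G] {p : ℕ} [Fact p.Prime] {x : G}
    (hiso : IsIsolated x) (R : Subgroup G) (hR : IsPGroup p ↥R) (hx : x ∈ R) :
    Subgroup.normalizer (R : Set G) ≤ Subgroup.centralizer ({x} : Set G) := by
  intro n hn
  rw [mem_centralizer_singleton_iff]
  have h1 : n * x * n⁻¹ ∈ R := (Subgroup.mem_normalizer_iff.mp hn x).mp hx
  exact hiso n (isolated_commute_of_mem_pGroup hiso R hR hx _ h1)

/-- Fusion lemma: if an isolated `p`-element `x` and a conjugate `g x g⁻¹` both lie in `H`,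
then `g` lies in `H · C_G(x)`. -/
theorem isolated_fusion [Finite G] {p : ℕ} [Fact p.Prime] {x : G}
    (hx : ∃ k : ℕ, x ^ (p ^ k) = 1) (hiso : IsIsolated x) (H : Subgroup G) (hxH : x ∈ H)
    (g : G) (hg : g * x * g⁻¹ ∈ H) : ∃ h ∈ H, (h * g) * x * (h * g)⁻¹ = x := by
  have hxp : ∃ k : ℕ, (⟨x, hxH⟩ : ↥H) ^ (p ^ k) = 1 := by
    obtain ⟨k, hk⟩ := hx
    exact ⟨k, Subtype.ext (by simpa using hk)⟩
  obtain ⟨S, hS⟩ := (isPGroup_zpowers (⟨x, hxH⟩ : ↥H) hxp).exists_le_sylow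
  have hyp : ∃ k : ℕ, (⟨g * x * g⁻¹, hg⟩ : ↥H) ^ (p ^ k) = 1 := by
    obtain ⟨k, hk⟩ := hx
    refine ⟨k, Subtype.ext ?_⟩
    show (g * x * g⁻¹) ^ (p ^ k) = 1
    rw [conj_pow, hk]; simp
  obtain ⟨h, hh⟩ := exists_conj_mem_sylow S (⟨g * x * g⁻¹, hg⟩ : ↥H) hyp
  refine ⟨h, h.2, ?_⟩
  have hSp : IsPGroup p ↥((S : Subgroup ↥H).map H.subtype) := S.isPGroup'.map _
  have hxS : x ∈ (S : Subgroup ↥H).map H.subtype :=
    ⟨⟨x, hxH⟩, hS (Subgroup.mem_zpowers _), rfl⟩
  have hyS : (h : G) * g * x * ((h : G) * g)⁻¹ ∈ (S : Subgroup ↥H).map H.subtype := by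
    refine ⟨_, hh, ?_⟩
    simp [mul_assoc]
  exact hiso _ (isolated_commute_of_mem_pGroup hiso _ hSp hxS _ hyS)

/-- Frattini-type factorization for an isolated `p`-element in a normal subgroup. -/
theorem isolated_frattini [Finite G] {p : ℕ} [Fact p.Prime] {x : G}
    (hx : ∃ k : ℕ, x ^ (p ^ k) = 1) (hiso : IsIsolated x) (H N : Subgroup G) (hNH : N ≤ H)
    (hn : H ≤ Subgroup.normalizer (N : Set G)) (hxN : x ∈ N) :
    N ⊔ (H ⊓ Subgroup.centralizer ({x} : Set G)) = H := by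
  apply le_antisymm (sup_le hNH inf_le_left)
  intro h hh
  have h1 : h * x * h⁻¹ ∈ N := (Subgroup.mem_normalizer_iff.mp (hn hh) x).mp hxN
  obtain ⟨n, hnN, hnh⟩ := isolated_fusion hx hiso N hxN h h1
  have h2 : n * h ∈ H ⊓ Subgroup.centralizer ({x} : Set G) :=
    ⟨H.mul_mem (hNH hnN) hh, mem_centralizer_singleton_iff.mpr hnh⟩
  have h3 : h = n⁻¹ * (n * h) := by group
  rw [h3]
  exact Subgroup.mul_mem_sup (N.inv_mem hnN) h2

/-- Conjugates of powers of an isolated `p`-element that land in a Sylow subgroup containing it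
are not moved. -/
theorem isolated_conj_power_eq [Finite G] {p : ℕ} [Fact p.Prime] (P : Sylow p G) {x : G}
    (hxP : x ∈ (P : Subgroup G)) (hiso : IsIsolated x) (y : G) (hy : y ∈ Subgroup.zpowers x)
    (g : G) (hg : g * y * g⁻¹ ∈ (P : Subgroup G)) : g * y * g⁻¹ = y := by
  have hxp : ∃ k : ℕ, x ^ (p ^ k) = 1 := exists_pow_eq_one_of_mem P.isPGroup' hxP
  have hcen := isolated_commute_of_mem_pGroup hiso (P : Subgroup G) P.isPGroup' hxP
  have hxy : Commute x y := by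
    obtain ⟨i, rfl⟩ := Subgroup.mem_zpowers_iff.mp hy
    exact (Commute.refl x).zpow_right i
  -- H = C_G(g y g⁻¹)
  have hxH : x ∈ Subgroup.centralizer ({g * y * g⁻¹} : Set G) := by
    rw [Subgroup.mem_centralizer_iff]
    intro h hh
    rw [Set.mem_singleton_iff] at hh
    rw [hh]
    exact (hcen _ hg).eq.symm
  have hgH : g * x * g⁻¹ ∈ Subgroup.centralizer ({g * y * g⁻¹} : Set G) := by
    rw [Subgroup.mem_centralizer_iff]
    intro h hh
    rw [Set.mem_singleton_iff] at hh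
    rw [hh]
    have := hxy.eq
    calc g * y * g⁻¹ * (g * x * g⁻¹) = g * (y * x) * g⁻¹ := by group
      _ = g * (x * y) * g⁻¹ := by rw [this]
      _ = g * x * g⁻¹ * (g * y * g⁻¹) := by group
  obtain ⟨h, hh, hhg⟩ := isolated_fusion hxp hiso _ hxH g hgH
  -- h centralizes g y g⁻¹ and h g centralizes x, hence y
  have h1 : h * (g * y * g⁻¹) * h⁻¹ = g * y * g⁻¹ := mem_centralizer_singleton_iff.mp hh
  have h2 : (h * g) * y * (h * g)⁻¹ = y := by
    obtain ⟨i, rfl⟩ := Subgroup.mem_zpowers_iff.mp hy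
    rw [← conj_zpow, hhg]
  calc g * y * g⁻¹ = h * (g * y * g⁻¹) * h⁻¹ := h1.symm
    _ = (h * g) * y * (h * g)⁻¹ := by group
    _ = y := h2

end Cfsg.Agent.Lib.Helper58
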