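import Mathlib

/-!
# Sylow conjugation inside a subgroup (helper58)

Small general lemmas on finite groups used by several statements of the `local_analysis`
topics.
-/

namespace Cfsg.Agent.Lib.Helper58

variable {G : Type*} [Group G]

open scoped Pointwise in
/-- Sylow conjugation inside a subgroup `K` containing the Sylow `p`-subgroup `P` of `G`:
a `p`-subgroup `Q` of `K` is conjugate into `P` by an element of `K`. -/
theorem exists_conj_le_sylow_of_le [Finite G] {p : ℕ} [Fact p.Prime] (P : Sylow p G)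
    {K Q : Subgroup G} (hPK : (P : Subgroup G) ≤ K) (hQK : Q ≤ K) (hQ : IsPGroup p ↥Q) :
    ∃ a ∈ K, ∀ y ∈ Q, a * y * a⁻¹ ∈ (P : Subgroup G) := by
  have hQ' : IsPGroup p ↥(Q.subgroupOf K) := hQ.comap_subtype
  obtain ⟨S, hS⟩ := hQ'.exists_le_sylow
  obtain ⟨a, ha⟩ := MulAction.exists_smul_eq ↥K S (P.subtype hPK)
  refine ⟨a, a.2, fun y hy => ?_⟩
  have h1 : (⟨y, hQK hy⟩ : ↥K) ∈ (S : Subgroup ↥K) := hS (Subgroup.mem_subgroupOf.mpr hy)
  have h2 : MulAut.conj a • (⟨y, hQK hy⟩ : ↥K) ∈ MulAut.conj a • (S : Subgroup ↥K) :=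
    Subgroup.smul_mem_pointwise_smul_iff.mpr h1
  rw [← Sylow.coe_subgroup_smul, ha, Sylow.coe_subtype, Subgroup.mem_subgroupOf] at h2
  simpa [MulAut.smul_def] using h2

/-- If `g` conjugates a finite subgroup into itself then `g` normalizes it. -/
theorem mem_normalizer_of_conj_mem [Finite G] {H : Subgroup G} {g : G}
    (h : ∀ y ∈ H, g * y * g⁻¹ ∈ H) : g ∈ Subgroup.normalizer (H : Set G) :=
  Subgroup.mem_normalizer_fintype h

/-- If a Sylow `p`-subgroup `P` and its conjugate by `g` both lie in `K`, then `c * g`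
normalizes `P` for some `c ∈ K`. -/
theorem exists_mul_mem_normalizer_of_le [Finite G] {p : ℕ} [Fact p.Prime] (P : Sylow p G)
    {K : Subgroup G} (g : G) (hPK : (P : Subgroup G) ≤ K)
    (hgPK : ∀ y ∈ (P : Subgroup G), g * y * g⁻¹ ∈ K) :
    ∃ c ∈ K, c * g ∈ Subgroup.normalizer ((P : Subgroup G) : Set G) := by
  have hQ : IsPGroup p ↥((P : Subgroup G).map (MulAut.conj g).toMonoidHom) := P.2.map _
  have hQK : (P : Subgroup G).map (MulAut.conj g).toMonoidHom ≤ K := by
    rintro _ ⟨y, hy, rfl⟩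
    simpa [MulAut.conj_apply] using hgPK y hy
  obtain ⟨a, haK, ha⟩ := exists_conj_le_sylow_of_le P hPK hQK hQ
  refine ⟨a, haK, mem_normalizer_of_conj_mem fun y hy => ?_⟩
  have := ha (g * y * g⁻¹) (Subgroup.mem_map.mpr ⟨y, hy, by simp [MulAut.conj_apply]⟩)
  have h2 : a * g * y * (a * g)⁻¹ = a * (g * y * g⁻¹) * a⁻¹ := by group
  rw [h2]; exact this

/-- An element commuting with `y` normalizes the cyclic subgroup generated by `y`. -/
theorem mem_normalizer_zpowers_of_commute {c y : G} (hc : Commute c y) :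
    c ∈ Subgroup.normalizer ((Subgroup.zpowers y : Subgroup G) : Set G) := by
  apply Subgroup.centralizer_le_normalizer
  rw [Subgroup.mem_centralizer_iff]
  intro h hh
  obtain ⟨i, rfl⟩ := Subgroup.mem_zpowers_iff.mp hh
  exact ((hc.zpow_right i).eq).symm

end Cfsg.Agent.Lib.Helper58
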