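import Mathlib
import Cfsg.Agent.Lib.Helper58.Isolated
import Cfsg.Agent.Lib.Helper58.SylowConj

namespace Cfsg.Agent.Lib.Helper58

variable {G : Type*} [Group G]

open scoped Pointwise in
/-- A `p`-element normalizing a `p'`-subgroup `K` normalizes some Sylow `q`-subgroup of `K`. -/
theorem exists_invariant_sylow [Finite G] {p q : ℕ} [Fact p.Prime] [Fact q.Prime]
    (K : Subgroup G) (x : G) (hxK : x ∈ Subgroup.normalizer (K : Set G))
    (hxp : ∃ k : ℕ, x ^ (p ^ k) = 1) (hK : ¬ p ∣ Nat.card ↥K) :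
    ∃ T : Sylow q ↥K,
      x ∈ Subgroup.normalizer (((T : Subgroup ↥K).map K.subtype : Subgroup G) : Set G) := by
  have hZ : IsPGroup p ↥(Subgroup.zpowers (⟨x, hxK⟩ : ↥(Subgroup.normalizer (K : Set G)))) := by
    apply isPGroup_zpowers
    obtain ⟨k, hk⟩ := hxp
    exact ⟨k, Subtype.ext (by simpa using hk)⟩
  have hcard : ¬ p ∣ Nat.card (Sylow q ↥K) := by
    intro h
    obtain ⟨T₀⟩ : Nonempty (Sylow q ↥K) := inferInstance
    exact hK ((h.trans (T₀.card_dvd_index)).trans (Subgroup.index_dvd_card _))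
  obtain ⟨T, hT⟩ := hZ.nonempty_fixed_point_of_prime_not_dvd_card (Sylow q ↥K) hcard
  refine ⟨T, ?_⟩
  apply mem_normalizer_of_conj_mem
  rintro _ ⟨t, ht, rfl⟩
  have h1 := hT ⟨⟨x, hxK⟩, Subgroup.mem_zpowers _⟩
  have h2 : (⟨x, hxK⟩ : ↥(Subgroup.normalizer (K : Set G))) • t ∈
      (⟨x, hxK⟩ : ↥(Subgroup.normalizer (K : Set G))) • (T : Subgroup ↥K) :=
    Subgroup.smul_mem_pointwise_smul t _ _ ht
  have h3 : (⟨x, hxK⟩ : ↥(Subgroup.normalizer (K : Set G))) • (T : Subgroup ↥K) =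
      (T : Subgroup ↥K) := congrArg (fun S : Sylow q ↥K => (S : Subgroup ↥K)) h1
  rw [h3] at h2
  exact ⟨_, h2, rfl⟩

end Cfsg.Agent.Lib.Helper58
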