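import Cfsg.Agent.Lib.Helper58.Isolated

set_option autoImplicit false

namespace Cfsg.Agent.Lib.Helper58

open Cfsg
open scoped Pointwise

variable {G : Type*} [Group G]

/-- Isolation of a `p`-element passes to quotients. -/
theorem isolated_quotient [Finite G] {p : ℕ} [Fact p.Prime] {x : G}
    (hx : ∃ k : ℕ, x ^ (p ^ k) = 1) (hiso : IsIsolated x) (N : Subgroup G) [N.Normal] :
    IsIsolated (QuotientGroup.mk x : G ⧸ N) := by
  intro gbar hcomm
  obtain ⟨g, rfl⟩ := QuotientGroup.mk_surjective gbar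
  -- K = preimage of the centralizer of the image of x
  set K : Subgroup G := (Subgroup.centralizer ({(QuotientGroup.mk x : G ⧸ N)} : Set (G ⧸ N))).comap
    (QuotientGroup.mk' N) with hK
  have hNK : N ≤ K := by
    intro n hn
    rw [hK, Subgroup.mem_comap]
    have : (QuotientGroup.mk' N) n = 1 := (QuotientGroup.eq_one_iff n).mpr hn
    rw [this]; exact Subgroup.one_mem _
  have hxK : x ∈ K := by
    rw [hK, Subgroup.mem_comap, Subgroup.mem_centralizer_iff]
    intro h hh
    rw [Set.mem_singleton_iff] at hh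
    rw [hh]; rfl
  have hx'K : g * x * g⁻¹ ∈ K := by
    rw [hK, Subgroup.mem_comap, Subgroup.mem_centralizer_iff]
    intro h hh
    rw [Set.mem_singleton_iff] at hh
    rw [hh]
    exact hcomm.eq
  set H : Subgroup G := N ⊔ Subgroup.closure {x, g * x * g⁻¹} with hH
  have hHK : H ≤ K := by
    apply sup_le hNK
    rw [Subgroup.closure_le]
    intro y hy
    rcases hy with rfl | hy
    · exact hxK
    · rw [Set.mem_singleton_iff] at hy; rw [hy]; exact hx'K
  have hxH : x ∈ H := (le_sup_right : _ ≤ H) (Subgroup.subset_closure (by simp))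
  have hx'H : g * x * g⁻¹ ∈ H := (le_sup_right : _ ≤ H) (Subgroup.subset_closure (by simp))
  obtain ⟨h, hh, hhg⟩ := isolated_fusion hx hiso H hxH g hx'H
  have hhK := hHK hh
  rw [hK, Subgroup.mem_comap, Subgroup.mem_centralizer_iff] at hhK
  have hc := hhK _ rfl
  -- hc : mk x * mk h = mk h * mk x
  have e1 : (QuotientGroup.mk (h * g * x * (h * g)⁻¹) : G ⧸ N) = QuotientGroup.mk x := by rw [hhg]
  have e2 : (QuotientGroup.mk (h * g * x * (h * g)⁻¹) : G ⧸ N)
      = (QuotientGroup.mk h : G ⧸ N) * ((QuotientGroup.mk g : G ⧸ N) * QuotientGroup.mk x * (QuotientGroup.mk g : G ⧸ N)⁻¹)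
        * (QuotientGroup.mk h : G ⧸ N)⁻¹ := by
    rw [← QuotientGroup.mk_inv, ← QuotientGroup.mk_inv, ← QuotientGroup.mk_mul, ← QuotientGroup.mk_mul,
      ← QuotientGroup.mk_mul, ← QuotientGroup.mk_mul]
    congr 1
    group
  rw [e2] at e1
  have hc' : (QuotientGroup.mk x : G ⧸ N) * (QuotientGroup.mk h : G ⧸ N)
      = (QuotientGroup.mk h : G ⧸ N) * QuotientGroup.mk x := hc
  calc (QuotientGroup.mk g : G ⧸ N) * QuotientGroup.mk x * (QuotientGroup.mk g : G ⧸ N)⁻¹
      = (QuotientGroup.mk h : G ⧸ N)⁻¹ * ((QuotientGroup.mk h : G ⧸ N) * ((QuotientGroup.mk g : G ⧸ N) * QuotientGroup.mk x * (QuotientGroup.mk g : G ⧸ N)⁻¹)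
        * (QuotientGroup.mk h : G ⧸ N)⁻¹) * (QuotientGroup.mk h : G ⧸ N) := by group
    _ = (QuotientGroup.mk h : G ⧸ N)⁻¹ * QuotientGroup.mk x * (QuotientGroup.mk h : G ⧸ N) := by rw [e1]
    _ = (QuotientGroup.mk h : G ⧸ N)⁻¹ * (QuotientGroup.mk x * (QuotientGroup.mk h : G ⧸ N)) := by group
    _ = QuotientGroup.mk x := by rw [hc']; group

/-- In a finite cyclic group, the elements with `z ^ p = 1` lie in every nontrivial
`p`-subgroup `⟨x⟩`. -/
theorem mem_zpowers_of_pow_prime_eq_one {α : Type*} [Group α] [Finite α] [IsCyclic α] {p : ℕ}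
    [hp : Fact p.Prime] (x z : α) (hx1 : x ≠ 1) (hx : ∃ k : ℕ, x ^ (p ^ k) = 1) (hz : z ^ p = 1) :
    z ∈ Subgroup.zpowers x := by
  classical
  obtain ⟨k, hk⟩ := hx
  obtain ⟨j, -, hj⟩ := (Nat.dvd_prime_pow hp.out).mp (orderOf_dvd_of_pow_eq_one hk)
  have hj0 : j ≠ 0 := by
    rintro rfl
    rw [pow_zero, orderOf_eq_one_iff] at hj
    exact hx1 hj
  obtain ⟨i, rfl⟩ := Nat.exists_eq_succ_of_ne_zero hj0
  set w := x ^ (p ^ i) with hw
  have hpi : p ^ i ≠ 0 := pow_ne_zero _ hp.out.ne_zero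
  have how : orderOf w = p := by
    rw [hw, orderOf_pow' x hpi, hj]
    have : Nat.gcd (p ^ (i + 1)) (p ^ i) = p ^ i := Nat.gcd_eq_right (pow_dvd_pow p (Nat.le_succ i))
    rw [this, pow_succ, Nat.mul_div_cancel_left _ (Nat.pos_of_ne_zero hpi)]
  have hwx : w ∈ Subgroup.zpowers x := Subgroup.pow_mem _ (Subgroup.mem_zpowers x) _
  have : Fintype α := Fintype.ofFinite α
  have hF : (Finset.univ.filter (fun a : α => a ^ p = 1)).card ≤ p :=
    IsCyclic.card_pow_eq_one_le hp.out.pos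
  have hsub : (Finset.univ.filter (fun a : α => a ∈ Subgroup.zpowers w))
      ⊆ Finset.univ.filter (fun a : α => a ^ p = 1) := by
    intro a ha
    rw [Finset.mem_filter] at ha ⊢
    refine ⟨Finset.mem_univ _, ?_⟩
    obtain ⟨n, rfl⟩ := Subgroup.mem_zpowers_iff.mp ha.2
    rw [← zpow_natCast, ← zpow_mul, mul_comm, zpow_mul, zpow_natCast, ← how, pow_orderOf_eq_one,
      one_zpow]
  have hcard : (Finset.univ.filter (fun a : α => a ∈ Subgroup.zpowers w)).card = p := by
    rw [← how, ← Nat.card_zpowers, Nat.card_eq_fintype_card, Fintype.card_subtype]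
  have heq := Finset.eq_of_subset_of_card_le hsub (by rw [hcard]; exact hF)
  have hzF : z ∈ Finset.univ.filter (fun a : α => a ^ p = 1) := by
    rw [Finset.mem_filter]; exact ⟨Finset.mem_univ _, hz⟩
  rw [← heq, Finset.mem_filter] at hzF
  exact (Subgroup.zpowers_le.mpr hwx) hzF.2

/-- A nontrivial isolated `p`-element in a cyclic Sylow `p`-subgroup forces `N(P) ≤ C(P)`. -/
theorem isolated_cyclic_normalizer_le_centralizer [Finite G] {p : ℕ} [hp : Fact p.Prime] {x : G}
    (hiso : IsIsolated x) (hx1 : x ≠ 1) (P : Sylow p G) (hxP : x ∈ (P : Subgroup G))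
    (hcyc : IsCyclic ↥(P : Subgroup G)) :
    Subgroup.normalizer ((P : Subgroup G) : Set G) ≤ Subgroup.centralizer ((P : Subgroup G) : Set G) := by
  have hxp : ∃ k : ℕ, x ^ (p ^ k) = 1 := exists_pow_eq_one_of_mem P.isPGroup' hxP
  have hNC := isolated_normalizer_le hiso (P : Subgroup G) P.isPGroup' hxP
  have hPcomm : ∀ a ∈ (P : Subgroup G), ∀ b ∈ (P : Subgroup G), a * b = b * a := by
    intro a ha b hb
    have : IsMulCommutative ↥(P : Subgroup G) := IsCyclic.isMulCommutative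
    exact setLike_mul_comm ha hb
  -- Step A: elements of order prime to p
  have stepA : ∀ n ∈ Subgroup.normalizer ((P : Subgroup G) : Set G), (orderOf n).Coprime p →
      ∀ k : ℕ, ∀ y ∈ (P : Subgroup G), y ^ (p ^ k) = 1 → n * y = y * n := by
    intro n hn hco k
    induction k with
    | zero =>
      intro y _ hy
      rw [pow_zero, pow_one] at hy
      rw [hy]; simp
    | succ k ih =>
      intro y hy hyk
      have hyp : n * y ^ p = y ^ p * n := by
        apply ih (y ^ p) (Subgroup.pow_mem _ hy _)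
        rw [← pow_mul, ← pow_succ']; exact hyk
      have hny : n * y * n⁻¹ ∈ (P : Subgroup G) := (Subgroup.mem_normalizer_iff.mp hn y).mp hy
      have hzP : n * y * n⁻¹ * y⁻¹ ∈ (P : Subgroup G) := Subgroup.mul_mem _ hny (Subgroup.inv_mem _ hy)
      have hzp : (n * y * n⁻¹ * y⁻¹) ^ p = 1 := by
        have hc : Commute (n * y * n⁻¹) y⁻¹ := hPcomm _ hny _ (Subgroup.inv_mem _ hy)
        rw [hc.mul_pow, conj_pow, inv_pow]
        rw [mul_inv_eq_one, mul_inv_eq_iff_eq_mul]
        exact hyp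
      have hzx : n * y * n⁻¹ * y⁻¹ ∈ Subgroup.zpowers x := by
        have h1 := mem_zpowers_of_pow_prime_eq_one (α := ↥(P : Subgroup G)) (p := p) ⟨x, hxP⟩
          ⟨n * y * n⁻¹ * y⁻¹, hzP⟩ (by intro h; exact hx1 (congrArg Subtype.val h))
          (by obtain ⟨k, hk⟩ := hxp; exact ⟨k, Subtype.ext (by simpa using hk)⟩)
          (Subtype.ext (by simpa using hzp))
        obtain ⟨i, hi⟩ := Subgroup.mem_zpowers_iff.mp h1
        rw [Subgroup.mem_zpowers_iff]
        refine ⟨i, ?_⟩
        have := congrArg Subtype.val hi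
        simpa using this
      have hcomm : Commute n (n * y * n⁻¹ * y⁻¹) := by
        obtain ⟨i, hi⟩ := Subgroup.mem_zpowers_iff.mp hzx
        rw [← hi]
        have hnx : n * x * n⁻¹ = x := mem_centralizer_singleton_iff.mp (hNC hn)
        have : Commute n x := by
          rw [mul_inv_eq_iff_eq_mul] at hnx; exact hnx
        exact this.zpow_right i
      exact commute_of_quadratic n y hco ⟨1, by rw [pow_one]; exact hzp⟩ hcomm
  have stepA' : ∀ n ∈ Subgroup.normalizer ((P : Subgroup G) : Set G), (orderOf n).Coprime p →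
      n ∈ Subgroup.centralizer ((P : Subgroup G) : Set G) := by
    intro n hn hco
    rw [Subgroup.mem_centralizer_iff]
    intro y hy
    obtain ⟨k, hk⟩ := exists_pow_eq_one_of_mem P.isPGroup' hy
    exact (stepA n hn hco k y hy hk).symm
  -- Step B: general elements
  intro n hn
  have hn0 : orderOf n ≠ 0 := (orderOf_pos n).ne'
  obtain ⟨a, m, hm, ham⟩ := Nat.exists_eq_pow_mul_and_not_dvd hn0 p hp.out.ne_one
  have hpa : p ^ a ≠ 0 := pow_ne_zero _ hp.out.ne_zero
  have hm0 : m ≠ 0 := by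
    rintro rfl; rw [mul_zero] at ham; exact hn0 ham
  have h1 : n ^ (p ^ a) ∈ Subgroup.centralizer ((P : Subgroup G) : Set G) := by
    apply stepA' _ (Subgroup.pow_mem _ hn _)
    rw [orderOf_pow' n hpa, ham]
    have : Nat.gcd (p ^ a * m) (p ^ a) = p ^ a := Nat.gcd_eq_right (dvd_mul_right _ _)
    rw [this, Nat.mul_div_cancel_left _ (Nat.pos_of_ne_zero hpa)]
    exact ((Nat.Prime.coprime_iff_not_dvd hp.out).mpr hm).symm
  have h2 : n ^ m ∈ Subgroup.centralizer ((P : Subgroup G) : Set G) := by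
    have hpm : ∃ k : ℕ, (n ^ m) ^ (p ^ k) = 1 := by
      refine ⟨a, ?_⟩
      rw [← pow_mul, mul_comm, ← ham, pow_orderOf_eq_one]
    have hzp := isPGroup_zpowers (n ^ m) hpm
    have hzn : Subgroup.zpowers (n ^ m) ≤ Subgroup.normalizer ((P : Subgroup G) : Set G) :=
      Subgroup.zpowers_le.mpr (Subgroup.pow_mem _ hn _)
    have hsup := IsPGroup.to_sup_of_normal_right' hzp P.isPGroup' hzn
    have heq := P.is_maximal' hsup le_sup_right
    have hmem : n ^ m ∈ (P : Subgroup G) := by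
      rw [← heq]
      exact (le_sup_left : Subgroup.zpowers (n ^ m) ≤ _) (Subgroup.mem_zpowers _)
    rw [Subgroup.mem_centralizer_iff]
    intro y hy
    exact hPcomm y hy _ hmem
  have hcop : Nat.Coprime (p ^ a) m :=
    Nat.Coprime.pow_left a ((Nat.Prime.coprime_iff_not_dvd hp.out).mpr hm)
  have hbez := Int.gcd_eq_gcd_ab (p ^ a : ℕ) m
  rw [Int.gcd_natCast_natCast, hcop.gcd_eq_one] at hbez
  have hn1 : n = (n ^ (p ^ a)) ^ (Int.gcdA (p ^ a : ℕ) m) * (n ^ m) ^ (Int.gcdB (p ^ a : ℕ) m) := by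
    rw [← zpow_natCast n (p ^ a), ← zpow_natCast n m, ← zpow_mul, ← zpow_mul, ← zpow_add, ← hbez]
    simp
  rw [hn1]
  exact Subgroup.mul_mem _ (Subgroup.zpow_mem _ h1 _) (Subgroup.zpow_mem _ h2 _)

/-- A nontrivial isolated `p`-element together with cyclic Sylow `p`-subgroups gives a normal
`p`-complement. -/
theorem isolated_cyclic_hasNormalPComplement [Finite G] {p : ℕ} [hp : Fact p.Prime] {x : G}
    (hx : ∃ k : ℕ, x ^ (p ^ k) = 1) (hiso : IsIsolated x) (hx1 : x ≠ 1)
    (hcyc : ∀ P : Sylow p G, IsCyclic ↥(P : Subgroup G)) : HasNormalPComplement p G := by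
  obtain ⟨P, hP⟩ := (isPGroup_zpowers x hx).exists_le_sylow
  have hxP : x ∈ (P : Subgroup G) := hP (Subgroup.mem_zpowers x)
  have hNC := isolated_cyclic_normalizer_le_centralizer hiso hx1 P hxP (hcyc P)
  exact ⟨P, (MonoidHom.transferSylow P hNC).ker, MonoidHom.normal_ker _,
    MonoidHom.ker_transferSylow_isComplement' P hNC⟩

end Cfsg.Agent.Lib.Helper58
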