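import Mathlib
import Cfsg.Agent.Lib.Helper58.JUDefs
import Cfsg.Agent.Lib.Helper82.JcOCPC

/-! Assembly of the S2950 project JU (helper58): the statement S2950 from the pieces. -/

set_option autoImplicit false

namespace Cfsg.Agent.Lib.Helper58.JU

open Cfsg.Agent.Lib.Helper78.Jc
open Cfsg.Agent.Lib.Helper72.SC
open Cfsg.Agent.Lib.Helper72.JL

universe u

/-- the statement S2942, as a hypothesis -/
def S42Stmt.{w} : Prop :=
  ∀ (G : Type w) [Group G] [Finite G], Cfsg.IsCharacteristicTwoType G →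
    (∀ N : Subgroup G, Cfsg.IsTwoLocal N → Group.IsSolvable ↥N) →
    (∀ S : Sylow 2 G, Subgroup.centralizer (Cfsg.omegaCenterOf (S : Subgroup G) : Set G) ≤
      Subgroup.normalizer ((S : Subgroup G) : Set G)) →
    ∀ T : Subgroup G, IsPGroup 2 ↥T → T ≠ ⊥ → ∀ L : Subgroup G, L ∈ Cfsg.jOvergroups T →
    ∀ K : Subgroup G, Cfsg.IsJComponent T K → K ≤ L → (K.subgroupOf L).IsSubnormal

/-- the statement S2950 from the pieces -/
theorem main_of_pieces (hCtx : CtxStmt.{u}) (hWb : WbStmt.{u}) (hLe : LeStmt.{u})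
    (h42 : S42Stmt.{u})
    {G : Type u} [Group G] [Finite G] (hL : Cfsg.IsCharacteristicTwoType G)
    (hN : ∀ N : Subgroup G, Cfsg.IsTwoLocal N → Group.IsSolvable ↥N)
    (hZ : ∀ S : Sylow 2 G, Subgroup.centralizer (Cfsg.omegaCenterOf (S : Subgroup G) : Set G) ≤
      Subgroup.normalizer ((S : Subgroup G) : Set G))
    (hO : Cfsg.pCore 2 G = ⊥) (S : Sylow 2 G) (M : Subgroup G) (hM : Cfsg.IsTwoLocal M)
    (hMJ : Subgroup.normalizer (Cfsg.thompsonSubgroupOf 2 (S : Subgroup G) : Set G) ≤ M)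
    (T : Subgroup G) (hT : T ∈ Cfsg.maxStraddlingTwoSubgroups M)
    (K : Subgroup G) (hK : K ∈ Cfsg.jComponentsOutside M T) :
    ∃ L : Subgroup G, Cfsg.IsMaximalTwoLocal L ∧ K ⊔ Cfsg.thompsonSubgroupOf 2 T ≤ L ∧
      (∀ L' : Subgroup G, Cfsg.IsMaximalTwoLocal L' → K ⊔ Cfsg.thompsonSubgroupOf 2 T ≤ L' →
        L' = L) ∧
      (K.subgroupOf L).IsSubnormal ∧ Cfsg.IsSylowTwoIn T L := by
  have hc := hCtx G hL hN hZ hO S M hM hMJ T hT K hK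
  obtain ⟨hW2, hW1⟩ := hWb G M T K hc
  have hle := hLe G M T K hc
  have hL2 : Cfsg.IsTwoLocal (Subgroup.normalizer (WB T K : Set G)) := ⟨WB T K, hW2, hW1, rfl⟩
  obtain ⟨hK0, hKM, hcore⟩ := hK
  have hH0 : Cfsg.IsTwoLocal (Subgroup.normalizer (Cfsg.pCoreOf 2 (K ⊔ T) : Set G)) :=
    ⟨Cfsg.pCoreOf 2 (K ⊔ T), Cfsg.Agent.Lib.Helper82.Jc.pc_pgroup (K ⊔ T), hcore, rfl⟩
  have hJT : Cfsg.thompsonSubgroupOf 2 T ≤ T :=
    Subgroup.map_subtype_le (Cfsg.thompsonSubgroup 2 ↥T)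
  have hKT : K ⊔ T ≤ Subgroup.normalizer (Cfsg.pCoreOf 2 (K ⊔ T) : Set G) :=
    Cfsg.Agent.Lib.Helper82.Jc.pc_le_normalizer (K ⊔ T)
  have hKTL : K ⊔ T ≤ Subgroup.normalizer (WB T K : Set G) :=
    hKT.trans (hle _ hH0 ((sup_le_sup_left hJT K).trans hKT))
  have hKJL : K ⊔ Cfsg.thompsonSubgroupOf 2 T ≤ Subgroup.normalizer (WB T K : Set G) :=
    (sup_le_sup_left hJT K).trans hKTL
  have hLM : ¬ Subgroup.normalizer (WB T K : Set G) ≤ M :=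
    fun h => hKM ((le_sup_left.trans hKTL).trans h)
  have hLT : Subgroup.normalizer (WB T K : Set G) ∈ Cfsg.jOvergroups T :=
    hc.hsyl _ hL2 hLM (le_sup_right.trans hKTL)
  obtain ⟨⟨hT2, hT1, -, -⟩, -⟩ := hT
  refine ⟨Subgroup.normalizer (WB T K : Set G),
    ⟨hL2, fun N' hN' hLN' => le_antisymm (hle N' hN' (hKJL.trans hLN')) hLN'⟩, hKJL, ?_, ?_,
    hLT.1⟩
  · intro L' hL' hKL'
    exact (hL'.2 _ hL2 (hle L' hL'.1 hKL')).symm
  · exact h42 G hL hN hZ T hT2 hT1 _ hLT K hK0.1 (le_sup_left.trans hKTL)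

end Cfsg.Agent.Lib.Helper58.JU
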