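import Mathlib
import Cfsg.Prelude.Def_SylowChains
import Cfsg.Agent.Lib.Helper58.SylowConj
import Cfsg.Agent.Lib.Helper58.SylowControl
import Cfsg.Agent.Lib.Helper58.FunctorRegular

/-!
# Sylow subgroups meeting a subgroup, maximal `p`-locals (helper58)
-/

namespace Cfsg.Agent.Lib.Helper58

variable {G : Type*} [Group G]

theorem card_subgroupConjRight (g : G) (A : Subgroup G) :
    Nat.card ↥(subgroupConjRight g A) = Nat.card ↥A :=
  Subgroup.card_map_of_injective (MulEquiv.injective _)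

theorem card_mul_relIndex_of_le {H K : Subgroup G} (h : H ≤ K) :
    Nat.card ↥H * H.relIndex K = Nat.card ↥K := by
  have := Subgroup.relIndex_mul_relIndex (⊥ : Subgroup G) H K bot_le h
  rwa [Subgroup.relIndex_bot_left, Subgroup.relIndex_bot_left] at this

/-- A `p`-subgroup of `M` has order at most that of `B ⊓ M` when the latter has index prime
to `p` in `M`. -/
theorem card_le_of_not_dvd_relIndex [Finite G] {p : ℕ} [Fact p.Prime] {M P₁ B : Subgroup G}
    (hP₁ : IsPGroup p ↥P₁) (hP₁M : P₁ ≤ M) (hB : ¬ p ∣ (B ⊓ M).relIndex M) :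
    Nat.card ↥P₁ ≤ Nat.card ↥(B ⊓ M) := by
  obtain ⟨k, hk⟩ := IsPGroup.iff_card.mp hP₁
  have h1 : Nat.card ↥P₁ ∣ Nat.card ↥M := Subgroup.card_dvd_of_le hP₁M
  rw [← card_mul_relIndex_of_le (inf_le_right : B ⊓ M ≤ M)] at h1
  have hcop : Nat.Coprime (Nat.card ↥P₁) ((B ⊓ M).relIndex M) := by
    rw [hk]
    exact Nat.Coprime.pow_left k ((Nat.Prime.coprime_iff_not_dvd Fact.out).mpr hB)
  exact Nat.le_of_dvd Nat.card_pos (hcop.dvd_of_dvd_mul_right h1)

theorem smul_inf_eq {p : ℕ} {M : Subgroup G} {x : G} (hx : x ∈ M) (A : Sylow p G) :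
    ((x • A : Sylow p G) : Subgroup G) ⊓ M = subgroupConjRight x⁻¹ ((A : Subgroup G) ⊓ M) := by
  rw [coe_smul_sylow_eq_subgroupConjRight, subgroupConjRight_inf,
    subgroupConjRight_eq_self_of_mem (M.inv_mem hx)]

/-- A link through a member `X` of the family by an element `x ∈ X`. -/
theorem slink_of_mem [Finite G] {p : ℕ} [Fact p.Prime] {𝓕₀ : Set (Subgroup G)} {X : Subgroup G}
    (hX : X ∈ 𝓕₀) {A : Sylow p G} (hA : ¬ p ∣ ((A : Subgroup G) ⊓ X).relIndex X) {x : G}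
    (hx : x ∈ X) {D : Subgroup G} (hD : D ≤ ((x • A : Sylow p G) : Subgroup G) ⊓ X) :
    SLink p 𝓕₀ D A (x • A) := by
  refine ⟨X, x, (mem_sylowMembers_iff A.2).mpr ⟨hX, hA⟩,
    (mem_sylowMembers_iff (x • A).2).mpr ⟨hX, ?_⟩, hx, ?_, hD⟩
  · have h := relIndex_subgroupConjRight x⁻¹ ((A : Subgroup G) ⊓ X) X
    rw [subgroupConjRight_eq_self_of_mem (X.inv_mem hx)] at h
    rw [smul_inf_eq hx, h]
    exact hA
  · rw [coe_smul_sylow_eq_subgroupConjRight, subgroupConjRight_cancel_inv]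

/-- Every Sylow subgroup `a` can be replaced by one meeting `M` in a Sylow subgroup of `M`
containing `a ⊓ M`. -/
theorem exists_sylow_meet [Finite G] {p : ℕ} [Fact p.Prime] (M : Subgroup G) (a : Sylow p G) :
    ∃ At : Sylow p G, (a : Subgroup G) ⊓ M ≤ (At : Subgroup G) ⊓ M ∧
      ¬ p ∣ ((At : Subgroup G) ⊓ M).relIndex M := by
  have h0 : IsPGroup p ↥(((a : Subgroup G) ⊓ M).subgroupOf M) :=
    (a.2.to_le inf_le_left).comap_subtype
  obtain ⟨Q, hQ⟩ := h0.exists_le_sylow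
  obtain ⟨At, hAt⟩ := (Q.2.map M.subtype).exists_le_sylow
  have hQle : (Q : Subgroup ↥M) ≤ ((At : Subgroup G) ⊓ M).subgroupOf M := by
    intro y hy
    rw [Subgroup.mem_subgroupOf]
    exact ⟨hAt (Subgroup.mem_map.mpr ⟨y, hy, rfl⟩), y.2⟩
  have hp : IsPGroup p ↥(((At : Subgroup G) ⊓ M).subgroupOf M) :=
    (At.2.to_le inf_le_left).comap_subtype
  have heq : ((At : Subgroup G) ⊓ M).subgroupOf M = Q := Q.is_maximal' hp hQle
  refine ⟨At, ?_, ?_⟩
  · intro y hy
    have hyM := (Subgroup.mem_inf.mp hy).2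
    have : (⟨y, hyM⟩ : ↥M) ∈ (Q : Subgroup ↥M) := hQ (Subgroup.mem_subgroupOf.mpr hy)
    exact Subgroup.mem_inf.mpr ⟨hAt (Subgroup.mem_map.mpr ⟨_, this, rfl⟩), hyM⟩
  · show ¬ p ∣ (((At : Subgroup G) ⊓ M).subgroupOf M).index
    rw [heq]
    exact Q.not_dvd_index

/-- Two Sylow subgroups of `G` meeting `M` in Sylow subgroups of `M` have these intersections
conjugate under `M`. -/
theorem exists_smul_inf_eq [Finite G] {p : ℕ} [Fact p.Prime] {M : Subgroup G} {A B : Sylow p G}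
    (hA : ¬ p ∣ ((A : Subgroup G) ⊓ M).relIndex M)
    (hB : ¬ p ∣ ((B : Subgroup G) ⊓ M).relIndex M) :
    ∃ m ∈ M, ((m • A : Sylow p G) : Subgroup G) ⊓ M = (B : Subgroup G) ⊓ M := by
  have hA' : ¬ p ∣ (((A : Subgroup G) ⊓ M).subgroupOf M).index := hA
  have hB' : ¬ p ∣ (((B : Subgroup G) ⊓ M).subgroupOf M).index := hB
  have hpA : IsPGroup p ↥(((A : Subgroup G) ⊓ M).subgroupOf M) :=
    (A.2.to_le inf_le_left).comap_subtype
  have hpB : IsPGroup p ↥(((B : Subgroup G) ⊓ M).subgroupOf M) :=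
    (B.2.to_le inf_le_left).comap_subtype
  obtain ⟨m, hm⟩ := MulAction.exists_smul_eq ↥M (hpA.toSylow hA') (hpB.toSylow hB')
  refine ⟨m, m.2, ?_⟩
  have h1 := congrArg (fun Q : Sylow p ↥M => (Q : Subgroup ↥M).map M.subtype) hm
  simp only [coe_smul_sylow_eq_subgroupConjRight, IsPGroup.toSylow_coe] at h1
  rw [← subgroupConjRight_map_subtype, Subgroup.map_subgroupOf_eq_of_le inf_le_right,
    Subgroup.map_subgroupOf_eq_of_le inf_le_right] at h1
  rw [smul_inf_eq m.2]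
  exact h1

/-- Normalizers grow in `p`-groups: a proper subgroup `P` of a Sylow subgroup `S` is properly
contained in `N_S(P)`. -/
theorem card_lt_card_normalizer_inf [Finite G] {p : ℕ} [Fact p.Prime] {P : Subgroup G}
    {S : Sylow p G} (hPS : P ≤ S) (hne : P ≠ S) :
    Nat.card ↥P < Nat.card ↥(Subgroup.normalizer (P : Set G) ⊓ (S : Subgroup G)) := by
  have : Group.IsNilpotent ↥(S : Subgroup G) := S.2.isNilpotent
  have hnc := Group.normalizerCondition_of_isNilpotent (G := ↥(S : Subgroup G))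
  have hlt : P.subgroupOf S < ⊤ := by
    rw [lt_top_iff_ne_top]
    intro h
    exact hne (le_antisymm hPS (Subgroup.subgroupOf_eq_top.mp h))
  have h2 := hnc _ hlt
  obtain ⟨y, hyN, hyP⟩ := SetLike.exists_of_lt h2
  have hyN' : (y : G) ∈ Subgroup.normalizer (P : Set G) := by
    apply mem_normalizer_of_conj_mem
    intro g hg
    have := (Subgroup.mem_normalizer_iff.mp hyN ⟨g, hPS hg⟩).mp (Subgroup.mem_subgroupOf.mpr hg)
    exact Subgroup.mem_subgroupOf.mp this
  by_contra hcon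
  have heq : P = Subgroup.normalizer (P : Set G) ⊓ (S : Subgroup G) :=
    Subgroup.eq_of_le_of_card_ge (le_inf Subgroup.le_normalizer hPS) (not_lt.mp hcon)
  apply hyP
  rw [Subgroup.mem_subgroupOf, heq]
  exact Subgroup.mem_inf.mpr ⟨hyN', y.2⟩

/-- Every `p`-local subgroup lies in a maximal `p`-local subgroup. -/
theorem exists_maximalPLocal_ge [Finite G] {p : ℕ} {N : Subgroup G} (hN : IsPLocal p N) :
    ∃ M, IsMaximalPLocal p M ∧ N ≤ M := by
  obtain ⟨M, hNM, hM⟩ := (Set.toFinite {L : Subgroup G | IsPLocal p L}).exists_le_maximal hN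
  exact ⟨M, ⟨hM.prop, fun L hL hML => le_antisymm (hM.le_of_ge hL hML) hML⟩, hNM⟩

end Cfsg.Agent.Lib.Helper58
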