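import Mathlib

set_option autoImplicit false

namespace Cfsg.Agent.Lib.Helper58.QFixC

theorem card_sup_le {G : Type*} [Group G] [Finite G] (H N : Subgroup G) [N.Normal] (z : G)
    (hz : z ≠ 1) (hzH : z ∈ H) (hzN : z ∈ N) :
    2 * Nat.card ↥(H ⊔ N) ≤ Nat.card H * Nat.card N := by
  have h1 : Nat.card N * N.relIndex (H ⊔ N) = Nat.card ↥(H ⊔ N) := by
    rw [← Subgroup.relIndex_bot_left, ← Subgroup.relIndex_bot_left]
    exact Subgroup.relIndex_mul_relIndex _ _ _ bot_le le_sup_right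
  have h2 : N.relIndex (H ⊔ N) = N.relIndex H := Subgroup.relIndex_sup_right H N
  have h3 : Nat.card ↥(N ⊓ H) * (N ⊓ H).relIndex H = Nat.card H := by
    rw [← Subgroup.relIndex_bot_left, ← Subgroup.relIndex_bot_left]
    exact Subgroup.relIndex_mul_relIndex _ _ _ bot_le inf_le_right
  have h4 : (N ⊓ H).relIndex H = N.relIndex H := Subgroup.inf_relIndex_right N H
  have h5 : 2 ≤ Nat.card ↥(N ⊓ H) := by
    have : 1 < Nat.card ↥(N ⊓ H) := by
      rw [Subgroup.one_lt_card_iff_ne_bot]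
      intro hbot
      have hzm : z ∈ N ⊓ H := ⟨hzN, hzH⟩
      rw [hbot, Subgroup.mem_bot] at hzm
      exact hz hzm
    omega
  rw [h2] at h1
  rw [h4] at h3
  calc 2 * Nat.card ↥(H ⊔ N) ≤ Nat.card ↥(N ⊓ H) * Nat.card ↥(H ⊔ N) :=
        Nat.mul_le_mul_right _ h5
    _ = Nat.card ↥(N ⊓ H) * (Nat.card N * N.relIndex H) := by rw [h1]
    _ = (Nat.card ↥(N ⊓ H) * N.relIndex H) * Nat.card N := by ring
    _ = Nat.card H * Nat.card N := by rw [h3]

theorem E9_struct {A : Type*} [Group A] (hc : ∀ a b : A, a * b = b * a) (h9 : Nat.card A = 9)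
    (hnc : ¬ IsCyclic A) :
    (∀ e : A, e ^ 3 = 1) ∧ ∃ a b : A, ∀ e : A, ∃ i j : Fin 3, e = a ^ (i : ℕ) * b ^ (j : ℕ) := by
  have hfin : Finite A := Nat.finite_of_card_ne_zero (by rw [h9]; norm_num)
  have hord : ∀ e : A, orderOf e ∣ 3 := by
    intro e
    have h1 : orderOf e ∣ 9 := h9 ▸ orderOf_dvd_natCard e
    have h2 : orderOf e ≠ 9 := by
      intro h
      exact hnc (isCyclic_of_orderOf_eq_card e (h.trans h9.symm))
    have h3 : orderOf e ≤ 9 := Nat.le_of_dvd (by norm_num) h1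
    interval_cases h : orderOf e <;> simp_all
  have hpow : ∀ e : A, e ^ 3 = 1 := fun e => orderOf_dvd_iff_pow_eq_one.mp (hord e)
  refine ⟨hpow, ?_⟩
  have hord3 : ∀ e : A, e ≠ 1 → orderOf e = 3 := by
    intro e he
    have h1 := hord e
    have h2 : orderOf e ≠ 1 := by rwa [Ne, orderOf_eq_one_iff]
    rcases (Nat.dvd_prime Nat.prime_three).mp h1 with h | h
    · exact absurd h h2
    · exact h
  have hnt : Nontrivial A := by
    rw [← Finite.one_lt_card_iff_nontrivial, h9]; norm_num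
  obtain ⟨a, ha⟩ := exists_ne (1 : A)
  have hca : Nat.card (Subgroup.zpowers a) = 3 := by rw [Nat.card_zpowers, hord3 a ha]
  have hne : Subgroup.zpowers a ≠ ⊤ := by
    intro h
    have := (Subgroup.card_eq_iff_eq_top (H := Subgroup.zpowers a)).mpr h
    rw [hca, h9] at this
    norm_num at this
  obtain ⟨b, hb⟩ : ∃ b, b ∉ Subgroup.zpowers a := by
    by_contra hcon
    push Not at hcon
    exact hne (eq_top_iff.mpr fun x _ => hcon x)
  have hb1 : b ≠ 1 := by
    rintro rfl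
    exact hb (one_mem _)
  have hnb : (Subgroup.zpowers b).Normal := by
    constructor
    intro n hn g
    rw [hc g n, mul_inv_cancel_right]
    exact hn
  have htop : Subgroup.zpowers a ⊔ Subgroup.zpowers b = ⊤ := by
    rw [← Subgroup.card_eq_iff_eq_top, h9]
    have h1 : Nat.card ↥(Subgroup.zpowers a ⊔ Subgroup.zpowers b) ∣ 9 :=
      h9 ▸ Subgroup.card_subgroup_dvd_card _
    have h2 : 3 ∣ Nat.card ↥(Subgroup.zpowers a ⊔ Subgroup.zpowers b) :=
      hca ▸ Subgroup.card_dvd_of_le le_sup_left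
    have h3 : Nat.card ↥(Subgroup.zpowers a ⊔ Subgroup.zpowers b) ≠ 3 := by
      intro h
      have h4 : Subgroup.zpowers a = Subgroup.zpowers a ⊔ Subgroup.zpowers b :=
        Subgroup.eq_of_le_of_card_ge le_sup_left (by rw [h, hca])
      apply hb
      rw [h4]
      exact Subgroup.mem_sup_right (Subgroup.mem_zpowers b)
    have h5 : Nat.card ↥(Subgroup.zpowers a ⊔ Subgroup.zpowers b) ≤ 9 :=
      Nat.le_of_dvd (by norm_num) h1
    interval_cases h : Nat.card ↥(Subgroup.zpowers a ⊔ Subgroup.zpowers b) <;> simp_all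
  refine ⟨a, b, fun e => ?_⟩
  have he : e ∈ ((Subgroup.zpowers a ⊔ Subgroup.zpowers b : Subgroup A) : Set A) := by
    rw [htop]; trivial
  rw [Subgroup.mul_normal] at he
  obtain ⟨x, hx, y, hy, rfl⟩ := Set.mem_mul.mp he
  obtain ⟨k, rfl⟩ := Subgroup.mem_zpowers_iff.mp hx
  obtain ⟨l, rfl⟩ := Subgroup.mem_zpowers_iff.mp hy
  have hk0 : 0 ≤ k % 3 := Int.emod_nonneg k (by norm_num)
  have hk3 : k % 3 < 3 := Int.emod_lt_of_pos k (by norm_num)
  have hl0 : 0 ≤ l % 3 := Int.emod_nonneg l (by norm_num)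
  have hl3 : l % 3 < 3 := Int.emod_lt_of_pos l (by norm_num)
  refine ⟨⟨(k % 3).toNat, by omega⟩, ⟨(l % 3).toNat, by omega⟩, ?_⟩
  have e1 : a ^ k = a ^ ((k % 3).toNat) := by
    rw [← zpow_natCast, Int.toNat_of_nonneg hk0]
    have := zpow_mod_orderOf a k
    rw [hord3 a ha] at this
    exact this.symm
  have e2 : b ^ l = b ^ ((l % 3).toNat) := by
    rw [← zpow_natCast, Int.toNat_of_nonneg hl0]
    have := zpow_mod_orderOf b l
    rw [hord3 b hb1] at this
    exact this.symm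
  rw [e1, e2]

end Cfsg.Agent.Lib.Helper58.QFixC
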