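import Mathlib
import Cfsg.Agent.Lib.Helper61.TT5Defs

set_option autoImplicit false

namespace Cfsg.Agent.Lib.Helper58.TT5

open Cfsg.Agent.Lib.Helper61.TT5

variable {G : Type*} [Group G]

/-- The word computation behind the affine plane lemma, in the generators `d`, `p = d d'`,
`q = d g`. -/
theorem ap_aux (d p q : G) (hd : d * d = 1) (R1 : p * p * p = 1) (R2 : q * q * q = 1)
    (R3 : p⁻¹ * q * p⁻¹ * q * p⁻¹ * q = 1) (R4 : p * q * p * q * p * q = 1)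
    (R5 : d * p * d⁻¹ = p⁻¹) (R6 : d * q * d⁻¹ = q⁻¹) :
    ((d * q) * (p * (d * q) * p⁻¹) * (d * ((d * q) * (p * (d * q) * p⁻¹)) * d)) * (d * q) =
        (d * q) * ((d * q) * (p * (d * q) * p⁻¹) * (d * ((d * q) * (p * (d * q) * p⁻¹)) * d)) ∧
      ((d * q) * (p * (d * q) * p⁻¹) * (d * ((d * q) * (p * (d * q) * p⁻¹)) * d) = 1 →
        (d * q) * (p * (d * q) * p⁻¹) = p) := by
  have hPP : p⁻¹ * p⁻¹ = p := by
    have : p⁻¹ * p⁻¹ = p * (p * p * p)⁻¹ := by group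
    rw [this, R1, inv_one, mul_one]
  have hQQ : q⁻¹ * q⁻¹ = q := by
    have : q⁻¹ * q⁻¹ = q * (q * q * q)⁻¹ := by group
    rw [this, R2, inv_one, mul_one]
  have hqq : q * q = q⁻¹ := by
    have : q * q = (q * q * q) * q⁻¹ := by group
    rw [this, R2, one_mul]
  have A : q * p * q = p⁻¹ * q⁻¹ * p⁻¹ := by
    have : q * p * q = p⁻¹ * (p * q * p * q * p * q) * (q⁻¹ * p⁻¹) := by group
    rw [this, R4, mul_one, mul_assoc]
  have B : q⁻¹ * p * q⁻¹ = p⁻¹ * q * p⁻¹ := by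
    have : q⁻¹ * p * q⁻¹ = (p⁻¹ * q * p⁻¹ * q * p⁻¹ * q)⁻¹ * (p⁻¹ * q * p⁻¹) := by group
    rw [this, R3, inv_one, one_mul]
  have key : p⁻¹ * q⁻¹ * p * q = p * q * p⁻¹ * q⁻¹ := by
    calc p⁻¹ * q⁻¹ * p * q = p⁻¹ * (q⁻¹ * p * q⁻¹) * (q * q) := by group
      _ = p⁻¹ * (p⁻¹ * q * p⁻¹) * (q * q) := by rw [B]
      _ = (p⁻¹ * p⁻¹) * q * p⁻¹ * (q * q) := by group
      _ = p * q * p⁻¹ * q⁻¹ := by rw [hPP, hqq]
  have hcq : q * (p * q * p⁻¹ * q⁻¹) * q⁻¹ = p * q * p⁻¹ * q⁻¹ := by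
    calc q * (p * q * p⁻¹ * q⁻¹) * q⁻¹ = (q * p * q) * p⁻¹ * (q⁻¹ * q⁻¹) := by group
      _ = (p⁻¹ * q⁻¹ * p⁻¹) * p⁻¹ * (q⁻¹ * q⁻¹) := by rw [A]
      _ = p⁻¹ * q⁻¹ * (p⁻¹ * p⁻¹) * (q⁻¹ * q⁻¹) := by group
      _ = p⁻¹ * q⁻¹ * p * q := by rw [hPP, hQQ]
      _ = p * q * p⁻¹ * q⁻¹ := key
  have hdc : d * (p * q * p⁻¹ * q⁻¹) * d⁻¹ = p * q * p⁻¹ * q⁻¹ := by
    calc d * (p * q * p⁻¹ * q⁻¹) * d⁻¹
        = (d * p * d⁻¹) * (d * q * d⁻¹) * (d * p * d⁻¹)⁻¹ * (d * q * d⁻¹)⁻¹ := by group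
      _ = p⁻¹ * q⁻¹ * p⁻¹⁻¹ * q⁻¹⁻¹ := by rw [R5, R6]
      _ = p⁻¹ * q⁻¹ * p * q := by rw [inv_inv, inv_inv]
      _ = p * q * p⁻¹ * q⁻¹ := key
  have hu : (d * q) * (p * (d * q) * p⁻¹) = q * p * q⁻¹ := by
    calc (d * q) * (p * (d * q) * p⁻¹)
        = (d * q * d⁻¹) * (d * p * d⁻¹) * (d * d) * q * p⁻¹ := by group
      _ = q⁻¹ * p⁻¹ * 1 * q * p⁻¹ := by rw [R6, R5, hd]
      _ = q⁻¹ * (p⁻¹ * q * p⁻¹) := by group
      _ = q⁻¹ * (q⁻¹ * p * q⁻¹) := by rw [← B]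
      _ = (q⁻¹ * q⁻¹) * p * q⁻¹ := by group
      _ = q * p * q⁻¹ := by rw [hQQ]
  have hdinv : d⁻¹ = d := inv_eq_of_mul_eq_one_left hd
  have hdud : d * (q * p * q⁻¹) * d = q⁻¹ * p⁻¹ * q := by
    calc d * (q * p * q⁻¹) * d = d * (q * p * q⁻¹) * d⁻¹ := by rw [hdinv]
      _ = (d * q * d⁻¹) * (d * p * d⁻¹) * (d * q * d⁻¹)⁻¹ := by group
      _ = q⁻¹ * p⁻¹ * q⁻¹⁻¹ := by rw [R6, R5]
      _ = q⁻¹ * p⁻¹ * q := by rw [inv_inv]
  have hw : (q * p * q⁻¹) * (q⁻¹ * p⁻¹ * q) = p * q * p⁻¹ * q⁻¹ := by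
    calc (q * p * q⁻¹) * (q⁻¹ * p⁻¹ * q) = q * p * (q⁻¹ * q⁻¹) * p⁻¹ * q := by group
      _ = q * p * q * p⁻¹ * q := by rw [hQQ]
      _ = q * (p * q * p⁻¹ * q⁻¹) * (q * q) := by group
      _ = q * (p * q * p⁻¹ * q⁻¹) * q⁻¹ := by rw [hqq]
      _ = p * q * p⁻¹ * q⁻¹ := hcq
  rw [hu, hdud, hw]
  constructor
  · have h1 : d * (p * q * p⁻¹ * q⁻¹) = (p * q * p⁻¹ * q⁻¹) * d := by
      calc d * (p * q * p⁻¹ * q⁻¹) = (d * (p * q * p⁻¹ * q⁻¹) * d⁻¹) * d := by group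
        _ = (p * q * p⁻¹ * q⁻¹) * d := by rw [hdc]
    have h2 : q * (p * q * p⁻¹ * q⁻¹) = (p * q * p⁻¹ * q⁻¹) * q := by
      calc q * (p * q * p⁻¹ * q⁻¹) = (q * (p * q * p⁻¹ * q⁻¹) * q⁻¹) * q := by group
        _ = (p * q * p⁻¹ * q⁻¹) * q := by rw [hcq]
    calc (p * q * p⁻¹ * q⁻¹) * (d * q) = ((p * q * p⁻¹ * q⁻¹) * d) * q := by group
      _ = (d * (p * q * p⁻¹ * q⁻¹)) * q := by rw [h1]
      _ = d * ((p * q * p⁻¹ * q⁻¹) * q) := by group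
      _ = d * (q * (p * q * p⁻¹ * q⁻¹)) := by rw [h2]
      _ = (d * q) * (p * q * p⁻¹ * q⁻¹) := by group
  · intro hc
    have hpq : p * q = q * p := by
      calc p * q = (p * q * p⁻¹ * q⁻¹) * (q * p) := by group
        _ = q * p := by rw [hc, one_mul]
    calc q * p * q⁻¹ = (q * p) * q⁻¹ := by group
      _ = (p * q) * q⁻¹ := by rw [hpq]
      _ = p := by group

theorem ap : APProp G := by
  intro d d' g hd hd' hg h1 h2 h3 h4
  have hd'inv : d'⁻¹ = d' := inv_eq_of_mul_eq_one_left hd'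
  have hginv : g⁻¹ = g := inv_eq_of_mul_eq_one_left hg
  have R1 : (d * d') * (d * d') * (d * d') = 1 := by
    calc (d * d') * (d * d') * (d * d') = (d * d' * d) * (d' * d * d') := by group
      _ = (d' * d * d') * (d' * d * d') := by rw [h1]
      _ = d' * d * (d' * d') * d * d' := by group
      _ = d' * (d * d) * d' := by rw [hd']; group
      _ = 1 := by rw [hd, mul_one, hd']
  have R2 : (d * g) * (d * g) * (d * g) = 1 := by
    calc (d * g) * (d * g) * (d * g) = (d * g * d) * (g * d * g) := by group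
      _ = (g * d * g) * (g * d * g) := by rw [h2]
      _ = g * d * (g * g) * d * g := by group
      _ = g * (d * d) * g := by rw [hg]; group
      _ = 1 := by rw [hd, mul_one, hg]
  have R3 : (d * d')⁻¹ * (d * g) * (d * d')⁻¹ * (d * g) * (d * d')⁻¹ * (d * g) = 1 := by
    calc (d * d')⁻¹ * (d * g) * (d * d')⁻¹ * (d * g) * (d * d')⁻¹ * (d * g)
        = (d'⁻¹ * g) * (d'⁻¹ * g) * (d'⁻¹ * g) := by group
      _ = (d' * g) * (d' * g) * (d' * g) := by rw [hd'inv]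
      _ = (d' * g * d') * (g * d' * g) := by group
      _ = (g * d' * g) * (g * d' * g) := by rw [h3]
      _ = g * d' * (g * g) * d' * g := by group
      _ = g * (d' * d') * g := by rw [hg]; group
      _ = 1 := by rw [hd', mul_one, hg]
  have he : (d * d' * d) * (d * d' * d) = 1 := by
    calc (d * d' * d) * (d * d' * d) = d * d' * (d * d) * d' * d := by group
      _ = d * (d' * d') * d := by rw [hd]; group
      _ = 1 := by rw [hd', mul_one, hd]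
  have R4 : (d * d') * (d * g) * (d * d') * (d * g) * (d * d') * (d * g) = 1 := by
    calc (d * d') * (d * g) * (d * d') * (d * g) * (d * d') * (d * g)
        = ((d * d' * d) * g * (d * d' * d)) * (g * (d * d' * d) * g) := by group
      _ = (g * (d * d' * d) * g) * (g * (d * d' * d) * g) := by rw [h4]
      _ = g * (d * d' * d) * (g * g) * (d * d' * d) * g := by group
      _ = g * ((d * d' * d) * (d * d' * d)) * g := by rw [hg]; group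
      _ = 1 := by rw [he, mul_one, hg]
  have R5 : d * (d * d') * d⁻¹ = (d * d')⁻¹ := by
    calc d * (d * d') * d⁻¹ = (d * d) * d' * d⁻¹ := by group
      _ = d' * d⁻¹ := by rw [hd, one_mul]
      _ = d'⁻¹ * d⁻¹ := by rw [hd'inv]
      _ = (d * d')⁻¹ := by group
  have R6 : d * (d * g) * d⁻¹ = (d * g)⁻¹ := by
    calc d * (d * g) * d⁻¹ = (d * d) * g * d⁻¹ := by group
      _ = g * d⁻¹ := by rw [hd, one_mul]
      _ = g⁻¹ * d⁻¹ := by rw [hginv]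
      _ = (d * g)⁻¹ := by group
  have L := ap_aux d (d * d') (d * g) hd R1 R2 R3 R4 R5 R6
  have hgq : d * (d * g) = g := by rw [← mul_assoc, hd, one_mul]
  rw [hgq] at L
  exact L

end Cfsg.Agent.Lib.Helper58.TT5
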