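import Mathlib
import Cfsg.Prelude.Def_IsolatedElements
import Cfsg.Agent.Lib.Helper30.Cores
import Cfsg.Agent.Lib.Helper58.Isolated
import Cfsg.Agent.Lib.Helper58.SylowConj

/-!
# Minimal counterexamples to the `Z*_p` statement (helper58)

Reductions for a finite group `G` with an isolated element `x` of order `p` which is not central
modulo `O_{p'}(G)`, while this holds in proper subgroups containing `x` and in proper quotients.
-/

namespace Cfsg.Agent.Lib.Helper58

variable {G : Type*} [Group G]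

/-- If `N` is a normal `p'`-subgroup and the image of `x` is central modulo `O_{p'}` in `G ⧸ N`,
then `x` is central modulo `O_{p'}(G)`. -/
theorem inZStar_of_quotient_coprime [Finite G] {p : ℕ} {x : G} (N : Subgroup G) [N.Normal]
    (hN : (Nat.card ↥N).Coprime p) (h : InZStar p (QuotientGroup.mk x : G ⧸ N)) :
    InZStar p x := by
  intro g
  have hK : (pPrimeCore p (G ⧸ N)).comap (QuotientGroup.mk' N) ≤ pPrimeCore p G := by
    apply Helper30.le_pPrimeCore_of_normal
    · have hc := Helper30.pPrimeCore_characteristic (G := G ⧸ N) p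
      have hn : (pPrimeCore p (G ⧸ N)).Normal := Subgroup.normal_of_characteristic _
      exact hn.comap _
    · rw [Helper30.card_comap_mk']
      exact Nat.Coprime.mul_left hN (Helper30.pPrimeCore_coprime p)
  apply hK
  rw [Subgroup.mem_comap]
  have := h (QuotientGroup.mk g)
  simpa using this

theorem pPrimeCore_normal' (p : ℕ) : (pPrimeCore p G).Normal := by
  have hc := Helper30.pPrimeCore_characteristic (G := G) p
  exact Subgroup.normal_of_characteristic _

/-- In a minimal counterexample, `O_{p'}(G) = 1`. -/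
theorem pPrimeCore_eq_bot_of_min [Finite G] {p : ℕ} {x : G} (hnz : ¬ InZStar p x)
    (hquot : ∀ (N : Subgroup G) [N.Normal], N ≠ ⊥ → InZStar p (QuotientGroup.mk x : G ⧸ N)) :
    pPrimeCore p G = ⊥ := by
  by_contra h
  have hn : (pPrimeCore p G).Normal := pPrimeCore_normal' p
  exact hnz (inZStar_of_quotient_coprime _ (Helper30.pPrimeCore_coprime p) (hquot _ h))

theorem inZStar_iff {p : ℕ} {x : G} (hO : pPrimeCore p G = ⊥) :
    InZStar p x ↔ ∀ g : G, g * x * g⁻¹ = x := by
  unfold InZStar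
  rw [hO]
  simp only [Subgroup.mem_bot, mul_inv_eq_one]

theorem pPrimeCore_subgroup_eq_bot [Finite G] {p : ℕ} (hO : pPrimeCore p G = ⊥) {N : Subgroup G}
    (hN : N.Normal) : pPrimeCore p ↥N = ⊥ := by
  have := Helper30.pPrimeCore_map_subtype_le p hN.isSubnormal
  rw [hO, le_bot_iff] at this
  exact (Subgroup.map_eq_bot_iff_of_injective _ N.subtype_injective).mp this

theorem normal_coprime_eq_bot {p : ℕ} (hO : pPrimeCore p G = ⊥) {N : Subgroup G}
    (hN : N.Normal) (hc : (Nat.card ↥N).Coprime p) : N = ⊥ :=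
  le_bot_iff.mp (hO ▸ Helper30.le_pPrimeCore_of_normal hN hc)

/-- A `p'`-subgroup `M` of a normal subgroup `N` of `G` which is normalized by `N` is trivial
when `O_{p'}(G) = 1`. -/
theorem coprime_normal_in_normal_eq_bot [Finite G] {p : ℕ} (hO : pPrimeCore p G = ⊥)
    {N M : Subgroup G} (hN : N.Normal) (hMN : M ≤ N)
    (hnorm : N ≤ Subgroup.normalizer (M : Set G)) (hc : (Nat.card ↥M).Coprime p) : M = ⊥ := by
  have h1 : (M.subgroupOf N).Normal := (Subgroup.normal_subgroupOf_iff_le_normalizer hMN).mpr hnorm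
  have h2 : Nat.card ↥(M.subgroupOf N) = Nat.card ↥M :=
    Nat.card_congr (Subgroup.subgroupOfEquivOfLe hMN).toEquiv
  have h3 : M.subgroupOf N = ⊥ :=
    normal_coprime_eq_bot (pPrimeCore_subgroup_eq_bot hO hN) h1 (h2 ▸ hc)
  rw [Subgroup.subgroupOf_eq_bot] at h3
  exact h3.eq_bot_of_le hMN

/-- A finite commutative group with trivial `O_{p'}` is a `p`-group. -/
theorem isPGroup_of_comm_of_pPrimeCore_eq_bot {A : Type*} [Group A] [Finite A] {p : ℕ}
    [Fact p.Prime] (hcomm : ∀ a b : A, a * b = b * a) (hO : pPrimeCore p A = ⊥) :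
    IsPGroup p A := by
  have hcard : Nat.card A = p ^ (Nat.card A).primeFactorsList.length := by
    apply Nat.eq_prime_pow_of_unique_prime_dvd Nat.card_pos.ne'
    intro q hq hqd
    by_contra hqp
    have : Fact q.Prime := ⟨hq⟩
    obtain ⟨z, hz⟩ := exists_prime_orderOf_dvd_card' (G := A) q hqd
    have hZn : (Subgroup.zpowers z).Normal :=
      ⟨fun y hy g => by rw [hcomm g y, mul_inv_cancel_right]; exact hy⟩
    have hZc : (Nat.card ↥(Subgroup.zpowers z)).Coprime p := by
      rw [Nat.card_zpowers, hz]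
      exact (Nat.coprime_primes hq Fact.out).mpr hqp
    have hZ := normal_coprime_eq_bot hO hZn hZc
    rw [Subgroup.zpowers_eq_bot] at hZ
    rw [hZ, orderOf_one] at hz
    exact hq.one_lt.ne hz
  exact IsPGroup.of_card hcard

/-- In a minimal counterexample, `G` is the normal closure of `x`. -/
theorem normalClosure_eq_top_of_min [Finite G] {p : ℕ} {x : G}
    (hO : pPrimeCore p G = ⊥) (hiso : IsIsolated x) (hnz : ¬ InZStar p x)
    (hmin : ∀ (H : Subgroup G) (hxH : x ∈ H), H ≠ ⊤ → InZStar p (⟨x, hxH⟩ : ↥H)) :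
    Subgroup.normalClosure ({x} : Set G) = ⊤ := by
  by_contra hX
  have hxX : x ∈ Subgroup.normalClosure ({x} : Set G) :=
    Subgroup.subset_normalClosure (Set.mem_singleton x)
  have h1 := hmin _ hxX hX
  have hO' := pPrimeCore_subgroup_eq_bot hO (Subgroup.normalClosure_normal (s := ({x} : Set G)))
  apply hnz
  rw [inZStar_iff hO]
  intro g
  apply hiso
  have hg : g * x * g⁻¹ ∈ Subgroup.normalClosure ({x} : Set G) :=
    Subgroup.normalClosure_normal.conj_mem x hxX g
  have h2 := (inZStar_iff hO').mp h1 ⟨g * x * g⁻¹, hg⟩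
  have h3 : (g * x * g⁻¹) * x * (g * x * g⁻¹)⁻¹ = x := congrArg Subtype.val h2
  show x * (g * x * g⁻¹) = (g * x * g⁻¹) * x
  rw [mul_inv_eq_iff_eq_mul] at h3
  exact h3.symm

open scoped Pointwise in
/-- In a minimal counterexample, a normal subgroup `N` with `N⟨x⟩ ≠ G` is central. -/
theorem normal_le_center_of_sup_ne_top [Finite G] {p : ℕ} [Fact p.Prime] {x : G}
    (hx : orderOf x = p) (hO : pPrimeCore p G = ⊥) (hiso : IsIsolated x) (hnz : ¬ InZStar p x)
    (hmin : ∀ (H : Subgroup G) (hxH : x ∈ H), H ≠ ⊤ → InZStar p (⟨x, hxH⟩ : ↥H))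
    (N : Subgroup G) [hN : N.Normal] (hne : N ⊔ Subgroup.zpowers x ≠ ⊤) :
    N ≤ Subgroup.center G := by
  have hxH : x ∈ N ⊔ Subgroup.zpowers x :=
    (le_sup_right : Subgroup.zpowers x ≤ N ⊔ Subgroup.zpowers x) (Subgroup.mem_zpowers x)
  have h1 := hmin _ hxH hne
  have hNH : N ≤ N ⊔ Subgroup.zpowers x := le_sup_left
  have hOH : pPrimeCore p ↥(N ⊔ Subgroup.zpowers x) = ⊥ := by
    rw [eq_bot_iff]
    intro k hk
    have hcop : (Nat.card ↥(pPrimeCore p ↥(N ⊔ Subgroup.zpowers x))).Coprime p :=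
      Helper30.pPrimeCore_coprime p
    have hKn : (pPrimeCore p ↥(N ⊔ Subgroup.zpowers x)).Normal := pPrimeCore_normal' p
    -- step A : the p-th power of k lies in N
    have hA : (k : G) ^ p ∈ N := by
      have hk' : (k : G) ∈ ((N : Set G) * (Subgroup.zpowers x : Set G)) := by
        rw [← Subgroup.normal_mul]; exact k.2
      obtain ⟨n, hn, y, hy, hny⟩ := Set.mem_mul.mp hk'
      obtain ⟨i, rfl⟩ := Subgroup.mem_zpowers_iff.mp hy
      rw [← QuotientGroup.eq_one_iff (N := N), ← hny]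
      rw [QuotientGroup.mk_pow, QuotientGroup.mk_mul, (QuotientGroup.eq_one_iff n).mpr hn, one_mul,
        QuotientGroup.mk_zpow, ← zpow_natCast, ← zpow_mul, mul_comm, zpow_mul, zpow_natCast,
        ← QuotientGroup.mk_pow, ← hx, pow_orderOf_eq_one, QuotientGroup.mk_one, one_zpow]
    -- step B : the intersection of the core with N is trivial
    have hB : ((pPrimeCore p ↥(N ⊔ Subgroup.zpowers x)).map
        (N ⊔ Subgroup.zpowers x).subtype) ⊓ N = ⊥ := by
      apply coprime_normal_in_normal_eq_bot hO hN inf_le_right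
      · intro n hn
        apply mem_normalizer_of_conj_mem
        rintro y ⟨⟨y', hy', rfl⟩, hyN⟩
        refine ⟨?_, hN.conj_mem _ hyN n⟩
        refine ⟨(⟨n, hNH hn⟩ : ↥(N ⊔ Subgroup.zpowers x)) * y' *
          (⟨n, hNH hn⟩ : ↥(N ⊔ Subgroup.zpowers x))⁻¹, hKn.conj_mem y' hy' _, rfl⟩
      · have hd : Nat.card ↥(((pPrimeCore p ↥(N ⊔ Subgroup.zpowers x)).map
            (N ⊔ Subgroup.zpowers x).subtype) ⊓ N) ∣
            Nat.card ↥(pPrimeCore p ↥(N ⊔ Subgroup.zpowers x)) := by
          rw [← Helper30.card_map_subtype]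
          exact Subgroup.card_dvd_of_le inf_le_left
        exact Nat.Coprime.coprime_dvd_left hd hcop
    -- step C
    have hC : (k : G) ^ p = 1 := by
      have : (k : G) ^ p ∈ ((pPrimeCore p ↥(N ⊔ Subgroup.zpowers x)).map
          (N ⊔ Subgroup.zpowers x).subtype) ⊓ N :=
        ⟨⟨k ^ p, Subgroup.pow_mem _ hk p, rfl⟩, hA⟩
      rw [hB] at this
      exact Subgroup.mem_bot.mp this
    have hC' : k ^ p = 1 := Subtype.ext hC
    have hd1 : orderOf k ∣ p := orderOf_dvd_of_pow_eq_one hC'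
    have hd2 : orderOf k ∣ Nat.card ↥(pPrimeCore p ↥(N ⊔ Subgroup.zpowers x)) := by
      have := orderOf_dvd_natCard (⟨k, hk⟩ : ↥(pPrimeCore p ↥(N ⊔ Subgroup.zpowers x)))
      rwa [Subgroup.orderOf_mk] at this
    have hd3 : orderOf k = 1 := Nat.eq_one_of_dvd_coprimes hcop hd2 hd1
    exact Subgroup.mem_bot.mpr (orderOf_eq_one_iff.mp hd3)
  have h2 := (inZStar_iff hOH).mp h1
  have h3 : ∀ n ∈ N, n * x * n⁻¹ = x := fun n hn => congrArg Subtype.val (h2 ⟨n, hNH hn⟩)
  have h4 : Subgroup.normalClosure ({x} : Set G) ≤ Subgroup.centralizer (N : Set G) := by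
    apply (Subgroup.closure_le _).mpr
    intro y hy
    obtain ⟨a, ha, hay⟩ := Group.mem_conjugatesOfSet_iff.mp hy
    rw [Set.mem_singleton_iff] at ha
    subst ha
    obtain ⟨c, rfl⟩ := isConj_iff.mp hay
    show c * a * c⁻¹ ∈ Subgroup.centralizer (N : Set G)
    rw [Subgroup.mem_centralizer_iff]
    intro n hn
    have h5 := h3 (c⁻¹ * n * c) (by simpa using hN.conj_mem n hn c⁻¹)
    have h6 : c⁻¹ * n * c * a = a * (c⁻¹ * n * c) := by
      rw [mul_inv_eq_iff_eq_mul] at h5; exact h5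
    calc n * (c * a * c⁻¹) = c * (c⁻¹ * n * c * a) * c⁻¹ := by group
      _ = c * (a * (c⁻¹ * n * c)) * c⁻¹ := by rw [h6]
      _ = c * a * c⁻¹ * n := by group
  rw [normalClosure_eq_top_of_min hO hiso hnz hmin] at h4
  intro n hn
  rw [Subgroup.mem_center_iff]
  intro g
  exact (Subgroup.mem_centralizer_iff.mp (h4 (Subgroup.mem_top g)) n hn).symm

/-- In a minimal counterexample there is no nontrivial central normal subgroup. -/
theorem false_of_central_normal [Finite G] {p : ℕ} [Fact p.Prime] {x : G}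
    (hO : pPrimeCore p G = ⊥) (hiso : IsIsolated x) (hnz : ¬ InZStar p x)
    (hquot : ∀ (N : Subgroup G) [N.Normal], N ≠ ⊥ → InZStar p (QuotientGroup.mk x : G ⧸ N))
    (N : Subgroup G) [hN : N.Normal] (hne : N ≠ ⊥) (hNZ : N ≤ Subgroup.center G) : False := by
  have hcentral : ∀ n ∈ N, ∀ g : G, g * n = n * g := fun n hn g =>
    Subgroup.mem_center_iff.mp (hNZ hn) g
  -- N is a p-group
  have hNp : IsPGroup p ↥N := by
    apply isPGroup_of_comm_of_pPrimeCore_eq_bot _ (pPrimeCore_subgroup_eq_bot hO hN)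
    intro a b
    exact Subtype.ext (hcentral b b.2 a)
  obtain ⟨a, ha⟩ := IsPGroup.iff_card.mp hNp
  -- the preimage K of the p'-core of the quotient
  have hKn : ((pPrimeCore p (G ⧸ N)).comap (QuotientGroup.mk' N)).Normal := by
    have hn : (pPrimeCore p (G ⧸ N)).Normal := pPrimeCore_normal' p
    exact hn.comap _
  have hNK : N ≤ (pPrimeCore p (G ⧸ N)).comap (QuotientGroup.mk' N) := by
    intro n hn
    rw [Subgroup.mem_comap]
    have : (QuotientGroup.mk' N) n = 1 := (QuotientGroup.eq_one_iff n).mpr hn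
    rw [this]; exact Subgroup.one_mem _
  have hcardK := Helper30.card_comap_mk' N (pPrimeCore p (G ⧸ N))
  have hcardN' : Nat.card ↥(N.subgroupOf ((pPrimeCore p (G ⧸ N)).comap (QuotientGroup.mk' N))) =
      Nat.card ↥N := Nat.card_congr (Subgroup.subgroupOfEquivOfLe hNK).toEquiv
  have hidx : (N.subgroupOf ((pPrimeCore p (G ⧸ N)).comap (QuotientGroup.mk' N))).index =
      Nat.card ↥(pPrimeCore p (G ⧸ N)) := by
    have h1 := Subgroup.card_mul_index
      (N.subgroupOf ((pPrimeCore p (G ⧸ N)).comap (QuotientGroup.mk' N)))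
    rw [hcardN', hcardK] at h1
    exact Nat.eq_of_mul_eq_mul_left Nat.card_pos h1
  have hcop : Nat.Coprime
      (Nat.card ↥(N.subgroupOf ((pPrimeCore p (G ⧸ N)).comap (QuotientGroup.mk' N))))
      (N.subgroupOf ((pPrimeCore p (G ⧸ N)).comap (QuotientGroup.mk' N))).index := by
    rw [hcardN', hidx, ha]
    exact Nat.Coprime.pow_left a (Helper30.pPrimeCore_coprime p).symm
  obtain ⟨H', hH'⟩ := Subgroup.exists_right_complement'_of_coprime hcop
  have hH'n : H'.Normal := by
    refine ⟨fun h hh k => ?_⟩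
    obtain ⟨⟨n, h₀⟩, hnh, -⟩ := (Subgroup.isComplement_iff_existsUnique.mp hH' k)
    have hn : ∀ y : ↥((pPrimeCore p (G ⧸ N)).comap (QuotientGroup.mk' N)),
        y * (n : ↥((pPrimeCore p (G ⧸ N)).comap (QuotientGroup.mk' N))) = n * y := by
      intro y
      apply Subtype.ext
      exact hcentral _ (Subgroup.mem_subgroupOf.mp n.2) y
    have hk : k = (n : ↥((pPrimeCore p (G ⧸ N)).comap (QuotientGroup.mk' N))) * h₀ := hnh.symm
    have : k * h * k⁻¹ = (h₀ : ↥((pPrimeCore p (G ⧸ N)).comap (QuotientGroup.mk' N))) * h *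
        (h₀ : ↥((pPrimeCore p (G ⧸ N)).comap (QuotientGroup.mk' N)))⁻¹ := by
      calc k * h * k⁻¹
          = (n : ↥((pPrimeCore p (G ⧸ N)).comap (QuotientGroup.mk' N))) *
            ((h₀ : ↥((pPrimeCore p (G ⧸ N)).comap (QuotientGroup.mk' N))) * h *
              (h₀ : ↥((pPrimeCore p (G ⧸ N)).comap (QuotientGroup.mk' N)))⁻¹) *
            (n : ↥((pPrimeCore p (G ⧸ N)).comap (QuotientGroup.mk' N)))⁻¹ := by
            rw [hk]; group
        _ = ((h₀ : ↥((pPrimeCore p (G ⧸ N)).comap (QuotientGroup.mk' N))) * h *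
              (h₀ : ↥((pPrimeCore p (G ⧸ N)).comap (QuotientGroup.mk' N)))⁻¹) *
            (n : ↥((pPrimeCore p (G ⧸ N)).comap (QuotientGroup.mk' N))) *
            (n : ↥((pPrimeCore p (G ⧸ N)).comap (QuotientGroup.mk' N)))⁻¹ := by
            rw [hn]
        _ = _ := by group
    rw [this]
    exact H'.mul_mem (H'.mul_mem h₀.2 hh) (H'.inv_mem h₀.2)
  have hH'c : (Nat.card ↥H').Coprime p := by
    rw [← hH'.symm.index_eq_card, hidx]
    exact Helper30.pPrimeCore_coprime p
  have hH'bot : H' = ⊥ := normal_coprime_eq_bot (pPrimeCore_subgroup_eq_bot hO hKn) hH'n hH'c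
  rw [hH'bot, Subgroup.isComplement'_bot_right, Subgroup.subgroupOf_eq_top] at hH'
  apply hnz
  rw [inZStar_iff hO]
  intro g
  apply hiso
  have hc : g * x * g⁻¹ * x⁻¹ ∈ N := by
    apply hH'
    rw [Subgroup.mem_comap]
    have := hquot N hne (QuotientGroup.mk g)
    simpa using this
  have h7 := hcentral _ hc x
  show x * (g * x * g⁻¹) = (g * x * g⁻¹) * x
  calc x * (g * x * g⁻¹) = x * (g * x * g⁻¹ * x⁻¹) * x := by group
    _ = (g * x * g⁻¹ * x⁻¹) * x * x := by rw [h7]
    _ = (g * x * g⁻¹) * x := by group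

/-- In a minimal counterexample, `G = N⟨x⟩` for every nontrivial normal subgroup `N`. -/
theorem normal_sup_zpowers_eq_top [Finite G] {p : ℕ} [Fact p.Prime] {x : G}
    (hx : orderOf x = p) (hiso : IsIsolated x) (hnz : ¬ InZStar p x)
    (hmin : ∀ (H : Subgroup G) (hxH : x ∈ H), H ≠ ⊤ → InZStar p (⟨x, hxH⟩ : ↥H))
    (hquot : ∀ (N : Subgroup G) [N.Normal], N ≠ ⊥ → InZStar p (QuotientGroup.mk x : G ⧸ N))
    (N : Subgroup G) [hN : N.Normal] (hne : N ≠ ⊥) : N ⊔ Subgroup.zpowers x = ⊤ := by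
  by_contra h
  have hO := pPrimeCore_eq_bot_of_min hnz hquot
  exact false_of_central_normal hO hiso hnz hquot N hne
    (normal_le_center_of_sup_ne_top hx hO hiso hnz hmin N h)

end Cfsg.Agent.Lib.Helper58
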